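import Mathlib

/-!
# `SL(2, 3)`: kernel-checked facts and its actions on groups of order nine

Facts used in the three-local recognition of `PSL(4, 3)`.
-/

set_option autoImplicit false
set_option maxHeartbeats 800000

namespace Cfsg.Agent.Spor.L43Three

/-- `SL(2, 3)`. -/
abbrev SL23 := Matrix.SpecialLinearGroup (Fin 2) (ZMod 3)

local instance instFintypeSL23' : Fintype SL23 := Subtype.fintype _
local instance instDecEqSL23' : DecidableEq SL23 := fun a b => decidable_of_iff (a.1 = b.1) Subtype.ext_iff.symm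

/-- The central involution. -/
def negOne : SL23 := ⟨!![2, 0; 0, 2], by decide⟩

theorem negOne_mul_self : negOne * negOne = 1 := by decide +kernel

theorem negOne_ne : negOne ≠ 1 := by decide +kernel

theorem negOne_comm : ∀ g : SL23, negOne * g = g * negOne := by decide +kernel

theorem negOne_inv : negOne⁻¹ = negOne := inv_eq_of_mul_eq_one_right negOne_mul_self

theorem eq_negOne_of_sq : ∀ g : SL23, g * g = 1 → g = 1 ∨ g = negOne := by decide +kernel

theorem card_SL23 : Nat.card SL23 = 24 := by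
  rw [Nat.card_eq_fintype_card]; decide +kernel

theorem pow_twentyfour (g : SL23) : g ^ 24 = 1 := card_SL23 ▸ pow_card_eq_one'

/-- The elements of three-power order have cube one. -/
theorem cube_of_three_pow {g : SL23} {k : ℕ} (h : g ^ 3 ^ k = 1) : g ^ 3 = 1 := by
  have h1 : orderOf g ∣ 3 ^ k := orderOf_dvd_of_pow_eq_one h
  have h2 : orderOf g ∣ 24 := orderOf_dvd_of_pow_eq_one (pow_twentyfour g)
  refine orderOf_dvd_iff_pow_eq_one.1 ?_
  have h3 : orderOf g ∣ Nat.gcd (3 ^ k) 24 := Nat.dvd_gcd h1 h2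
  refine h3.trans ?_
  obtain ⟨i, -, hi⟩ := (Nat.dvd_prime_pow Nat.prime_three).1 (Nat.gcd_dvd_left (3 ^ k) 24)
  rw [hi]
  have h4 : 3 ^ i ∣ 24 := hi ▸ Nat.gcd_dvd_right (3 ^ k) 24
  rcases i with _ | _ | i
  · simp
  · simp
  · exact absurd ((pow_dvd_pow 3 (by omega : 2 ≤ i + 2)).trans h4) (by norm_num)

/-- The elements of cube one generate. -/
theorem two_products : ∀ g : SL23, g = negOne ∨ ∃ a b : SL23, a ^ 3 = 1 ∧ b ^ 3 = 1 ∧ g = a * b := by decide +kernel

theorem negOne_product : ∃ a b : SL23, a ^ 3 = 1 ∧ b ^ 3 = 1 ∧ negOne = a * b * (a * b) := by decide +kernel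

theorem eq_top_of_cube_mem {H : Subgroup SL23} (h : ∀ a : SL23, a ^ 3 = 1 → a ∈ H) : H = ⊤ := by
  refine eq_top_iff.2 fun g _ => ?_
  rcases two_products g with rfl | ⟨a, b, ha, hb, rfl⟩
  · obtain ⟨a, b, ha, hb, e⟩ := negOne_product
    rw [e]; exact mul_mem (mul_mem (h a ha) (h b hb)) (mul_mem (h a ha) (h b hb))
  · exact mul_mem (h a ha) (h b hb)

/-- An element of order three cycles three quaternion units. -/
theorem exists_quat : ∀ D : SL23, D ^ 3 = 1 → D ≠ 1 → ∃ I : SL23, I * I = negOne ∧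
    D * (D * I * D⁻¹) * D⁻¹ = I * (D * I * D⁻¹) ∧ (D * I * D⁻¹) * (D * I * D⁻¹) = negOne ∧
    (D * I * D⁻¹) * I = negOne * (I * (D * I * D⁻¹)) := by decide +kernel

/-- Outside the group of an element of order three every coset reaches the centre. -/
theorem stab_cases : ∀ D : SL23, D ^ 3 = 1 → D ≠ 1 → ∀ g : SL23, g = 1 ∨ g = D ∨ g = D * D ∨
    ∃ k : Fin 3, g * D ^ (k : ℕ) * (g * D ^ (k : ℕ)) = negOne ∨ g * D ^ (k : ℕ) = negOne := by decide +kernel

/-- No nontrivial normal three-subgroup. -/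
theorem eq_one_of_conj_comm : ∀ x : SL23, x ^ 3 = 1 → (∀ g : SL23, g * x * g⁻¹ * x = x * (g * x * g⁻¹)) → x = 1 := by
  decide +kernel

/-- A three-subgroup is cyclic of order at most three. -/
theorem three_pair : ∀ a b : SL23, a ^ 3 = 1 → b ^ 3 = 1 → (a * b) ^ 3 = 1 → (a * b * b) ^ 3 = 1 →
    a = 1 ∨ b = 1 ∨ b = a ∨ b = a * a := by decide +kernel

/-- The elements reaching the centre lie in the quaternion group of a frame. -/
theorem quat_cases : ∀ D I : SL23, D ^ 3 = 1 → D ≠ 1 → I * I = negOne →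
    D * (D * I * D⁻¹) * D⁻¹ = I * (D * I * D⁻¹) → ∀ u : SL23, (u * u = negOne ∨ u = negOne) →
    u = negOne ∨ u = I ∨ u = negOne * I ∨ u = D * I * D⁻¹ ∨ u = negOne * (D * I * D⁻¹) ∨
      u = I * (D * I * D⁻¹) ∨ u = negOne * (I * (D * I * D⁻¹)) := by decide +kernel

section Nine

variable {E : Type*} [CommGroup E]

/-- `SL(2, 3)` acting irreducibly and nontrivially on an elementary group of order nine: the central
involution inverts. -/
theorem negOne_inverts (h9 : Nat.card E = 9) (h3 : ∀ e : E, e ^ 3 = 1) (φ : SL23 →* MulAut E)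
    (hirr : ∀ B : Subgroup E, (∀ g, ∀ b ∈ B, φ g b ∈ B) → B = ⊥ ∨ B = ⊤)
    (hnt : ∃ g e, φ g e ≠ e) (e : E) : φ negOne e = e⁻¹ := by
  have hconj : ∀ g h : SL23, ∀ x, φ g (φ h x) = φ (g * h) x := fun g h x => by
    rw [map_mul, MulAut.mul_apply]
  let F : Subgroup E :=
    { carrier := {x | φ negOne x = x}
      one_mem' := map_one _
      mul_mem' := fun {a b} ha hb => by show φ negOne (a * b) = a * b; rw [map_mul, ha, hb]
      inv_mem' := fun {a} ha => by show φ negOne a⁻¹ = a⁻¹; rw [map_inv, ha] }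
  rcases hirr F (fun g b hb => by
      show φ negOne (φ g b) = φ g b
      rw [hconj, negOne_comm, ← hconj, show φ negOne b = b from hb]) with hF | hF
  · have h : e * φ negOne e ∈ F := by
      show φ negOne (e * φ negOne e) = e * φ negOne e
      rw [map_mul, hconj, negOne_mul_self, map_one, MulAut.one_apply, mul_comm]
    rw [hF, Subgroup.mem_bot] at h
    exact eq_inv_of_mul_eq_one_right h
  exfalso
  have ht : ∀ x, φ negOne x = x := fun x => by
    have : x ∈ F := hF ▸ Subgroup.mem_top x
    exact this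
  let X : Subgroup E :=
    { carrier := {x | ∀ g, φ g x = x}
      one_mem' := fun g => map_one _
      mul_mem' := fun {a b} ha hb g => by rw [map_mul, ha, hb]
      inv_mem' := fun {a} ha g => by rw [map_inv, ha] }
  have hX : X = ⊥ := (hirr X (fun g b hb k => by rw [hb g]; exact hb k)).resolve_right fun hX => by
    obtain ⟨g, x, hx⟩ := hnt
    have : x ∈ X := hX ▸ Subgroup.mem_top x
    exact hx (this g)
  obtain ⟨D, hD3, hD1⟩ : ∃ D : SL23, D ^ 3 = 1 ∧ D ≠ 1 := by decide +kernel
  obtain ⟨I, hI, hDJ, hJ, hJI⟩ := exists_quat D hD3 hD1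
  set J := D * I * D⁻¹ with hJdef
  have h1 : ∀ x, φ D (φ D (φ D x)) = x := fun x => by
    rw [hconj, hconj, ← pow_two, ← pow_succ, hD3, map_one, MulAut.one_apply]
  obtain ⟨f, hf1, hf⟩ : ∃ f, f ≠ 1 ∧ φ D f = f := by
    by_contra hh
    push Not at hh
    have key : ∀ x, x * φ D x * φ D (φ D x) = 1 := fun x => by
      by_contra hne
      refine hh _ hne ?_
      rw [map_mul, map_mul, h1, mul_comm, mul_assoc]
    have hfix : ∀ x, φ D x = x := fun x => by
      have hg : φ D (φ D x * x⁻¹) = φ D x * x⁻¹ := by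
        rw [map_mul, map_inv]
        have k1 : φ D (φ D x) = (x * φ D x)⁻¹ := eq_inv_of_mul_eq_one_right (key x)
        rw [k1, mul_inv_rev]
        calc (φ D x)⁻¹ * x⁻¹ * (φ D x)⁻¹ = (φ D x) ^ 3 * ((φ D x)⁻¹ * x⁻¹ * (φ D x)⁻¹) := by rw [h3, one_mul]
          _ = φ D x * x⁻¹ := by
              rw [pow_three, mul_comm (φ D x)⁻¹ x⁻¹]; simp [mul_assoc, mul_comm, mul_left_comm]
      by_cases hg1 : φ D x * x⁻¹ = 1
      · exact mul_inv_eq_one.1 hg1
      · exact absurd hg (hh _ hg1)
    obtain ⟨x, hx⟩ : ∃ x : E, x ≠ 1 := by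
      by_contra hall
      push Not at hall
      have : Subsingleton E := ⟨fun a b => by rw [hall a, hall b]⟩
      rw [Nat.card_unique] at h9
      omega
    exact hh x hx (hfix x)
  set i := φ I f with hidef
  set j := φ J f with hjdef
  set k := φ (I * J) f with hkdef
  have hDi : φ D i = j := by
    rw [hidef, hjdef, hJdef, hconj]
    conv_rhs => rw [map_mul, MulAut.mul_apply]
    have : φ D⁻¹ f = f := by rw [map_inv]; exact (MulEquiv.symm_apply_eq _).2 hf.symm
    rw [this]
  have hDj : φ D j = k := by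
    rw [hkdef, ← hDJ, hjdef, hconj]
    conv_rhs => rw [map_mul, MulAut.mul_apply]
    have : φ D⁻¹ f = f := by rw [map_inv]; exact (MulEquiv.symm_apply_eq _).2 hf.symm
    rw [this]
  have hDk : φ D k = i := by rw [← hDj, ← hDi, h1]
  have hIi : φ I i = f := by rw [hidef, hconj, hI, ht]
  have hJj : φ J j = f := by rw [hjdef, hconj, hJ, ht]
  have hIj : φ I j = k := by rw [hjdef, hconj]
  have hJi : φ J i = k := by rw [hidef, hconj, hJI, ← hconj, ht]
  have hIk : φ I k = j := by rw [hkdef, hconj, ← mul_assoc, hI, ← hconj, ht]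
  have hJk : φ J k = i := by
    rw [hkdef, hconj, ← mul_assoc, hJI, mul_assoc, mul_assoc, hJ, ← hconj, ht, ← hconj, ht]
  have hsum : f * i * j * k = 1 := by
    have hm : f * i * j * k ∈ X := by
      let T : Subgroup SL23 :=
        { carrier := {g | φ g (f * i * j * k) = f * i * j * k}
          one_mem' := by simp
          mul_mem' := fun {a b} ha hb => by
            show φ (a * b) (f * i * j * k) = _
            rw [← hconj, hb, ha]
          inv_mem' := fun {a} ha => by
            show φ a⁻¹ (f * i * j * k) = _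
            rw [map_inv]; exact (MulEquiv.symm_apply_eq _).2 ha.symm }
      have hI' : I ∈ T := by
        show φ I (f * i * j * k) = _
        rw [map_mul, map_mul, map_mul, hIi, hIj, hIk, ← hidef]
        simp [mul_comm, mul_left_comm]
      have hD' : D ∈ T := by
        show φ D (f * i * j * k) = _
        rw [map_mul, map_mul, map_mul, hf, hDi, hDj, hDk]
        simp [mul_comm, mul_left_comm]
      have hgen : ∀ g : SL23, g ∈ T := by
        have hJ' : J ∈ T := mul_mem (mul_mem hD' hI') (inv_mem hD')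
        have hneg : negOne ∈ T := hI ▸ mul_mem hI' hI'
        intro g
        rcases stab_cases D hD3 hD1 g with rfl | rfl | rfl | ⟨m, hm⟩
        · exact one_mem _
        · exact hD'
        · exact mul_mem hD' hD'
        · have key := quat_cases D I hD3 hD1 hI hDJ
          have hu : g * D ^ (m : ℕ) ∈ T := by
            rcases key _ hm with h | h | h | h | h | h | h <;> rw [h]
            exacts [hneg, hI', mul_mem hneg hI', hJ', mul_mem hneg hJ', mul_mem hI' hJ',
              mul_mem hneg (mul_mem hI' hJ')]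
          simpa using mul_mem hu (inv_mem (pow_mem hD' (m : ℕ)))
      exact hgen
    rwa [hX, Subgroup.mem_bot] at hm
  -- the three eigenvectors
  have hIa : φ I (f * i) = f * i := by rw [map_mul, hIi, ← hidef, mul_comm]
  have hJa : φ J (f * i) = (f * i)⁻¹ := by
    rw [map_mul, hJi, ← hjdef]
    refine eq_inv_of_mul_eq_one_left ?_
    rw [← hsum]; simp [mul_comm, mul_left_comm]
  have hJb : φ J (f * j) = f * j := by rw [map_mul, hJj, ← hjdef, mul_comm]
  have hIb : φ I (f * j) = (f * j)⁻¹ := by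
    rw [map_mul, hIj, ← hidef]
    refine eq_inv_of_mul_eq_one_left ?_
    rw [← hsum]; simp [mul_comm, mul_left_comm]
  have hIc : φ I (f * k) = (f * k)⁻¹ := by
    rw [map_mul, hIk, ← hidef]
    refine eq_inv_of_mul_eq_one_left ?_
    rw [← hsum]; simp [mul_comm, mul_left_comm]
  have hJc : φ J (f * k) = (f * k)⁻¹ := by
    rw [map_mul, hJk, ← hjdef]
    refine eq_inv_of_mul_eq_one_left ?_
    rw [← hsum]; simp [mul_comm, mul_left_comm]
  have hsq : ∀ x : E, x = x⁻¹ → x = 1 := fun x hx => by
    have h2 : x * x = 1 := by nth_rw 2 [hx]; exact mul_inv_cancel x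
    have := h3 x
    rwa [pow_three, h2, mul_one] at this
  have hDa : φ D (f * i) = f * j := by rw [map_mul, hf, hDi]
  have hDb : φ D (f * j) = f * k := by rw [map_mul, hf, hDj]
  by_cases ha : f * i = 1
  · have hb : f * j = 1 := by rw [← hDa, ha, map_one]
    have hc : f * k = 1 := by rw [← hDb, hb, map_one]
    have hi : i = f⁻¹ := eq_inv_of_mul_eq_one_right ha
    have hj : j = f⁻¹ := eq_inv_of_mul_eq_one_right hb
    have hk : k = f⁻¹ := eq_inv_of_mul_eq_one_right hc
    have : k = f := by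
      rw [← hIj, hj, map_inv, ← hidef, hi, inv_inv]
    exact hf1 (hsq f (this.symm.trans hk))
  · have hbne : f * j ≠ 1 := fun h => ha (by
      have := congrArg (φ D).symm (hDa.trans h)
      simpa using this)
    have hcne : f * k ≠ 1 := fun h => hbne (by
      have := congrArg (φ D).symm (hDb.trans h)
      simpa using this)
    set a := f * i
    set b := f * j
    set c := f * k
    -- `a` and `b` span
    have hsurj : Function.Surjective fun p : Fin 3 × Fin 3 => a ^ (p.1 : ℕ) * b ^ (p.2 : ℕ) := by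
      haveI : Finite E := Nat.finite_of_card_ne_zero (by omega)
      refine ((Nat.bijective_iff_injective_and_card _).2 ⟨fun p q hpq => ?_, by simp [h9]⟩).2
      have hJpq := congrArg (φ J) hpq
      have hIpq := congrArg (φ I) hpq
      simp only [map_mul, map_pow, hJa, hJb, hIa, hIb, inv_pow] at hJpq hIpq hpq
      have e1 : b ^ (p.2 : ℕ) * b ^ (p.2 : ℕ) = b ^ (q.2 : ℕ) * b ^ (q.2 : ℕ) := by
        have := congrArg₂ (· * ·) hpq hJpq
        rwa [mul_mul_mul_comm, mul_inv_cancel, one_mul, mul_mul_mul_comm, mul_inv_cancel, one_mul] at this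
      have e2 : a ^ (p.1 : ℕ) * a ^ (p.1 : ℕ) = a ^ (q.1 : ℕ) * a ^ (q.1 : ℕ) := by
        have := congrArg₂ (· * ·) hpq hIpq
        rwa [mul_mul_mul_comm, mul_inv_cancel, mul_one, mul_mul_mul_comm, mul_inv_cancel, mul_one] at this
      have inj : ∀ x : E, x ≠ 1 → ∀ m n : Fin 3, x ^ (m : ℕ) * x ^ (m : ℕ) = x ^ (n : ℕ) * x ^ (n : ℕ) → m = n := by
        intro x hx m n h
        have ho : orderOf x = 3 := orderOf_eq_prime (h3 x) hx
        rw [← pow_add, ← pow_add, pow_eq_pow_iff_modEq, ho] at h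
        unfold Nat.ModEq at h
        omega
      exact Prod.ext (inj a ha _ _ e2) (inj b hbne _ _ e1)
    obtain ⟨⟨m, n⟩, hmn⟩ := hsurj c
    have hmn' : a ^ (m : ℕ) * b ^ (n : ℕ) = c := hmn
    have hI2 := congrArg (φ I) hmn'
    have hJ2 := congrArg (φ J) hmn'
    rw [map_mul, map_pow, map_pow, hIa, hIb, hIc, ← hmn', inv_pow, mul_inv] at hI2
    rw [map_mul, map_pow, map_pow, hJa, hJb, hJc, ← hmn', inv_pow, mul_inv] at hJ2
    have ea := hsq _ (mul_right_cancel hI2)
    have eb := hsq _ (mul_left_cancel hJ2)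
    exact hcne (by rw [← hmn', ea, eb, one_mul])

end Nine

end Cfsg.Agent.Spor.L43Three
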