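import Mathlib
import Cfsg.Agent.Lib.Spor.L43Three.SL23

/-!
The three-local data of `PSL(4, 3)`: the element `z`, the extraspecial group `Q` of order `3⁵` in its
centraliser with `SL(2, 3)` on top, the central involution of which inverts `Q` modulo `⟨z⟩`, and a conjugate
of `z` in `Q` outside `⟨z⟩`.
-/

set_option autoImplicit false

namespace Cfsg.Agent.Spor.L43Three

open Subgroup

universe u

/-- The data. -/
structure Hyp (G : Type u) [Group G] : Type u where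
  z : G
  Q : Subgroup G
  π : ↥(Subgroup.centralizer ({z} : Set G)) →* SL23
  z_order : orderOf z = 3
  z_Q : z ∈ Q
  Q_card : Nat.card Q = 243
  Q_cube : ∀ a ∈ Q, a ^ 3 = 1
  z_cen : ∀ a ∈ Q, Commute z a
  Q_comm : ∀ a ∈ Q, ∀ b ∈ Q, a * b * a⁻¹ * b⁻¹ ∈ Subgroup.zpowers z
  Q_cen : ∀ a ∈ Q, (∀ b ∈ Q, Commute a b) → a ∈ Subgroup.zpowers z
  cent_Q : ∀ g : G, (∀ q ∈ Q, Commute g q) → g ∈ Q
  π_surj : Function.Surjective π
  π_ker : ∀ c : ↥(Subgroup.centralizer ({z} : Set G)), π c = 1 ↔ (c : G) ∈ Q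
  sylow : ∀ P : Sylow 3 G, Nat.card P = 729
  inv_mod : ∀ c : ↥(Subgroup.centralizer ({z} : Set G)), π c = negOne →
    ∀ q ∈ Q, (c : G) * q * (c : G)⁻¹ * q ∈ Subgroup.zpowers z
  g0 : G
  y_Q : g0 * z * g0⁻¹ ∈ Q
  y_not : g0 * z * g0⁻¹ ∉ Subgroup.zpowers z

namespace Hyp

variable {G : Type u} [Group G] (H : Hyp G)

/-- `g` centralises `z` and has image `σ`. -/
def Img (g : G) (σ : SL23) : Prop :=
  ∃ h : g ∈ centralizer ({H.z} : Set G), H.π ⟨g, h⟩ = σ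

theorem mem_C {g : G} : g ∈ centralizer ({H.z} : Set G) ↔ Commute g H.z :=
  mem_centralizer_singleton_iff

theorem z_mem_zpowers : H.z ∈ zpowers H.z := mem_zpowers H.z

theorem exists_img {g : G} (h : Commute g H.z) : ∃ σ, H.Img g σ := ⟨_, H.mem_C.2 h, rfl⟩

theorem exists_lift (σ : SL23) : ∃ g, H.Img g σ := by
  obtain ⟨c, hc⟩ := H.π_surj σ
  exact ⟨c, c.2, hc⟩

variable {H}

theorem Img.comm {g : G} {σ : SL23} (h : H.Img g σ) : Commute g H.z := H.mem_C.1 h.1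

theorem Img.mem {g : G} {σ : SL23} (h : H.Img g σ) : g ∈ centralizer ({H.z} : Set G) := h.1

theorem Img.unique {g : G} {σ τ : SL23} (h : H.Img g σ) (h' : H.Img g τ) : σ = τ := by
  rw [← h.2, ← h'.2]

theorem Img.mul {g g' : G} {σ σ' : SL23} (h : H.Img g σ) (h' : H.Img g' σ') : H.Img (g * g') (σ * σ') :=
  ⟨mul_mem h.1 h'.1, by rw [← h.2, ← h'.2, ← map_mul]; rfl⟩

theorem Img.inv {g : G} {σ : SL23} (h : H.Img g σ) : H.Img g⁻¹ σ⁻¹ :=
  ⟨inv_mem h.1, by rw [← h.2, ← map_inv]; rfl⟩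

theorem Img.pow {g : G} {σ : SL23} (h : H.Img g σ) (n : ℕ) : H.Img (g ^ n) (σ ^ n) :=
  ⟨pow_mem h.1 n, by rw [← h.2, ← map_pow]; rfl⟩

theorem Img.conj {g c : G} {σ γ : SL23} (h : H.Img g σ) (hc : H.Img c γ) :
    H.Img (c * g * c⁻¹) (γ * σ * γ⁻¹) := (hc.mul h).mul hc.inv

theorem img_one : H.Img 1 1 := ⟨one_mem _, map_one H.π⟩

theorem img_Q {q : G} (hq : q ∈ H.Q) : H.Img q 1 :=
  ⟨H.mem_C.2 (H.z_cen q hq).symm, (H.π_ker _).2 hq⟩

theorem Img.mem_Q {g : G} (h : H.Img g 1) : g ∈ H.Q := (H.π_ker ⟨g, h.1⟩).1 h.2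

theorem img_one_iff {g : G} : H.Img g 1 ↔ g ∈ H.Q := ⟨fun h => h.mem_Q, img_Q⟩

/-- `Q` is normalised by the centraliser of `z`. -/
theorem Img.norm {g q : G} {σ : SL23} (h : H.Img g σ) (hq : q ∈ H.Q) : g * q * g⁻¹ ∈ H.Q := by
  have h1 := (img_Q hq).conj h
  rw [mul_one, mul_inv_cancel] at h1
  exact h1.mem_Q

/-- Elements with the same image differ by an element of `Q`. -/
theorem Img.quot {g g' : G} {σ : SL23} (h : H.Img g σ) (h' : H.Img g' σ) : g⁻¹ * g' ∈ H.Q := by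
  have h1 := h.inv.mul h'
  rw [inv_mul_cancel] at h1
  exact h1.mem_Q

variable (H)

theorem norm_Q {g q : G} (hg : Commute g H.z) (hq : q ∈ H.Q) : g * q * g⁻¹ ∈ H.Q := by
  obtain ⟨σ, h⟩ := H.exists_img hg
  exact h.norm hq

theorem inv_mod' {g : G} (h : H.Img g negOne) {q : G} (hq : q ∈ H.Q) :
    g * q * g⁻¹ * q ∈ zpowers H.z := H.inv_mod ⟨g, h.1⟩ h.2 q hq

theorem Z_le_Q : zpowers H.z ≤ H.Q := zpowers_le.2 H.z_Q

theorem z_cube : H.z ^ 3 = 1 := H.z_order ▸ pow_orderOf_eq_one H.z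

theorem z_ne : H.z ≠ 1 := fun h => by simpa [h] using H.z_order

theorem card_Z : Nat.card (zpowers H.z) = 3 := by rw [Nat.card_zpowers, H.z_order]

theorem Z_cen {x q : G} (hx : x ∈ zpowers H.z) (hq : q ∈ H.Q) : Commute x q := by
  obtain ⟨i, rfl⟩ := hx
  exact (H.z_cen q hq).zpow_left i

theorem Z_comm {x g : G} (hx : x ∈ zpowers H.z) (hg : Commute g H.z) : Commute g x := by
  obtain ⟨i, rfl⟩ := hx
  exact hg.zpow_right i

theorem Q_isPGroup : IsPGroup 3 H.Q := IsPGroup.of_card (n := 5) (by rw [H.Q_card]; norm_num)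

theorem card_C : Nat.card ↥(centralizer ({H.z} : Set G)) = 5832 := by
  have hker : H.π.ker = H.Q.subgroupOf (centralizer ({H.z} : Set G)) := by
    ext c; rw [MonoidHom.mem_ker, mem_subgroupOf]; exact H.π_ker c
  have hQC : H.Q ≤ centralizer ({H.z} : Set G) := fun q hq => (img_Q hq).1
  have h := Subgroup.card_mul_index H.π.ker
  rw [Subgroup.index_ker, H.π.range_eq_top.2 H.π_surj, Subgroup.card_top, card_SL23, hker,
    Nat.card_congr (subgroupOfEquivOfLe hQC).toEquiv, H.Q_card] at h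
  omega

end Hyp

end Cfsg.Agent.Spor.L43Three
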