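import Mathlib
import Cfsg.Agent.Lib.Spor.L43Three.Hyp

/-!
`Q` modulo its centre as a symplectic space over the field with three elements, with the action of `SL(2, 3)`.
-/

set_option autoImplicit false
set_option linter.unusedSectionVars false

namespace Cfsg.Agent.Spor.L43Three

open Subgroup

universe u

variable {G : Type u} [Group G]

namespace Hyp

variable (H : Hyp G)

/-- The centre inside `Q`. -/
def Zs : Subgroup H.Q := (zpowers H.z).subgroupOf H.Q

instance : H.Zs.Normal := ⟨fun x hx q => by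
  rw [Zs, mem_subgroupOf] at hx ⊢
  have : (q : G) * x * (q : G)⁻¹ = x := by rw [← (H.Z_cen hx q.2).eq, mul_inv_cancel_right]
  simpa [this] using hx⟩

theorem quot_comm (x y : H.Q ⧸ H.Zs) : x * y = y * x := by
  induction x using QuotientGroup.induction_on with
  | H a =>
    induction y using QuotientGroup.induction_on with
    | H b =>
      rw [← QuotientGroup.mk_mul, ← QuotientGroup.mk_mul, QuotientGroup.eq, Zs, mem_subgroupOf]
      have := H.Q_comm _ (inv_mem b.2) _ (inv_mem a.2)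
      simpa [mul_assoc] using this

instance : CommGroup (H.Q ⧸ H.Zs) := { (inferInstance : Group (H.Q ⧸ H.Zs)) with mul_comm := H.quot_comm }

/-- `Q` modulo its centre, written additively. -/
abbrev M := Additive (H.Q ⧸ H.Zs)

theorem M_three (m : H.M) : (3 : ℕ) • m = 0 := by
  induction m using Additive.rec with
  | _ x =>
    induction x using QuotientGroup.induction_on with
    | H a =>
      rw [← ofMul_pow, ← QuotientGroup.mk_pow, show a ^ 3 = 1 from Subtype.ext (H.Q_cube a a.2)]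
      rfl

instance : Module (ZMod 3) H.M := AddCommGroup.zmodModule H.M_three

/-- The class of an element of `Q`. -/
def cl (q : H.Q) : H.M := Additive.ofMul (QuotientGroup.mk q)

theorem cl_surj (m : H.M) : ∃ q, H.cl q = m := by
  induction m using Additive.rec with
  | _ x =>
    induction x using QuotientGroup.induction_on with
    | H a => exact ⟨a, rfl⟩

theorem cl_mul (a b : H.Q) : H.cl (a * b) = H.cl a + H.cl b := rfl

theorem cl_inv (a : H.Q) : H.cl a⁻¹ = -H.cl a := rfl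

theorem cl_one : H.cl 1 = 0 := rfl

theorem cl_eq_zero {a : H.Q} : H.cl a = 0 ↔ (a : G) ∈ zpowers H.z := QuotientGroup.eq_one_iff a

theorem cl_eq {a b : H.Q} : H.cl a = H.cl b ↔ (a : G) * (b : G)⁻¹ ∈ zpowers H.z := by
  rw [← sub_eq_zero, sub_eq_add_neg, ← H.cl_inv, ← H.cl_mul, H.cl_eq_zero]
  rfl

theorem cl_pow (a : H.Q) (n : ℕ) : H.cl (a ^ n) = n • H.cl a := rfl

theorem card_M [Finite G] : Nat.card H.M = 81 := by
  have h := Subgroup.card_eq_card_quotient_mul_card_subgroup H.Zs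
  rw [H.Q_card, show Nat.card H.Zs = 3 by
    rw [Zs, Nat.card_congr (subgroupOfEquivOfLe H.Z_le_Q).toEquiv, H.card_Z]] at h
  show Nat.card (H.Q ⧸ H.Zs) = 81
  omega

/-! ### The commutator form -/

theorem exists_cm (a b : G) (ha : a ∈ H.Q) (hb : b ∈ H.Q) :
    ∃ c : ZMod 3, a * b * a⁻¹ * b⁻¹ = H.z ^ c.val := by
  obtain ⟨m, hm⟩ := mem_zpowers_iff.1 (H.Q_comm a ha b hb)
  refine ⟨(m : ZMod 3), ?_⟩
  rw [← hm, zpow_eq_zpow_emod' m H.z_cube, ← zpow_natCast, ZMod.val_intCast]

/-- The commutator form. -/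
noncomputable def cm (a b : H.Q) : ZMod 3 := (H.exists_cm a b a.2 b.2).choose

theorem cm_spec (a b : H.Q) : (a : G) * b * (a : G)⁻¹ * (b : G)⁻¹ = H.z ^ (H.cm a b).val :=
  (H.exists_cm a b a.2 b.2).choose_spec

theorem zpow_val_inj {c d : ZMod 3} (h : H.z ^ c.val = H.z ^ d.val) : c = d := by
  rw [pow_eq_pow_iff_modEq, H.z_order] at h
  exact ZMod.val_injective 3 (h.eq_of_lt_of_lt (ZMod.val_lt c) (ZMod.val_lt d))

theorem zpow_val_add (c d : ZMod 3) : H.z ^ (c + d).val = H.z ^ c.val * H.z ^ d.val := by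
  rw [← pow_add, pow_eq_pow_iff_modEq, H.z_order, ZMod.val_add]
  exact Nat.mod_modEq _ _

theorem cm_eq {a b : H.Q} {c : ZMod 3} (h : (a : G) * b * (a : G)⁻¹ * (b : G)⁻¹ = H.z ^ c.val) : H.cm a b = c :=
  H.zpow_val_inj ((H.cm_spec a b).symm.trans h)

theorem cm_eq_zero {a b : H.Q} : H.cm a b = 0 ↔ Commute (a : G) b := by
  refine ⟨fun h => ?_, fun h => H.cm_eq ?_⟩
  · have := H.cm_spec a b
    rw [h, ZMod.val_zero, pow_zero, mul_inv_eq_one, mul_inv_eq_iff_eq_mul] at this
    exact this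
  · rw [h.eq, mul_inv_cancel_right, mul_inv_cancel, ZMod.val_zero, pow_zero]

theorem cm_mul_left (a b c : H.Q) : H.cm (a * b) c = H.cm a c + H.cm b c := by
  refine H.cm_eq ?_
  have hz : ∀ (q : H.Q) (n : ℕ), Commute (H.z ^ n) (q : G) := fun q n => (H.z_cen q q.2).pow_left n
  calc ((a * b : H.Q) : G) * c * ((a * b : H.Q) : G)⁻¹ * (c : G)⁻¹
      = (a : G) * ((b : G) * c * (b : G)⁻¹ * (c : G)⁻¹) * (a : G)⁻¹ * ((a : G) * c * (a : G)⁻¹ * (c : G)⁻¹) := by
        push_cast; group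
    _ = H.z ^ (H.cm b c).val * H.z ^ (H.cm a c).val := by
        rw [H.cm_spec b c, H.cm_spec a c, ← (hz a (H.cm b c).val).eq, mul_inv_cancel_right]
    _ = _ := by rw [add_comm, H.zpow_val_add]

theorem cm_swap (a b : H.Q) : H.cm b a = -H.cm a b := by
  have h : H.z ^ (H.cm b a + H.cm a b).val = H.z ^ (0 : ZMod 3).val := by
    rw [H.zpow_val_add, ← H.cm_spec b a, ← H.cm_spec a b, ZMod.val_zero, pow_zero]
    group
  exact eq_neg_of_add_eq_zero_left (H.zpow_val_inj h)

theorem cm_mul_right (a b c : H.Q) : H.cm a (b * c) = H.cm a b + H.cm a c := by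
  rw [H.cm_swap (b * c) a, H.cm_mul_left, H.cm_swap b a, H.cm_swap c a]; ring

theorem cm_Z_left {a : H.Q} (h : (a : G) ∈ zpowers H.z) (b : H.Q) : H.cm a b = 0 :=
  H.cm_eq_zero.2 (H.Z_cen h b.2)

/-- The form on the quotient. -/
noncomputable def form (m n : H.M) : ZMod 3 := H.cm (H.cl_surj m).choose (H.cl_surj n).choose

theorem cm_congr {a a' : H.Q} (h : H.cl a = H.cl a') (b : H.Q) : H.cm a b = H.cm a' b := by
  have h1 : ((a * a'⁻¹ : H.Q) : G) ∈ zpowers H.z := H.cl_eq.1 h
  have := H.cm_mul_left (a * a'⁻¹) a' b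
  rwa [inv_mul_cancel_right, H.cm_Z_left h1, zero_add] at this

theorem form_cl (a b : H.Q) : H.form (H.cl a) (H.cl b) = H.cm a b := by
  have ha := (H.cl_surj (H.cl a)).choose_spec
  have hb := (H.cl_surj (H.cl b)).choose_spec
  rw [form, H.cm_congr ha, H.cm_swap (H.cl_surj (H.cl b)).choose a, H.cm_congr hb a, ← H.cm_swap b a]

theorem form_add_left (m n p : H.M) : H.form (m + n) p = H.form m p + H.form n p := by
  obtain ⟨a, rfl⟩ := H.cl_surj m
  obtain ⟨b, rfl⟩ := H.cl_surj n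
  obtain ⟨c, rfl⟩ := H.cl_surj p
  rw [← H.cl_mul, H.form_cl, H.form_cl, H.form_cl, H.cm_mul_left]

theorem form_swap (m n : H.M) : H.form n m = -H.form m n := by
  obtain ⟨a, rfl⟩ := H.cl_surj m
  obtain ⟨b, rfl⟩ := H.cl_surj n
  rw [H.form_cl, H.form_cl, H.cm_swap]

theorem form_add_right (m n p : H.M) : H.form m (n + p) = H.form m n + H.form m p := by
  rw [H.form_swap (n + p) m, H.form_add_left, H.form_swap n m, H.form_swap p m]; ring

theorem form_self (m : H.M) : H.form m m = 0 := by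
  obtain ⟨a, rfl⟩ := H.cl_surj m
  rw [H.form_cl, H.cm_eq_zero]

theorem form_zero_right (m : H.M) : H.form m 0 = 0 := by
  have := H.form_add_right m 0 0
  rwa [add_zero, left_eq_add] at this

theorem form_zero_left (m : H.M) : H.form 0 m = 0 := by rw [H.form_swap, H.form_zero_right, neg_zero]

theorem form_neg_right (m n : H.M) : H.form m (-n) = -H.form m n := by
  refine eq_neg_of_add_eq_zero_left ?_
  rw [← H.form_add_right, neg_add_cancel, H.form_zero_right]

theorem form_neg_left (m n : H.M) : H.form (-m) n = -H.form m n := by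
  rw [H.form_swap n, H.form_neg_right, ← H.form_swap n]

theorem form_smul_right (m n : H.M) (c : ZMod 3) : H.form m (c • n) = c * H.form m n := by
  have : ∀ k : ℕ, H.form m ((k : ZMod 3) • n) = k * H.form m n := by
    intro k
    induction k with
    | zero => simp [H.form_zero_right]
    | succ k ih => push_cast; rw [add_smul, one_smul, H.form_add_right, ih]; ring
  simpa using this c.val

theorem form_smul_left (m n : H.M) (c : ZMod 3) : H.form (c • m) n = c * H.form m n := by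
  rw [H.form_swap n, H.form_smul_right, H.form_swap m n]; ring

theorem form_nondeg {m : H.M} (h : ∀ n, H.form m n = 0) : m = 0 := by
  obtain ⟨a, rfl⟩ := H.cl_surj m
  refine H.cl_eq_zero.2 (H.Q_cen a a.2 fun b hb => ?_)
  exact (H.cm_eq_zero (a := a) (b := ⟨b, hb⟩)).1 (H.form_cl a ⟨b, hb⟩ ▸ h _)

/-! ### The action -/

/-- Conjugation on `Q`. -/
def conjQ (g : G) (hg : Commute g H.z) (q : H.Q) : H.Q := ⟨g * q * g⁻¹, H.norm_Q hg q.2⟩

theorem cl_conjQ_congr {g g' : G} {σ : SL23} (h : H.Img g σ) (h' : H.Img g' σ) {a a' : H.Q}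
    (ha : H.cl a = H.cl a') : H.cl (H.conjQ g h.comm a) = H.cl (H.conjQ g' h'.comm a') := by
  rw [H.cl_eq]
  have hw := h.quot h'
  have hz1 := H.cl_eq.1 ha
  have e : (H.conjQ g h.comm a : G) * (H.conjQ g' h'.comm a' : G)⁻¹ =
      g * (((a : G) * (a' : G)⁻¹) * ((g⁻¹ * g') * (a' : G) * (g⁻¹ * g')⁻¹ * (a' : G)⁻¹)⁻¹) * g⁻¹ := by
    simp only [conjQ]; group
  rw [e]
  have hm := mul_mem hz1 (inv_mem (H.Q_comm _ hw _ a'.2))
  rw [(H.Z_comm hm h.comm).eq, mul_inv_cancel_right]
  exact hm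

/-- The action of `SL(2, 3)`. -/
noncomputable def act (σ : SL23) (m : H.M) : H.M :=
  H.cl (H.conjQ (H.exists_lift σ).choose (H.exists_lift σ).choose_spec.comm (H.cl_surj m).choose)

variable {H} in
theorem Img.act {g : G} {σ : SL23} (h : H.Img g σ) (q : H.Q) :
    H.act σ (H.cl q) = H.cl (H.conjQ g h.comm q) :=
  H.cl_conjQ_congr (H.exists_lift σ).choose_spec h (H.cl_surj (H.cl q)).choose_spec

theorem act_one (m : H.M) : H.act 1 m = m := by
  obtain ⟨q, rfl⟩ := H.cl_surj m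
  rw [H.img_one.act]
  congr 1; exact Subtype.ext (by simp [conjQ])

theorem act_mul (σ τ : SL23) (m : H.M) : H.act (σ * τ) m = H.act σ (H.act τ m) := by
  obtain ⟨q, rfl⟩ := H.cl_surj m
  obtain ⟨g, hg⟩ := H.exists_lift σ
  obtain ⟨g', hg'⟩ := H.exists_lift τ
  rw [(hg.mul hg').act, hg'.act, hg.act]
  congr 1; exact Subtype.ext (by simp [conjQ, mul_assoc])

theorem act_add (σ : SL23) (m n : H.M) : H.act σ (m + n) = H.act σ m + H.act σ n := by
  obtain ⟨a, rfl⟩ := H.cl_surj m
  obtain ⟨b, rfl⟩ := H.cl_surj n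
  obtain ⟨g, hg⟩ := H.exists_lift σ
  rw [← H.cl_mul, hg.act, hg.act, hg.act, ← H.cl_mul]
  congr 1; exact Subtype.ext (by simp [conjQ, mul_assoc])

/-- The action as an additive map. -/
noncomputable def actHom (σ : SL23) : H.M →+ H.M := AddMonoidHom.mk' (H.act σ) (H.act_add σ)

theorem act_zero (σ : SL23) : H.act σ 0 = 0 := (H.actHom σ).map_zero

theorem act_neg (σ : SL23) (m : H.M) : H.act σ (-m) = -H.act σ m := (H.actHom σ).map_neg m

theorem act_smul (σ : SL23) (c : ZMod 3) (m : H.M) : H.act σ (c • m) = c • H.act σ m :=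
  ZMod.map_smul (H.actHom σ) c m

theorem act_negOne (m : H.M) : H.act negOne m = -m := by
  obtain ⟨q, rfl⟩ := H.cl_surj m
  obtain ⟨g, hg⟩ := H.exists_lift negOne
  rw [hg.act, eq_neg_iff_add_eq_zero, ← H.cl_mul, H.cl_eq_zero]
  exact H.inv_mod' hg q.2

theorem act_inj (σ : SL23) {m n : H.M} (h : H.act σ m = H.act σ n) : m = n := by
  have := congrArg (H.act σ⁻¹) h
  rwa [← H.act_mul, ← H.act_mul, inv_mul_cancel, H.act_one, H.act_one] at this

theorem form_act (σ : SL23) (m n : H.M) : H.form (H.act σ m) (H.act σ n) = H.form m n := by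
  obtain ⟨a, rfl⟩ := H.cl_surj m
  obtain ⟨b, rfl⟩ := H.cl_surj n
  obtain ⟨g, hg⟩ := H.exists_lift σ
  rw [hg.act, hg.act, H.form_cl, H.form_cl]
  refine H.cm_eq ?_
  calc _ = g * ((a : G) * b * (a : G)⁻¹ * (b : G)⁻¹) * g⁻¹ := by simp only [conjQ]; group
    _ = _ := by rw [H.cm_spec, (hg.comm.pow_right _).eq, mul_inv_cancel_right]

end Hyp

end Cfsg.Agent.Spor.L43Three
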