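import Mathlib
import Cfsg.Agent.Lib.Spor.L43Three.Form

/-!
A vector fixed by an element of order three spans, with its image under a quaternion unit, an invariant plane.
-/

set_option autoImplicit false
set_option linter.unusedSectionVars false

namespace Cfsg.Agent.Spor.L43Three

open Subgroup

universe u

/-- An element of order three with a compatible quaternion pair. -/
structure Frame where
  D : SL23
  I : SL23
  cube : D ^ 3 = 1
  ne : D ≠ 1
  I_sq : I * I = negOne
  J_sq : (D * I * D⁻¹) * (D * I * D⁻¹) = negOne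
  DJ : D * (D * I * D⁻¹) * D⁻¹ = I * (D * I * D⁻¹)
  JI : (D * I * D⁻¹) * I = negOne * (I * (D * I * D⁻¹))

namespace Frame

/-- The second unit. -/
def J (F : Frame) : SL23 := F.D * F.I * F.D⁻¹

theorem exists_frame {D : SL23} (h3 : D ^ 3 = 1) (h1 : D ≠ 1) : ∃ F : Frame, F.D = D := by
  obtain ⟨I, h₁, h₂, h₃, h₄⟩ := exists_quat D h3 h1
  exact ⟨⟨D, I, h3, h1, h₁, h₃, h₂, h₄⟩, rfl⟩

end Frame

namespace Hyp

variable {G : Type u} [Group G] [Finite G] (H : Hyp G) (F : Frame)

theorem M_neg_eq {m : H.M} (h : m = -m) : m = 0 := by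
  have h3 := H.M_three m
  rw [show (3 : ℕ) = 2 + 1 from rfl, add_nsmul, two_nsmul, one_nsmul] at h3
  have : m + m = 0 := add_eq_zero_iff_eq_neg.2 h
  rwa [this, zero_add] at h3

theorem eq_zero_of_fixed_I {m : H.M} (c : ZMod 3) (h : H.act F.I m = c • m) : m = 0 := by
  have h2 : H.act F.I (H.act F.I m) = (c * c) • m := by rw [h, H.act_smul, h, smul_smul]
  rw [← H.act_mul, F.I_sq, H.act_negOne] at h2
  have : ∀ c : ZMod 3, c * c = 0 ∨ c * c = 1 := by decide
  rcases this c with e | e <;> rw [e] at h2
  · rwa [zero_smul, neg_eq_zero] at h2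
  · rw [one_smul] at h2; exact H.M_neg_eq h2.symm

theorem pair_indep {f : H.M} (hf : f ≠ 0) {a b : ZMod 3} (h : a • f + b • H.act F.I f = 0) :
    a = 0 ∧ b = 0 := by
  by_cases hb : b = 0
  · rw [hb, zero_smul, add_zero, smul_eq_zero] at h
    exact ⟨h.resolve_right hf, hb⟩
  exfalso
  refine hf (H.eq_zero_of_fixed_I F (-(b⁻¹ * a)) ?_)
  have := congrArg (b⁻¹ • ·) h
  simp only [smul_add, smul_smul, smul_zero, inv_mul_cancel₀ hb, one_smul] at this
  rw [neg_smul]
  exact eq_neg_of_add_eq_zero_right this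

/-- The span of a vector and its image under the unit. -/
def plane (f : H.M) : AddSubgroup H.M where
  carrier := {m | ∃ a b : ZMod 3, m = a • f + b • H.act F.I f}
  zero_mem' := ⟨0, 0, by simp⟩
  add_mem' := by
    rintro _ _ ⟨a, b, rfl⟩ ⟨c, d, rfl⟩
    exact ⟨a + c, b + d, by simp only [add_smul]; abel⟩
  neg_mem' := by
    rintro _ ⟨a, b, rfl⟩
    exact ⟨-a, -b, by simp only [neg_smul]; abel⟩

theorem card_plane {f : H.M} (hf : f ≠ 0) : Nat.card (H.plane F f) = 9 := by
  rw [show (9 : ℕ) = Nat.card (ZMod 3 × ZMod 3) by simp]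
  refine (Nat.card_congr (Equiv.ofBijective
    (fun p : ZMod 3 × ZMod 3 => (⟨p.1 • f + p.2 • H.act F.I f, p.1, p.2, rfl⟩ : H.plane F f)) ⟨?_, ?_⟩)).symm
  · rintro ⟨a, b⟩ ⟨c, d⟩ h
    have h' : a • f + b • H.act F.I f = c • f + d • H.act F.I f := congrArg Subtype.val h
    obtain ⟨h1, h2⟩ := H.pair_indep F hf (a := a - c) (b := b - d) (by
      simp only [sub_smul]
      rw [show ∀ p q r s : H.M, p - q + (r - s) = (p + r) - (q + s) from fun p q r s => by abel, h', sub_self])
    exact Prod.ext (sub_eq_zero.1 h1) (sub_eq_zero.1 h2)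
  · rintro ⟨_, a, b, rfl⟩
    exact ⟨(a, b), rfl⟩

theorem D_I_act {f : H.M} (hD : H.act F.D f = f) : H.act F.D (H.act F.I f) = H.act F.J f := by
  conv_rhs => rw [Frame.J, H.act_mul, H.act_mul]
  have : H.act F.D⁻¹ f = f := H.act_inj F.D (by rw [← H.act_mul, mul_inv_cancel, H.act_one, hD])
  rw [this]

theorem D_J_act {f : H.M} (hD : H.act F.D f = f) : H.act F.D (H.act F.J f) = H.act (F.I * F.J) f := by
  conv_rhs => rw [show F.I * F.J = F.D * F.J * F.D⁻¹ from F.DJ.symm, H.act_mul, H.act_mul]
  have : H.act F.D⁻¹ f = f := H.act_inj F.D (by rw [← H.act_mul, mul_inv_cancel, H.act_one, hD])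
  rw [this]

theorem D_cube_act (m : H.M) : H.act F.D (H.act F.D (H.act F.D m)) = m := by
  rw [← H.act_mul, ← H.act_mul, ← pow_two, ← pow_succ, F.cube, H.act_one]

/-- The key identity. -/
theorem J_act {f : H.M} (hf : f ≠ 0) (hD : H.act F.D f = f) : H.act F.J f = f + H.act F.I f := by
  set a₁ := H.act F.I f with ha₁
  set a₂ := H.act F.J f with ha₂
  set a₃ := H.act (F.I * F.J) f with ha₃
  have hIa1 : H.act F.I a₁ = -f := by rw [ha₁, ← H.act_mul, F.I_sq, H.act_negOne]
  have hIa2 : H.act F.I a₂ = a₃ := by rw [ha₂, ha₃, H.act_mul]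
  have hIa3 : H.act F.I a₃ = -a₂ := by
    rw [ha₃, ← H.act_mul, ← mul_assoc, F.I_sq, H.act_mul, H.act_negOne]
  have hDa1 : H.act F.D a₁ = a₂ := H.D_I_act F hD
  have hDa2 : H.act F.D a₂ = a₃ := H.D_J_act F hD
  have hDa3 : H.act F.D a₃ = a₁ := by rw [← hDa2, ← hDa1, H.D_cube_act]
  have fin : ∀ p q : ZMod 3, a₂ = p • f + q • a₁ → a₂ = f + a₁ := by
    intro p q e
    have e3 : a₃ = (p + q * p) • f + (q * q) • a₁ := by
      rw [← hDa2, e, H.act_add, H.act_smul, H.act_smul, hD, hDa1, e]
      simp only [smul_add, smul_smul, add_smul]; abel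
    have e1 : a₁ = (p + p * q + q * q * p) • f + (q * q * q) • a₁ := by
      conv_lhs => rw [← hDa3, e3, H.act_add, H.act_smul, H.act_smul, hD, hDa1, e]
      simp only [smul_add, smul_smul, add_smul, mul_comm, mul_left_comm]; abel
    have k1 := H.pair_indep F hf (a := p + p * q + q * q * p) (b := q * q * q - 1) (by
      rw [sub_smul, one_smul, ← add_sub_assoc, ← e1, sub_self])
    have e4 : H.act F.I a₂ = (-q) • f + p • a₁ := by
      rw [e, H.act_add, H.act_smul, H.act_smul, ← ha₁, hIa1]
      simp only [smul_neg, neg_smul]; abel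
    have k2 := H.pair_indep F hf (a := (p + q * p) + q) (b := q * q - p) (by
      have h := hIa2.symm.trans e4
      rw [e3] at h
      simp only [sub_smul, add_smul, neg_smul] at h ⊢
      rw [show ∀ u v w x y : H.M, u + v + w + (x - y) = (u + v + x) - (-w + y) from fun _ _ _ _ _ => by abel, h,
        sub_self])
    have : ∀ p q : ZMod 3, q * q * q - 1 = 0 → (p + q * p) + q = 0 → p = 1 ∧ q = 1 := by decide
    obtain ⟨rfl, rfl⟩ := this p q k1.2 k2.1
    rw [e, one_smul, one_smul]
  set s := a₁ + a₂ + a₃ with hs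
  by_cases h0 : s = 0
  · have e3 : a₃ = -(a₁ + a₂) := eq_neg_of_add_eq_zero_right h0
    have i1 : H.act F.I (a₁ + a₂) = -f - (a₁ + a₂) := by rw [H.act_add, hIa1, hIa2, e3]; abel
    have i2 := congrArg (H.act F.I) i1
    rw [← H.act_mul, F.I_sq, H.act_negOne, sub_eq_add_neg, H.act_add (σ := F.I) (-f), H.act_neg, H.act_neg, i1,
      ← ha₁] at i2
    have h3 := H.M_three (a₁ + a₂)
    have e : a₂ = f + a₁ + ((-(a₁ + a₂)) - (-a₁ + -(-f - (a₁ + a₂)))) + 3 • (a₁ + a₂) - 3 • a₁ := by abel
    rw [i2, sub_self, h3, H.M_three a₁] at e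
    simpa using e
  -- otherwise `s` spans the radical
  set w := H.act F.I s with hw
  have c13 : ∀ {c : ZMod 3}, c = H.form f a₁ →
      H.form f a₂ = c ∧ H.form f a₃ = c ∧ H.form a₁ a₂ = -c ∧ H.form a₁ a₃ = c ∧ H.form a₂ a₃ = -c := by
    intro c hc
    have h2 : H.form f a₂ = c := by
      have := H.form_act F.D f a₁
      rwa [hD, hDa1, ← hc] at this
    have h3 : H.form f a₃ = c := by
      have := H.form_act F.D f a₂
      rwa [hD, hDa2, h2] at this
    have h12 : H.form a₁ a₂ = -c := by
      have := H.form_act F.I a₁ a₂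
      rw [hIa1, hIa2, H.form_neg_left, h3] at this
      exact this.symm
    have h23 : H.form a₂ a₃ = -c := by
      have := H.form_act F.D a₁ a₂
      rwa [hDa1, hDa2, h12] at this
    have h31 : H.form a₃ a₁ = -c := by
      have := H.form_act F.D a₂ a₃
      rwa [hDa2, hDa3, h23] at this
    exact ⟨h2, h3, h12, by rw [H.form_swap, h31, neg_neg], h23⟩
  obtain ⟨h2, h3, h12, h13, h23⟩ := c13 rfl
  set c := H.form f a₁ with hc
  have hz3 : c + c + c = 0 := by have : ∀ c : ZMod 3, c + c + c = 0 := by decide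
                                 exact this c
  have s_f : H.form s f = 0 := by
    rw [hs, H.form_add_left, H.form_add_left, H.form_swap f a₁, H.form_swap f a₂, H.form_swap f a₃, ← hc, h2, h3]
    linear_combination -hz3
  have s_1 : H.form s a₁ = 0 := by
    rw [hs, H.form_add_left, H.form_add_left, H.form_self, H.form_swap a₁ a₂, H.form_swap a₁ a₃, h12, h13]
    ring
  have s_2 : H.form s a₂ = 0 := by
    rw [hs, H.form_add_left, H.form_add_left, H.form_self, h12, H.form_swap a₂ a₃, h23]
    ring
  have s_3 : H.form s a₃ = 0 := by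
    rw [hs, H.form_add_left, H.form_add_left, H.form_self, h13, h23]
    ring
  have w_f : H.form w f = 0 := by
    have := H.form_act F.I s a₁
    rw [hIa1, s_1, H.form_neg_right, neg_eq_zero] at this
    exact this
  have w_1 : H.form w a₁ = 0 := by
    have := H.form_act F.I s f
    rwa [← ha₁, s_f] at this
  have w_2 : H.form w a₂ = 0 := by
    have := H.form_act F.I s a₃
    rw [hIa3, s_3, H.form_neg_right, neg_eq_zero] at this
    exact this
  have w_3 : H.form w a₃ = 0 := by
    have := H.form_act F.I s a₂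
    rwa [hIa2, s_2] at this
  have s_w : H.form s w = 0 := by
    rw [H.form_swap w s, hs, H.form_add_right, H.form_add_right, w_1, w_2, w_3]; ring
  have hperp : ∀ m, H.form s m = 0 → H.form w m = 0 → m ∈ H.plane F s := by
    let ν : H.M →+ ZMod 3 × ZMod 3 :=
      AddMonoidHom.mk' (fun m => (H.form s m, H.form w m)) fun a b => by simp [H.form_add_right]
    have hsurj : Function.Surjective ν := by
      intro p
      by_contra hp
      obtain ⟨α, β, hne, hab⟩ : ∃ α β : ZMod 3, (α ≠ 0 ∨ β ≠ 0) ∧ ∀ m, α * H.form s m + β * H.form w m = 0 := by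
        by_cases hall : ∀ m n, H.form s m * H.form w n - H.form w m * H.form s n = 0
        · obtain ⟨n, hn⟩ : ∃ n, H.form s n ≠ 0 := by
            by_contra hh; push Not at hh; exact h0 (H.form_nondeg hh)
          exact ⟨-H.form w n, H.form s n, Or.inr hn, fun m => by linear_combination -(hall m n)⟩
        · push Not at hall
          obtain ⟨m, n, hmn⟩ := hall
          exfalso
          set d := H.form s m * H.form w n - H.form w m * H.form s n with hd
          refine hp ⟨((p.1 * H.form w n - p.2 * H.form s n) * d⁻¹) • m + ((H.form s m * p.2 - H.form w m * p.1) * d⁻¹) • n, ?_⟩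
          refine Prod.ext ?_ ?_
          · show H.form s _ = p.1
            rw [H.form_add_right, H.form_smul_right, H.form_smul_right]
            have := mul_inv_cancel₀ hmn
            linear_combination p.1 * this
          · show H.form w _ = p.2
            rw [H.form_add_right, H.form_smul_right, H.form_smul_right]
            have := mul_inv_cancel₀ hmn
            linear_combination p.2 * this
      have hz : α • s + β • w = 0 := H.form_nondeg fun m => by
        rw [H.form_add_left, H.form_smul_left, H.form_smul_left, hab]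
      obtain ⟨rfl, rfl⟩ := H.pair_indep F h0 hz
      simp at hne
    have hcardk : Nat.card ν.ker = 9 := by
      have h := AddSubgroup.card_eq_card_quotient_mul_card_addSubgroup ν.ker
      rw [Nat.card_congr (QuotientAddGroup.quotientKerEquivOfSurjective ν hsurj).toEquiv, H.card_M] at h
      rw [Nat.card_prod, Nat.card_zmod] at h; omega
    have heq : H.plane F s = ν.ker := by
      refine AddSubgroup.eq_of_le_of_card_ge ?_ (by rw [hcardk, H.card_plane F h0])
      rintro _ ⟨a, b, rfl⟩
      refine AddMonoidHom.mem_ker.2 (Prod.ext ?_ ?_)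
      · show H.form s _ = 0
        rw [H.form_add_right, H.form_smul_right, H.form_smul_right, H.form_self, ← hw, s_w]; ring
      · show H.form w _ = 0
        rw [H.form_add_right, H.form_smul_right, H.form_smul_right, ← hw, H.form_self, H.form_swap s w, s_w]; ring
    intro m h1 h2
    rw [heq]
    exact AddMonoidHom.mem_ker.2 (Prod.ext h1 h2)
  have hle : H.plane F f ≤ H.plane F s := by
    rintro _ ⟨a, b, rfl⟩
    refine hperp _ ?_ ?_
    · rw [H.form_add_right, H.form_smul_right, H.form_smul_right, s_f, ← ha₁, s_1]; ring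
    · rw [H.form_add_right, H.form_smul_right, H.form_smul_right, w_f, ← ha₁, w_1]; ring
  have heq := AddSubgroup.eq_of_le_of_card_ge hle (by rw [H.card_plane F hf, H.card_plane F h0])
  obtain ⟨p, q, e⟩ : a₂ ∈ H.plane F f := heq ▸ hperp a₂ s_2 w_2
  exact fin p q e

/-- With a vector moved onto `f` the plane is isotropic. -/
theorem form_zero {f : H.M} (hf : f ≠ 0) (hD : H.act F.D f = f) {v : H.M} (hv : H.form f v = 0)
    (hDv : H.act F.D v = v + f) : H.form f (H.act F.I f) = 0 := by
  have h := H.form_act F.D v (H.act F.I f)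
  rw [hDv, H.D_I_act F hD, H.J_act F hf hD, H.form_add_left, H.form_add_right, H.form_add_right, H.form_self,
    H.form_swap f v, hv] at h
  linear_combination h

end Hyp

end Cfsg.Agent.Spor.L43Three
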