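import Mathlib
import Cfsg.Agent.Lib.Spor.L43Three.Plane

/-!
A conjugate `y` of `z` in `Q`: the intersection of the two extraspecial groups is the elementary subgroup of
order 27 generated by `z` and the conjugates of `y` under the centraliser of `z`.
-/

set_option autoImplicit false
set_option linter.unusedSectionVars false

namespace Cfsg.Agent.Spor.L43Three

open Subgroup

universe u

namespace Frame

theorem top_of_mem (F : Frame) {T : Subgroup SL23} (hD : F.D ∈ T) (hI : F.I ∈ T) (g : SL23) : g ∈ T := by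
  have hJ : F.J ∈ T := mul_mem (mul_mem hD hI) (inv_mem hD)
  have hneg : negOne ∈ T := F.I_sq ▸ mul_mem hI hI
  rcases stab_cases F.D F.cube F.ne g with rfl | rfl | rfl | ⟨m, hm⟩
  · exact one_mem _
  · exact hD
  · exact mul_mem hD hD
  · have hu : g * F.D ^ (m : ℕ) ∈ T := by
      rcases quat_cases F.D F.I F.cube F.ne F.I_sq F.DJ _ hm with h | h | h | h | h | h | h <;> rw [h]
      exacts [hneg, hI, mul_mem hneg hI, hJ, mul_mem hneg hJ, mul_mem hI hJ, mul_mem hneg (mul_mem hI hJ)]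
    simpa using mul_mem hu (inv_mem (pow_mem hD (m : ℕ)))

end Frame

namespace Hyp

variable {G : Type u} [Group G] [Finite G] (H : Hyp G)

/-- The conjugate of `z`. -/
def y (g : G) : G := g * H.z * g⁻¹

/-- A conjugate in `Q` outside the centre. -/
def Pair (g : G) : Prop := H.y g ∈ H.Q ∧ H.y g ∉ zpowers H.z

/-- The conjugate of `Q`. -/
def Qg (g : G) : Subgroup G := H.Q.map (MulAut.conj g).toMonoidHom

/-- The subgroup generated by `z` and the conjugates of `y`. -/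
def V (g : G) : Subgroup G :=
  closure ({H.z} ∪ {w | ∃ c, Commute c H.z ∧ c * H.y g * c⁻¹ = w})

theorem mem_Qg {g x : G} : x ∈ H.Qg g ↔ g⁻¹ * x * g ∈ H.Q := by
  rw [Qg, mem_map_equiv, MulAut.conj_symm_apply]

theorem card_Qg (g : G) : Nat.card (H.Qg g) = 243 := by
  rw [Qg, card_map_of_injective (MulAut.conj g).injective, H.Q_card]

theorem Qg_comm_y {g x : G} (hx : x ∈ H.Qg g) : Commute (H.y g) x := by
  have h := H.z_cen _ (H.mem_Qg.1 hx)
  have := congrArg (fun w => g * w * g⁻¹) h.eq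
  simp only [mul_assoc] at this
  show H.y g * x = x * H.y g
  simp [y, mul_assoc] at this ⊢
  exact this

theorem y_mem_Qg (g : G) : H.y g ∈ H.Qg g := ⟨H.z, H.z_Q, rfl⟩

theorem Qg_comm {g a b : G} (ha : a ∈ H.Qg g) (hb : b ∈ H.Qg g) :
    a * b * a⁻¹ * b⁻¹ ∈ zpowers (H.y g) := by
  obtain ⟨m, hm⟩ := mem_zpowers_iff.1 (H.Q_comm _ (H.mem_Qg.1 ha) _ (H.mem_Qg.1 hb))
  refine mem_zpowers_iff.2 ⟨m, ?_⟩
  rw [y, conj_zpow, hm]
  group

theorem y_cube (g : G) : H.y g ^ 3 = 1 := by rw [y, conj_pow, H.z_cube, mul_one, mul_inv_cancel]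

theorem zy_trivial {g : G} (hp : H.Pair g) {x : G} (h1 : x ∈ zpowers H.z) (h2 : x ∈ zpowers (H.y g)) : x = 1 := by
  by_contra hne
  obtain ⟨m, hm⟩ := mem_zpowers_iff.1 h2
  refine hp.2 ?_
  rw [zpow_eq_zpow_emod' m (H.y_cube g)] at hm
  have : m % ((3 : ℕ) : ℤ) = 0 ∨ m % ((3 : ℕ) : ℤ) = 1 ∨ m % ((3 : ℕ) : ℤ) = 2 := by omega
  rcases this with h | h | h <;> rw [h] at hm
  · exact absurd (by simpa using hm.symm) hne
  · rw [zpow_one] at hm; exact hm ▸ h1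
  · have e : (x * x) = H.y g ^ 3 * H.y g := by
      rw [← hm, show ((2 : ℤ)) = ((2 : ℕ) : ℤ) from rfl, zpow_natCast, ← pow_add, ← pow_succ]
    rw [H.y_cube, one_mul] at e
    exact e ▸ mul_mem h1 h1

theorem pair_inv {g : G} (hp : H.Pair g) (hz : H.z ∈ H.Qg g) : H.Pair g⁻¹ := by
  refine ⟨?_, fun h => ?_⟩
  · show g⁻¹ * H.z * g⁻¹⁻¹ ∈ H.Q
    rw [inv_inv]; exact H.mem_Qg.1 hz
  · obtain ⟨m, hm⟩ := mem_zpowers_iff.1 h
    refine H.z_ne (H.zy_trivial hp (mem_zpowers H.z) (mem_zpowers_iff.2 ⟨m, ?_⟩))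
    rw [y, conj_zpow, hm, y]; group

/-- The class of `y`. -/
def fy {g : G} (hp : H.Pair g) : H.M := H.cl ⟨H.y g, hp.1⟩

theorem fy_ne {g : G} (hp : H.Pair g) : H.fy hp ≠ 0 := fun h => hp.2 (H.cl_eq_zero.1 h)

theorem exists_form {f : H.M} (hf : f ≠ 0) (c : ZMod 3) : ∃ n, H.form n f = c := by
  obtain ⟨n, hn⟩ : ∃ n, H.form n f ≠ 0 := by
    by_contra h; push Not at h
    exact hf (H.form_nondeg fun n => by rw [H.form_swap, h, neg_zero])
  exact ⟨(c * (H.form n f)⁻¹) • n, by rw [H.form_smul_left, mul_assoc, inv_mul_cancel₀ hn, mul_one]⟩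

/-- The centraliser of `y` in `Q`. -/
def CQ (g : G) : Subgroup G := H.Q ⊓ centralizer ({H.y g} : Set G)

theorem mem_CQ {g x : G} : x ∈ H.CQ g ↔ x ∈ H.Q ∧ Commute x (H.y g) := by
  rw [CQ, mem_inf, mem_centralizer_singleton_iff]; rfl

theorem card_CQ {g : G} (hp : H.Pair g) : Nat.card (H.CQ g) = 81 := by
  let ν : H.Q →* Multiplicative (ZMod 3) :=
    { toFun := fun q => Multiplicative.ofAdd (H.cm q ⟨H.y g, hp.1⟩)
      map_one' := by rw [H.cm_Z_left (one_mem _)]; rfl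
      map_mul' := fun a b => by rw [H.cm_mul_left]; rfl }
  have hs : Function.Surjective ν := fun c => by
    obtain ⟨n, hn⟩ := H.exists_form (H.fy_ne hp) (Multiplicative.toAdd c)
    obtain ⟨q, rfl⟩ := H.cl_surj n
    rw [fy, H.form_cl] at hn
    exact ⟨q, congrArg Multiplicative.ofAdd hn⟩
  have h := Subgroup.card_mul_index ν.ker
  rw [Subgroup.index_ker, ν.range_eq_top.2 hs, Subgroup.card_top, H.Q_card] at h
  rw [Nat.card_congr Multiplicative.toAdd, Nat.card_zmod] at h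
  have e : ν.ker = (H.CQ g).subgroupOf H.Q := by
    ext q
    rw [MonoidHom.mem_ker, mem_subgroupOf, H.mem_CQ]
    show Multiplicative.ofAdd _ = 1 ↔ _
    rw [ofAdd_eq_one, H.cm_eq_zero]
    exact ⟨fun h => ⟨q.2, h⟩, fun h => h.2⟩
  rw [← Nat.card_congr (subgroupOfEquivOfLe (show H.CQ g ≤ H.Q from inf_le_left)).toEquiv, ← e]
  omega

theorem exists_noncomm {g : G} (hp : H.Pair g) : ∃ a ∈ H.CQ g, ∃ b ∈ H.CQ g, ¬ Commute a b := by
  by_contra hall
  push Not at hall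
  obtain ⟨n, hn⟩ := H.exists_form (H.fy_ne hp) 1
  let ν : H.M →+ ZMod 3 × ZMod 3 :=
    AddMonoidHom.mk' (fun m => (H.form m (H.fy hp), H.form n m)) fun a b => by
      simp [H.form_add_left, H.form_add_right]
  have hker : 9 ≤ Nat.card ν.ker := by
    have h := AddSubgroup.card_eq_card_quotient_mul_card_addSubgroup ν.ker
    rw [Nat.card_congr (QuotientAddGroup.quotientKerEquivRange ν).toEquiv, H.card_M] at h
    have hr : Nat.card ν.range ≤ 9 := by
      refine (Nat.card_le_card_of_injective _ ν.range.subtype_injective).trans ?_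
      rw [Nat.card_prod, Nat.card_zmod]
    nlinarith
  haveI : Nontrivial ν.ker := by
    rw [← Finite.one_lt_card_iff_nontrivial]; omega
  obtain ⟨⟨a, ha⟩, ha0⟩ := exists_ne (0 : ν.ker)
  have hae := AddMonoidHom.mem_ker.1 ha
  have ha1 : H.form a (H.fy hp) = 0 := congrArg Prod.fst hae
  have ha2 : H.form n a = 0 := congrArg Prod.snd hae
  refine ha0 (Subtype.ext (H.form_nondeg fun m => ?_))
  show H.form a m = 0
  set c := H.form m (H.fy hp) with hc
  have hperp : H.form (m + (-c) • n) (H.fy hp) = 0 := by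
    rw [H.form_add_left, H.form_smul_left, hn, ← hc]; ring
  obtain ⟨qa, rfl⟩ := H.cl_surj a
  obtain ⟨qb, hqb⟩ := H.cl_surj (m + (-c) • n)
  rw [fy, H.form_cl, H.cm_eq_zero] at ha1
  rw [← hqb, fy, H.form_cl, H.cm_eq_zero] at hperp
  have h0 := hall qa (H.mem_CQ.2 ⟨qa.2, ha1⟩) qb (H.mem_CQ.2 ⟨qb.2, hperp⟩)
  rw [← H.cm_eq_zero, ← H.form_cl, hqb, H.form_add_right, H.form_smul_right, H.form_swap n, ha2] at h0
  linear_combination h0

theorem img_cube {x : G} {σ : SL23} (h : H.Img x σ) (hx : x ^ 3 = 1) : σ ^ 3 = 1 :=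
  (h.pow 3).unique (hx ▸ H.img_one)

theorem img_comm {a b : G} {σ τ : SL23} (ha : H.Img a σ) (hb : H.Img b τ) (a3 : a ^ 3 = 1) (b3 : b ^ 3 = 1)
    (ab3 : (a * b) ^ 3 = 1) (abb3 : (a * b * b) ^ 3 = 1) : σ = 1 ∨ τ = 1 ∨ τ = σ ∨ τ = σ * σ :=
  three_pair σ τ (H.img_cube ha a3) (H.img_cube hb b3) (H.img_cube (ha.mul hb) ab3)
    (H.img_cube ((ha.mul hb).mul hb) abb3)

theorem Qg_cube {g x : G} (hx : x ∈ H.Qg g) : x ^ 3 = 1 := by
  obtain ⟨q, hq, rfl⟩ := hx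
  show ((MulAut.conj g) q) ^ 3 = 1
  rw [← map_pow, H.Q_cube q hq, map_one]

/-- `z` lies in the conjugate of `Q`. -/
theorem z_mem_Qg {g : G} (hp : H.Pair g) : H.z ∈ H.Qg g := by
  obtain ⟨a, ha, b, hb, hab⟩ := H.exists_noncomm hp
  rw [H.mem_CQ] at ha hb
  have hc : ∀ {x : G}, Commute x (H.y g) → Commute (g⁻¹ * x * g) H.z := fun {x} h => by
    have := congrArg (fun w => g⁻¹ * w * g) h.eq
    simp [y, mul_assoc] at this
    show g⁻¹ * x * g * H.z = H.z * (g⁻¹ * x * g)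
    simpa [mul_assoc] using this
  obtain ⟨σ, hσ⟩ := H.exists_img (hc ha.2)
  obtain ⟨τ, hτ⟩ := H.exists_img (hc hb.2)
  have h3 : ∀ x ∈ H.Q, (g⁻¹ * x * g) ^ 3 = 1 := fun x hx => by
    have : (g⁻¹ * x * g⁻¹⁻¹) ^ 3 = 1 := by rw [conj_pow, H.Q_cube x hx, mul_one, mul_inv_cancel]
    rwa [inv_inv] at this
  have e1 : g⁻¹ * a * g * (g⁻¹ * b * g) = g⁻¹ * (a * b) * g := by group
  have e2 : g⁻¹ * a * g * (g⁻¹ * b * g) * (g⁻¹ * b * g) = g⁻¹ * (a * b * b) * g := by group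
  have hcases := H.img_comm hσ hτ (h3 _ ha.1) (h3 _ hb.1) (by rw [e1]; exact h3 _ (mul_mem ha.1 hb.1))
    (by rw [e2]; exact h3 _ (mul_mem (mul_mem ha.1 hb.1) hb.1))
  have hst : σ * τ * σ⁻¹ * τ⁻¹ = 1 := by
    rcases hcases with h | h | h | h <;> subst h <;> group
  have hm := ((hσ.mul hτ).mul hσ.inv).mul hτ.inv
  rw [hst] at hm
  have hcq : a * b * a⁻¹ * b⁻¹ ∈ H.Qg g := by
    rw [H.mem_Qg]
    refine (congrArg (· ∈ H.Q) ?_).mp hm.mem_Q
    group
  obtain ⟨c, hcv⟩ := H.exists_cm a b ha.1 hb.1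
  rw [hcv] at hcq
  have : ∀ c : ZMod 3, c = 0 ∨ c.val = 1 ∨ c.val = 2 := by decide
  rcases this c with rfl | h | h
  · refine absurd ?_ hab
    rw [ZMod.val_zero, pow_zero, mul_inv_eq_one, mul_inv_eq_iff_eq_mul] at hcv
    exact hcv
  · rwa [h, pow_one] at hcq
  · rw [h] at hcq
    have := mul_mem hcq hcq
    rwa [← pow_add, pow_succ, H.z_cube, one_mul] at this

theorem card_AQ {g : G} (hp : H.Pair g) : Nat.card ↥(H.Qg g ⊓ centralizer ({H.z} : Set G)) = 81 := by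
  have e : H.Qg g ⊓ centralizer ({H.z} : Set G) = (H.CQ g⁻¹).map (MulAut.conj g).toMonoidHom := by
    ext x
    rw [mem_inf, H.mem_Qg, mem_map_equiv, MulAut.conj_symm_apply, H.mem_CQ, mem_centralizer_singleton_iff]
    refine and_congr_right fun _ => ?_
    show x * H.z = H.z * x ↔ Commute (g⁻¹ * x * g) (g⁻¹ * H.z * g⁻¹⁻¹)
    rw [inv_inv]
    constructor
    · intro h
      show g⁻¹ * x * g * (g⁻¹ * H.z * g) = g⁻¹ * H.z * g * (g⁻¹ * x * g)
      calc _ = g⁻¹ * (x * H.z) * g := by group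
        _ = _ := by rw [h]; group
    · intro h
      calc x * H.z = g * ((g⁻¹ * x * g) * (g⁻¹ * H.z * g)) * g⁻¹ := by group
        _ = _ := by rw [h.eq]; group
  rw [e, card_map_of_injective (MulAut.conj g).injective, H.card_CQ (H.pair_inv hp (H.z_mem_Qg hp))]

/-- An element of the other extraspecial group outside `Q` moving the intersection onto `y`. -/
theorem exists_mover {g : G} (hp : H.Pair g) : ∃ d e σ, d ∈ H.Qg g ∧ H.Img d σ ∧ σ ^ 3 = 1 ∧ σ ≠ 1 ∧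
    e ∈ H.Q ∧ e ∈ H.Qg g ∧ d * e * d⁻¹ = H.y g * e ∧ Nat.card ↥(H.Q ⊓ H.Qg g) = 27 := by
  have hAcard := H.card_AQ hp
  set A := H.Qg g ⊓ centralizer ({H.z} : Set G) with hA
  obtain ⟨d, hdA, hdQ⟩ : ∃ d ∈ A, d ∉ H.Q := by
    by_contra hh
    push Not at hh
    have hle : A ≤ H.CQ g := fun x hx => H.mem_CQ.2 ⟨hh x hx, (H.Qg_comm_y (mem_inf.1 hx).1).symm⟩
    have heq := eq_of_le_of_card_ge hle (by rw [H.card_CQ hp, hAcard])
    obtain ⟨a, ha, b, hb, hab⟩ := H.exists_noncomm hp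
    have hz := H.Q_comm a (H.mem_CQ.1 ha).1 b (H.mem_CQ.1 hb).1
    rw [← heq] at ha hb
    have hy := H.Qg_comm (mem_inf.1 ha).1 (mem_inf.1 hb).1
    have h1 := H.zy_trivial hp hz hy
    rw [mul_inv_eq_one, mul_inv_eq_iff_eq_mul] at h1
    exact hab h1
  obtain ⟨hdg, hdz⟩ := mem_inf.1 hdA
  obtain ⟨σ, hσ⟩ := H.exists_img (mem_centralizer_singleton_iff.1 hdz)
  have hσ3 := H.img_cube hσ (H.Qg_cube hdg)
  have hσ1 : σ ≠ 1 := fun h => hdQ (h ▸ hσ).mem_Q
  have hdec : ∀ a ∈ A, ∃ k : Fin 3, (d ^ (k : ℕ))⁻¹ * a ∈ H.Q := by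
    intro a ha
    obtain ⟨hag, haz⟩ := mem_inf.1 ha
    obtain ⟨τ, hτ⟩ := H.exists_img (mem_centralizer_singleton_iff.1 haz)
    rcases H.img_comm hσ hτ (H.Qg_cube hdg) (H.Qg_cube hag) (H.Qg_cube (mul_mem hdg hag))
      (H.Qg_cube (mul_mem (mul_mem hdg hag) hag)) with h | h | h | h
    · exact absurd h hσ1
    · exact ⟨0, by simpa using (h ▸ hτ).mem_Q⟩
    · exact ⟨1, by simpa using hσ.quot (h ▸ hτ)⟩
    · exact ⟨2, by simpa [pow_two] using (hσ.mul hσ).quot (h ▸ hτ)⟩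
  set E := H.Q ⊓ H.Qg g with hE
  have hEA : E ≤ A := fun x hx => mem_inf.2 ⟨(mem_inf.1 hx).2,
    mem_centralizer_singleton_iff.2 (H.z_cen x (mem_inf.1 hx).1).eq.symm⟩
  have hEcard : Nat.card E = 27 := by
    have hge : 81 ≤ 3 * Nat.card E := by
      rw [← hAcard, show 3 * Nat.card E = Nat.card (Fin 3 × E) by simp [Nat.card_prod]]
      refine Nat.card_le_card_of_surjective (fun p : Fin 3 × E => (⟨d ^ (p.1 : ℕ) * p.2,
        mul_mem (pow_mem hdA _) (hEA p.2.2)⟩ : A)) ?_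
      rintro ⟨a, ha⟩
      obtain ⟨k, hk⟩ := hdec a ha
      exact ⟨⟨k, _, mem_inf.2 ⟨hk, mul_mem (inv_mem (pow_mem hdg _)) (mem_inf.1 ha).1⟩⟩,
        Subtype.ext (mul_inv_cancel_left _ _)⟩
    have hdvd : Nat.card E ∣ 3 ^ 4 := by
      rw [show 3 ^ 4 = Nat.card A by rw [hAcard]; norm_num]; exact card_dvd_of_le hEA
    obtain ⟨i, hi, hie⟩ := (Nat.dvd_prime_pow Nat.prime_three).1 hdvd
    have hne : Nat.card E ≠ 81 := fun h => hdQ
      ((eq_of_le_of_card_ge hEA (by rw [h, hAcard])).symm ▸ hdA : d ∈ E).1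
    rw [hie] at hge hne ⊢
    interval_cases i <;> simp_all
  have hEab : ∀ a ∈ E, ∀ b ∈ E, Commute a b := fun a ha b hb => by
    have h1 := H.zy_trivial hp (H.Q_comm a (mem_inf.1 ha).1 b (mem_inf.1 hb).1)
      (H.Qg_comm (mem_inf.1 ha).2 (mem_inf.1 hb).2)
    rw [mul_inv_eq_one, mul_inv_eq_iff_eq_mul] at h1
    exact h1
  obtain ⟨e, heE, hde⟩ : ∃ e ∈ E, ¬ Commute d e := by
    by_contra hh
    push Not at hh
    have hiv := H.pair_inv hp (H.z_mem_Qg hp)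
    obtain ⟨a, ha, b, hb, hab⟩ := H.exists_noncomm hiv
    have hmem : ∀ x ∈ H.CQ g⁻¹, g * x * g⁻¹ ∈ A := fun x hx => by
      obtain ⟨hxQ, hxy⟩ := H.mem_CQ.1 hx
      refine mem_inf.2 ⟨H.mem_Qg.2 (by simpa [mul_assoc] using hxQ), mem_centralizer_singleton_iff.2 ?_⟩
      have := congrArg (fun w => g * w * g⁻¹) hxy.eq
      simp only [y, inv_inv] at this
      calc g * x * g⁻¹ * H.z = g * (x * (g⁻¹ * H.z * g)) * g⁻¹ := by group
        _ = _ := by rw [this]; group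
    have habA : ∀ u ∈ A, ∀ v ∈ A, Commute u v := fun u hu v hv => by
      obtain ⟨k, hk⟩ := hdec u hu
      obtain ⟨l, hl⟩ := hdec v hv
      have hu' : (d ^ (k : ℕ))⁻¹ * u ∈ E := mem_inf.2 ⟨hk, mul_mem (inv_mem (pow_mem hdg _)) (mem_inf.1 hu).1⟩
      have hv' : (d ^ (l : ℕ))⁻¹ * v ∈ E := mem_inf.2 ⟨hl, mul_mem (inv_mem (pow_mem hdg _)) (mem_inf.1 hv).1⟩
      rw [show u = d ^ (k : ℕ) * ((d ^ (k : ℕ))⁻¹ * u) by group, show v = d ^ (l : ℕ) * ((d ^ (l : ℕ))⁻¹ * v) by group]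
      exact ((Commute.refl d).pow_pow k l |>.mul_right ((hh _ hv').pow_left _)).mul_left
        (((hh _ hu').symm.pow_right _).mul_right (hEab _ hu' _ hv'))
    refine hab ?_
    have h := habA _ (hmem a ha) _ (hmem b hb)
    have := congrArg (fun w => g⁻¹ * w * g) h.eq
    simp [mul_assoc] at this
    exact this
  obtain ⟨heQ, heg⟩ := mem_inf.1 heE
  obtain ⟨m, hm⟩ := mem_zpowers_iff.1 (H.Qg_comm hdg heg)
  rw [zpow_eq_zpow_emod' m (H.y_cube g)] at hm
  have : m % ((3 : ℕ) : ℤ) = 0 ∨ m % ((3 : ℕ) : ℤ) = 1 ∨ m % ((3 : ℕ) : ℤ) = 2 := by omega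
  rcases this with h | h | h <;> rw [h] at hm
  · rw [zpow_zero, eq_comm, mul_inv_eq_one, mul_inv_eq_iff_eq_mul] at hm
    exact absurd hm hde
  · refine ⟨d, e, σ, hdg, hσ, hσ3, hσ1, heQ, heg, ?_, hEcard⟩
    rw [zpow_one, eq_mul_inv_iff_mul_eq] at hm
    exact hm.symm
  · refine ⟨d, e⁻¹, σ, hdg, hσ, hσ3, hσ1, inv_mem heQ, inv_mem heg, ?_, hEcard⟩
    have e2 : d * e * d⁻¹ = (H.y g)⁻¹ * e := by
      rw [eq_mul_inv_iff_mul_eq] at hm
      rw [← hm]
      congr 1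
      rw [show ((2 : ℤ)) = ((2 : ℕ) : ℤ) from rfl, zpow_natCast]
      exact eq_inv_of_mul_eq_one_left (by rw [← pow_succ, H.y_cube])
    calc d * e⁻¹ * d⁻¹ = (d * e * d⁻¹)⁻¹ := by group
      _ = e⁻¹ * H.y g := by rw [e2, mul_inv_rev, inv_inv]
      _ = H.y g * e⁻¹ := ((H.Qg_comm_y (inv_mem heg)).eq).symm

/-- The frame fixing `y` with the isotropic plane. -/
theorem exists_plane {g : G} (hp : H.Pair g) : ∃ F : Frame, H.act F.D (H.fy hp) = H.fy hp ∧
    H.form (H.fy hp) (H.act F.I (H.fy hp)) = 0 := by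
  obtain ⟨d, e, σ, hdg, hσ, hσ3, hσ1, heQ, heg, hde, -⟩ := H.exists_mover hp
  obtain ⟨F, rfl⟩ := Frame.exists_frame hσ3 hσ1
  have hf : H.act F.D (H.fy hp) = H.fy hp := by
    rw [fy, hσ.act]
    refine congrArg H.cl (Subtype.ext ?_)
    show d * H.y g * d⁻¹ = H.y g
    rw [← (H.Qg_comm_y hdg).eq, mul_inv_cancel_right]
  refine ⟨F, hf, H.form_zero F (H.fy_ne hp) hf (v := H.cl ⟨e, heQ⟩) ?_ ?_⟩
  · rw [fy, H.form_cl, H.cm_eq_zero]
    exact H.Qg_comm_y heg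
  · rw [hσ.act, fy, ← H.cl_mul]
    refine congrArg H.cl (Subtype.ext ?_)
    show d * e * d⁻¹ = e * H.y g
    rw [hde]; exact (H.Qg_comm_y heg).eq

theorem plane_invariant (F : Frame) {f : H.M} (hf : f ≠ 0) (hD : H.act F.D f = f) (σ : SL23) {m : H.M}
    (hm : m ∈ H.plane F f) : H.act σ m ∈ H.plane F f := by
  let T : Subgroup SL23 :=
    { carrier := {σ | ∀ m, H.act σ m ∈ H.plane F f ↔ m ∈ H.plane F f}
      one_mem' := fun m => by rw [H.act_one]
      mul_mem' := fun {a b} ha hb m => by rw [H.act_mul, ha, hb]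
      inv_mem' := fun {a} ha m => by rw [← ha, ← H.act_mul, mul_inv_cancel, H.act_one] }
  have hof : ∀ σ, (∀ m ∈ H.plane F f, H.act σ m ∈ H.plane F f) → σ ∈ T := fun σ h m => by
    refine ⟨fun hs => ?_, h m⟩
    have hbij : ∀ p ∈ H.plane F f, ∃ q ∈ H.plane F f, H.act σ q = p := by
      intro p hp
      obtain ⟨q, hq⟩ := (Finite.injective_iff_surjective.1 (show Function.Injective fun q : H.plane F f =>
        (⟨H.act σ q, h q q.2⟩ : H.plane F f) from fun a b e => Subtype.ext (H.act_inj σ (congrArg Subtype.val e))))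
        ⟨p, hp⟩
      exact ⟨q, q.2, congrArg Subtype.val hq⟩
    obtain ⟨q, hq, e⟩ := hbij _ hs
    exact H.act_inj σ e ▸ hq
  have hDm : F.D ∈ T := hof _ fun m hm => by
    obtain ⟨a, b, rfl⟩ := hm
    rw [H.act_add, H.act_smul, H.act_smul, hD, H.D_I_act F hD, H.J_act F hf hD]
    exact ⟨a + b, b, by simp only [smul_add, add_smul]; abel⟩
  have hIm : F.I ∈ T := hof _ fun m hm => by
    obtain ⟨a, b, rfl⟩ := hm
    rw [H.act_add, H.act_smul, H.act_smul, ← H.act_mul, F.I_sq, H.act_negOne]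
    exact ⟨-b, a, by simp only [smul_neg, neg_smul]; abel⟩
  exact (F.top_of_mem hDm hIm σ m).2 hm

/-- The shape of `V`. -/
theorem V_shape {g : G} (hp : H.Pair g) {F : Frame} (hD : H.act F.D (H.fy hp) = H.fy hp) :
    H.V g ≤ H.Q ∧ Nat.card (H.V g) = 27 ∧
      ∀ q : H.Q, (q : G) ∈ H.V g ↔ H.cl q ∈ H.plane F (H.fy hp) := by
  let W : Subgroup G :=
    { carrier := {x | ∃ h : x ∈ H.Q, H.cl ⟨x, h⟩ ∈ H.plane F (H.fy hp)}
      one_mem' := ⟨one_mem _, (H.plane F (H.fy hp)).zero_mem⟩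
      mul_mem' := fun {a b} ⟨ha, ha'⟩ ⟨hb, hb'⟩ => ⟨mul_mem ha hb, (H.plane F (H.fy hp)).add_mem ha' hb'⟩
      inv_mem' := fun {a} ⟨ha, ha'⟩ => ⟨inv_mem ha, (H.plane F (H.fy hp)).neg_mem ha'⟩ }
  have hfP : H.fy hp ∈ H.plane F (H.fy hp) := ⟨1, 0, by simp⟩
  have hVW : H.V g ≤ W := by
    rw [V, closure_le]
    rintro x (rfl | ⟨c, hc, rfl⟩)
    · exact ⟨H.z_Q, by rw [(H.cl_eq_zero (a := ⟨H.z, H.z_Q⟩)).2 (mem_zpowers _)]; exact AddSubgroup.zero_mem _⟩
    · obtain ⟨σ, hσ⟩ := H.exists_img hc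
      have hinv := H.plane_invariant F (H.fy_ne hp) hD σ hfP
      rw [fy, hσ.act] at hinv
      exact ⟨_, hinv⟩
  obtain ⟨ci, hci⟩ := H.exists_lift F.I
  have hyV : H.y g ∈ H.V g := subset_closure (Or.inr ⟨1, Commute.one_left _, by simp⟩)
  have hiV : ci * H.y g * ci⁻¹ ∈ H.V g := subset_closure (Or.inr ⟨ci, hci.comm, rfl⟩)
  have hWV : W ≤ H.V g := by
    rintro x ⟨hx, a, b, hab⟩
    have e : H.cl ⟨x, hx⟩ = H.cl ((⟨H.y g, hp.1⟩ : H.Q) ^ a.val * (H.conjQ ci hci.comm ⟨H.y g, hp.1⟩) ^ b.val) := by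
      rw [hab, H.cl_mul, H.cl_pow, H.cl_pow, ← hci.act, ← Nat.cast_smul_eq_nsmul (ZMod 3),
        ← Nat.cast_smul_eq_nsmul (ZMod 3), ZMod.natCast_zmod_val, ZMod.natCast_zmod_val]
      rfl
    have hz := H.cl_eq.1 e
    have hzV : x * ((H.y g) ^ a.val * (ci * H.y g * ci⁻¹) ^ b.val)⁻¹ ∈ H.V g :=
      (zpowers_le.2 (subset_closure (Or.inl rfl)) : zpowers H.z ≤ H.V g) hz
    have := mul_mem hzV (mul_mem (pow_mem hyV a.val) (pow_mem hiV b.val))
    rwa [inv_mul_cancel_right] at this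
  have heq : H.V g = W := le_antisymm hVW hWV
  refine ⟨hVW.trans fun x hx => hx.1, ?_, fun q => ?_⟩
  · let ν : W →* Multiplicative (H.plane F (H.fy hp)) :=
      { toFun := fun x => Multiplicative.ofAdd ⟨H.cl ⟨x, x.2.1⟩, x.2.2⟩
        map_one' := rfl
        map_mul' := fun _ _ => rfl }
    have hs : Function.Surjective ν := fun m => by
      obtain ⟨q, hq⟩ := H.cl_surj (Multiplicative.toAdd m : H.plane F (H.fy hp))
      exact ⟨⟨q, q.2, by rw [hq]; exact SetLike.coe_mem _⟩, congrArg Multiplicative.ofAdd (Subtype.ext hq)⟩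
    have hk : ν.ker = (zpowers H.z).subgroupOf W := by
      ext x
      rw [MonoidHom.mem_ker, mem_subgroupOf]
      show Multiplicative.ofAdd (_ : H.plane F (H.fy hp)) = 1 ↔ _
      rw [ofAdd_eq_one, ← Subtype.coe_inj]
      exact H.cl_eq_zero
    have h := Subgroup.card_mul_index ν.ker
    rw [Subgroup.index_ker, ν.range_eq_top.2 hs, Subgroup.card_top, hk,
      Nat.card_congr (subgroupOfEquivOfLe (show zpowers H.z ≤ W from
        heq ▸ zpowers_le.2 (subset_closure (Or.inl rfl)))).toEquiv, H.card_Z] at h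
    rw [heq, ← h, Nat.card_congr Multiplicative.toAdd, H.card_plane F (H.fy_ne hp)]
  · rw [heq]
    exact ⟨fun ⟨_, h⟩ => h, fun h => ⟨q.2, h⟩⟩

/-- A conjugating element fixing `y` and its translate modulo the centre is trivial. -/
theorem stab_trivial (F : Frame) {f : H.M} (hf : f ≠ 0) (hD : H.act F.D f = f) {σ : SL23}
    (h1 : H.act σ f = f) (h2 : H.act σ (H.act F.I f) = H.act F.I f) : σ = 1 := by
  have hDI : H.act F.D (H.act F.I f) = f + H.act F.I f := by rw [H.D_I_act F hD, H.J_act F hf hD]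
  rcases stab_cases F.D F.cube F.ne σ with rfl | rfl | rfl | ⟨k, hk⟩
  · rfl
  · rw [hDI, add_eq_right] at h2; exact absurd h2 hf
  · rw [H.act_mul, hDI, H.act_add, hD, hDI, ← add_assoc, add_eq_right] at h2
    exact absurd (H.M_neg_eq (eq_neg_of_add_eq_zero_left h2)) hf
  · exfalso
    have hk' : H.act (σ * F.D ^ (k : ℕ)) f = f := by
      have : ∀ n : ℕ, H.act (F.D ^ n) f = f := fun n => by
        induction n with
        | zero => rw [pow_zero, H.act_one]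
        | succ n ih => rw [pow_succ, H.act_mul, hD, ih]
      rw [H.act_mul, this, h1]
    rcases hk with hk | hk
    · have := congrArg (fun s => H.act s f) hk
      simp only [H.act_mul _ (σ * F.D ^ (k : ℕ)), hk', H.act_negOne] at this
      exact hf (H.M_neg_eq this)
    · rw [hk, H.act_negOne] at hk'
      exact hf (H.M_neg_eq hk'.symm)

theorem norm_Q_inv {n : G} (hn : n * H.z * n⁻¹ = H.z⁻¹) {x : G} (hx : x ∈ H.Q) : n * x * n⁻¹ ∈ H.Q := by
  have hC : ∀ c, Commute c H.z → Commute (n * c * n⁻¹) H.z := fun c hc => by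
    have h1 : n * c * n⁻¹ * (n * H.z * n⁻¹) = n * H.z * n⁻¹ * (n * c * n⁻¹) := by
      calc _ = n * (c * H.z) * n⁻¹ := by group
        _ = _ := by rw [hc.eq]; group
    rw [hn] at h1
    exact Commute.inv_right_iff.1 h1
  have hn' : n⁻¹ * H.z * n = H.z⁻¹ := by
    have h1 : n * H.z⁻¹ * n⁻¹ = H.z := by
      rw [show n * H.z⁻¹ * n⁻¹ = (n * H.z * n⁻¹)⁻¹ by group, hn, inv_inv]
    conv_lhs => rw [← h1]
    group
  obtain ⟨σ, hσ⟩ := H.exists_img (hC x (H.z_cen x hx).symm)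
  have hσ3 := H.img_cube hσ (by rw [conj_pow, H.Q_cube x hx, mul_one, mul_inv_cancel])
  have h1 : σ = 1 := eq_one_of_conj_comm σ hσ3 fun τ => by
    obtain ⟨c, hc⟩ := H.exists_lift τ
    have hc' : Commute (n⁻¹ * c * n) H.z := by
      have h1 : n⁻¹ * c * n * (n⁻¹ * H.z * n) = n⁻¹ * H.z * n * (n⁻¹ * c * n) := by
        calc _ = n⁻¹ * (c * H.z) * n := by group
          _ = _ := by rw [hc.comm.eq]; group
      rw [hn'] at h1
      exact Commute.inv_right_iff.1 h1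
    set x' := n⁻¹ * c * n * x * (n⁻¹ * c * n)⁻¹ with hx'
    have hx'Q : x' ∈ H.Q := H.norm_Q hc' hx
    have hm := H.Q_comm x' hx'Q x hx
    have hm' : H.Img (n * (x' * x * x'⁻¹ * x⁻¹) * n⁻¹) 1 := by
      refine H.img_Q ?_
      obtain ⟨i, hi⟩ := mem_zpowers_iff.1 hm
      rw [← hi, ← conj_zpow, hn]
      exact zpow_mem (inv_mem H.z_Q) i
    have hct := hσ.conj hc
    have hall := ((hct.mul hσ).mul hct.inv).mul hσ.inv
    have e : c * (n * x * n⁻¹) * c⁻¹ * (n * x * n⁻¹) * (c * (n * x * n⁻¹) * c⁻¹)⁻¹ * (n * x * n⁻¹)⁻¹ =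
        n * (x' * x * x'⁻¹ * x⁻¹) * n⁻¹ := by
      rw [hx']; group
    rw [e] at hall
    have := hall.unique hm'
    rwa [mul_inv_eq_one, mul_inv_eq_iff_eq_mul] at this
  exact (h1 ▸ hσ).mem_Q

theorem exists_inverter {g : G} (hp : H.Pair g) : ∃ t, H.Img t negOne ∧ t * t = 1 ∧
    t * H.y g * t⁻¹ = (H.y g)⁻¹ := by
  obtain ⟨g0, hg0⟩ := H.exists_lift negOne
  have h2 : g0 * g0 ∈ H.Q := by
    have := hg0.mul hg0
    rw [negOne_mul_self] at this
    exact this.mem_Q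
  have hodd : negOne ^ 243 = negOne := by
    rw [show 243 = 2 * 121 + 1 from rfl, pow_succ, pow_mul, pow_two, negOne_mul_self, one_pow, one_mul]
  have ht0 : H.Img (g0 ^ 243) negOne := hodd ▸ hg0.pow 243
  have ht0sq : g0 ^ 243 * g0 ^ 243 = 1 := by
    rw [← (Commute.refl g0).mul_pow, show 243 = 3 * 81 from rfl, pow_mul, H.Q_cube _ h2, one_pow]
  set t0 := g0 ^ 243
  obtain ⟨m, hm⟩ := mem_zpowers_iff.1 (H.inv_mod' ht0 hp.1)
  obtain ⟨n, hn⟩ := H.exists_form (H.fy_ne hp) (-(m : ZMod 3))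
  obtain ⟨q, rfl⟩ := H.cl_surj n
  rw [fy, H.form_cl] at hn
  have hsp := H.cm_spec q ⟨H.y g, hp.1⟩
  rw [hn] at hsp
  have hval : H.z ^ (-(m : ZMod 3)).val = (H.z ^ m)⁻¹ := by
    rw [← zpow_neg, ← zpow_natCast, zpow_eq_zpow_emod' (-m) H.z_cube, ← Int.cast_neg, ZMod.val_intCast]
  rw [hval] at hsp
  refine ⟨q * t0 * (q : G)⁻¹, ?_, ?_, ?_⟩
  · have := ht0.conj (H.img_Q q.2)
    rwa [one_mul, inv_one, mul_one] at this
  · rw [show (q : G) * t0 * (q : G)⁻¹ * ((q : G) * t0 * (q : G)⁻¹) = q * (t0 * t0) * (q : G)⁻¹ by group, ht0sq,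
      mul_one, mul_inv_cancel]
  · simp only at hsp
    set w := H.z ^ m with hw
    have hwc : ∀ {x : G}, Commute x H.z → Commute x w := fun h => h.zpow_right m
    have e1 : (q : G) * H.y g * (q : G)⁻¹ = w⁻¹ * H.y g := by
      rw [← hsp]; group
    have e3 : t0 * H.y g * t0⁻¹ = w * (H.y g)⁻¹ := by rw [hm]; group
    have hyw : Commute (H.y g) w := (H.Z_cen (zpow_mem (mem_zpowers _) m) hp.1).symm
    have e2 : (q : G)⁻¹ * H.y g * q = w * H.y g := by
      have hqw := (hwc (H.z_cen q q.2).symm).inv_left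
      calc (q : G)⁻¹ * H.y g * q = (q : G)⁻¹ * (w * ((q : G) * H.y g * (q : G)⁻¹)) * q := by
            rw [e1]; group
        _ = ((q : G)⁻¹ * w) * ((q : G) * H.y g) := by group
        _ = _ := by rw [hqw.eq]; group
    calc (q : G) * t0 * (q : G)⁻¹ * H.y g * ((q : G) * t0 * (q : G)⁻¹)⁻¹
        = (q : G) * (t0 * ((q : G)⁻¹ * H.y g * q) * t0⁻¹) * (q : G)⁻¹ := by group
      _ = (q : G) * ((t0 * w * t0⁻¹) * (t0 * H.y g * t0⁻¹)) * (q : G)⁻¹ := by rw [e2]; group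
      _ = ((q : G) * (w * w) * (q : G)⁻¹) * ((q : G) * H.y g * (q : G)⁻¹)⁻¹ := by
          rw [(hwc ht0.comm).eq, mul_inv_cancel_right, e3]; group
      _ = w * w * (w⁻¹ * H.y g)⁻¹ := by
          rw [((hwc (H.z_cen q q.2).symm).mul_right (hwc (H.z_cen q q.2).symm)).eq, mul_inv_cancel_right, e1]
      _ = w ^ 3 * (H.y g)⁻¹ := by
          rw [mul_inv_rev, inv_inv, (hyw.inv_left).eq, pow_three]; group
      _ = _ := by rw [hw, ← zpow_natCast, ← zpow_mul, mul_comm, zpow_mul, zpow_natCast, H.z_cube, one_zpow, one_mul]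

/-- The intersection of the two extraspecial groups. -/
theorem V_conj_eq {g : G} (hp : H.Pair g) :
    (H.V g⁻¹).map (MulAut.conj g).toMonoidHom = H.Q ⊓ H.Qg g := by
  obtain ⟨d, e, σd, hdg, hσd, -, -, heQ, heg, hde, hEcard⟩ := H.exists_mover hp
  have hiv := H.pair_inv hp (H.z_mem_Qg hp)
  obtain ⟨F, hFD, hF0⟩ := H.exists_plane hiv
  obtain ⟨hVQ, hVc, hVmem⟩ := H.V_shape hiv hFD
  set V' := (H.V g⁻¹).map (MulAut.conj g).toMonoidHom with hV'
  have hV'mem : ∀ {x : G}, x ∈ V' ↔ g⁻¹ * x * g ∈ H.V g⁻¹ := fun {x} => by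
    rw [hV', mem_map_equiv, MulAut.conj_symm_apply]
  have hV'g : V' ≤ H.Qg g := fun x hx => H.mem_Qg.2 (hVQ (hV'mem.1 hx))
  have hV'c : Nat.card V' = 27 := by rw [hV', card_map_of_injective (MulAut.conj g).injective, hVc]
  have hyi : H.y g⁻¹ = g⁻¹ * H.z * g := by rw [y, inv_inv]
  have hzV : H.z ∈ V' := hV'mem.2 (subset_closure (Or.inr ⟨1, Commute.one_left _, by rw [hyi]; simp⟩))
  have hyV : H.y g ∈ V' := hV'mem.2 (subset_closure (Or.inl (by simp [y, mul_assoc])))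
  by_cases hsub : V' ≤ H.Q
  · exact eq_of_le_of_card_ge (le_inf hsub hV'g) (by rw [hEcard, hV'c])
  exfalso
  obtain ⟨w, hwV, hwQ⟩ := Set.not_subset.1 hsub
  obtain ⟨t, ht, ht2, hty⟩ := H.exists_inverter hp
  have htz : t * H.z * t⁻¹ = H.z := by rw [ht.comm.eq, mul_inv_cancel_right]
  -- `t` normalises `V'`
  have htC : ∀ {c}, Commute c (H.y g) → Commute (t * c * t⁻¹) (H.y g) := fun {c} hc => by
    have h1 : t * c * t⁻¹ * (t * H.y g * t⁻¹) = t * H.y g * t⁻¹ * (t * c * t⁻¹) := by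
      calc _ = t * (c * H.y g) * t⁻¹ := by group
        _ = _ := by rw [hc.eq]; group
    rw [hty] at h1
    exact Commute.inv_right_iff.1 h1
  have hback : ∀ {c}, Commute c (H.y g) → Commute (g⁻¹ * c * g) H.z := fun {c} hc => by
    show _ = _
    calc g⁻¹ * c * g * H.z = g⁻¹ * (c * H.y g) * g := by rw [y]; group
      _ = _ := by rw [hc.eq, y]; group
  have hgen : ∀ {c}, Commute c (H.y g) → c * H.z * c⁻¹ ∈ V' := fun {c} hc => hV'mem.2 (subset_closure
    (Or.inr ⟨_, hback hc, by rw [hyi]; group⟩))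
  have hnorm : ∀ v ∈ V', t * v * t⁻¹ ∈ V' := by
    have key : ∀ v ∈ H.V g⁻¹, t * (g * v * g⁻¹) * t⁻¹ ∈ V' := by
      intro v hv
      induction hv using closure_induction with
      | mem v hv =>
        rcases hv with rfl | ⟨c, hc, rfl⟩
        · rw [show t * (g * H.z * g⁻¹) * t⁻¹ = t * H.y g * t⁻¹ from rfl, hty]; exact inv_mem hyV
        · have hc' : Commute (g * c * g⁻¹) (H.y g) := by
            show _ = _
            calc g * c * g⁻¹ * H.y g = g * (c * H.z) * g⁻¹ := by rw [y]; group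
              _ = _ := by rw [hc.eq, y]; group
          have h := hgen (htC hc')
          convert h using 1
          conv_rhs => rw [← htz]
          rw [hyi]; group
      | one => simp
      | mul a b _ _ ha hb =>
        convert mul_mem ha hb using 1; group
      | inv a _ ha =>
        convert inv_mem ha using 1; group
    intro v hv
    convert key _ (hV'mem.1 hv) using 1; group
  have hV'z : ∀ v ∈ V', Commute v H.z := fun v hv => by
    obtain ⟨a, ha, rfl⟩ := mem_map.1 hv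
    obtain ⟨a', ha', hae⟩ := mem_map.1 hzV
    have hab : Commute a a' := by
      have h := H.form_cl ⟨a, hVQ ha⟩ ⟨a', hVQ ha'⟩
      obtain ⟨p, q, e1⟩ := (hVmem ⟨a, hVQ ha⟩).1 ha
      obtain ⟨p', q', e2⟩ := (hVmem ⟨a', hVQ ha'⟩).1 ha'
      rw [e1, e2, H.form_add_left, H.form_smul_left, H.form_smul_left, H.form_add_right, H.form_add_right,
        H.form_smul_right, H.form_smul_right, H.form_smul_right, H.form_smul_right, H.form_self, H.form_self,
        H.form_swap (H.fy hiv) (H.act F.I (H.fy hiv)), hF0] at h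
      exact (H.cm_eq_zero (a := ⟨a, hVQ ha⟩) (b := ⟨a', hVQ ha'⟩)).1 (h ▸ by ring)
    rw [← hae]
    exact hab.map _
  have hV'Q : ∀ v ∈ V', v ∈ H.Q → ∃ i j : Fin 3, v = H.y g ^ (i : ℕ) * H.z ^ (j : ℕ) := by
    set T := V' ⊓ H.Q
    have hT : Nat.card T ≤ 9 := by
      have hd : Nat.card T ∣ 3 ^ 3 := by
        rw [show 3 ^ 3 = Nat.card V' by rw [hV'c]; norm_num]; exact card_dvd_of_le inf_le_left
      obtain ⟨i, hi, hie⟩ := (Nat.dvd_prime_pow Nat.prime_three).1 hd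
      rw [hie]
      by_contra hh
      have : i = 3 := by interval_cases i <;> simp_all
      have hTV : T = V' := eq_of_le_of_card_ge (inf_le_left : T ≤ V') (by rw [hie, this, hV'c]; norm_num)
      exact hwQ (mem_inf.1 (hTV.symm ▸ hwV : w ∈ T)).2
    intro v hv hvQ
    let φ : Fin 3 × Fin 3 → T := fun p => ⟨H.y g ^ (p.1 : ℕ) * H.z ^ (p.2 : ℕ),
      mem_inf.2 ⟨mul_mem (pow_mem hyV _) (pow_mem hzV _), mul_mem (pow_mem hp.1 _) (pow_mem H.z_Q _)⟩⟩
    have hinj : Function.Injective φ := by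
      intro p q hpq
      have h1 : H.y g ^ (p.1 : ℕ) * H.z ^ (p.2 : ℕ) = H.y g ^ (q.1 : ℕ) * H.z ^ (q.2 : ℕ) := congrArg Subtype.val hpq
      have h2 : (H.y g ^ (q.1 : ℕ))⁻¹ * H.y g ^ (p.1 : ℕ) = H.z ^ (q.2 : ℕ) * (H.z ^ (p.2 : ℕ))⁻¹ := by
        rw [eq_mul_inv_iff_mul_eq, mul_assoc, h1, inv_mul_cancel_left]
      have h3 := H.zy_trivial hp (x := (H.y g ^ (q.1 : ℕ))⁻¹ * H.y g ^ (p.1 : ℕ))
        (h2 ▸ mul_mem (pow_mem (mem_zpowers _) _) (inv_mem (pow_mem (mem_zpowers _) _)))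
        (mul_mem (inv_mem (pow_mem (mem_zpowers _) _)) (pow_mem (mem_zpowers _) _))
      have ho : orderOf (H.y g) = 3 := orderOf_eq_prime (H.y_cube g) (fun h => hp.2 (h ▸ one_mem _))
      rw [h3] at h2
      rw [inv_mul_eq_one, pow_eq_pow_iff_modEq, ho] at h3
      rw [eq_mul_inv_iff_mul_eq, one_mul, pow_eq_pow_iff_modEq, H.z_order] at h2
      unfold Nat.ModEq at h2 h3
      exact Prod.ext (by omega) (by omega)
    have hbij := (Nat.bijective_iff_injective_and_card φ).2 ⟨hinj, le_antisymm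
      (Nat.card_le_card_of_injective φ hinj) (by simpa using hT)⟩
    obtain ⟨p, hp'⟩ := hbij.2 ⟨v, mem_inf.2 ⟨hv, hvQ⟩⟩
    exact ⟨p.1, p.2, congrArg Subtype.val hp'.symm⟩
  -- `t` centralises `V'` modulo `y`
  have htriv : ∀ v ∈ V', t * v * t⁻¹ * v⁻¹ ∈ zpowers (H.y g) := by
    intro v hv
    obtain ⟨τ, hτ⟩ := H.exists_img (hV'z v hv)
    have himg : H.Img (t * v * t⁻¹ * v⁻¹) 1 := by
      have := (hτ.conj ht).mul hτ.inv
      rwa [negOne_comm, mul_assoc τ, mul_inv_cancel, mul_one, mul_inv_cancel] at this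
    obtain ⟨i, j, hij⟩ := hV'Q _ (mul_mem (hnorm v hv) (inv_mem hv)) himg.mem_Q
    have hyz : Commute (H.y g) H.z := (H.z_cen _ hp.1).symm
    -- apply `t` once more
    have e1 : t * v * t⁻¹ = H.y g ^ (i : ℕ) * H.z ^ (j : ℕ) * v := mul_inv_eq_iff_eq_mul.1 hij
    have hti : t⁻¹ = t := inv_eq_of_mul_eq_one_right ht2
    have e2 : v = (H.y g ^ (i : ℕ))⁻¹ * H.z ^ (j : ℕ) * (H.y g ^ (i : ℕ) * H.z ^ (j : ℕ) * v) := by
      have := congrArg (fun x => t * x * t⁻¹) e1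
      rw [show t * (t * v * t⁻¹) * t⁻¹ = v by rw [hti]; simp [← mul_assoc, ht2, mul_assoc v t t],
        show t * (H.y g ^ (i : ℕ) * H.z ^ (j : ℕ) * v) * t⁻¹ =
          (t * H.y g * t⁻¹) ^ (i : ℕ) * (t * H.z * t⁻¹) ^ (j : ℕ) * (t * v * t⁻¹) by
          rw [conj_pow, conj_pow]; group, hty, htz, inv_pow, e1] at this
      exact this
    have hj : H.z ^ (j : ℕ) * H.z ^ (j : ℕ) = 1 := by
      have hcm := (hyz.pow_pow (i : ℕ) (j : ℕ)).eq
      rw [← mul_assoc, mul_assoc (H.y g ^ (i : ℕ))⁻¹, ← mul_assoc (H.z ^ (j : ℕ)), ← hcm] at e2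
      simpa [← mul_assoc] using e2.symm
    rw [← pow_add, ← orderOf_dvd_iff_pow_eq_one, H.z_order] at hj
    have hj0 : (j : ℕ) = 0 := by omega
    rw [hij, hj0, pow_zero, mul_one]
    exact pow_mem (mem_zpowers _) _
  -- so `t` centralises `C(y)` modulo the other extraspecial group
  have hmod : ∀ c, Commute c (H.y g) → t * c * t⁻¹ * c⁻¹ ∈ H.Qg g := by
    intro c hc
    have hty' : Commute c⁻¹ (H.y g) := hc.inv_left
    have huy : Commute (t * c * t⁻¹ * c⁻¹) (H.y g) := (htC hc).mul_left hty'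
    obtain ⟨τ, hτ⟩ := H.exists_img (hback huy)
    -- the fixed translates
    have hnormC : ∀ {s}, Commute s (H.y g) → ∀ v ∈ V', s * v * s⁻¹ ∈ V' := by
      intro s hs v hv
      have hs' := hback hs
      have key : ∀ a ∈ H.V g⁻¹, (g⁻¹ * s * g) * a * (g⁻¹ * s * g)⁻¹ ∈ H.V g⁻¹ := by
        intro a ha
        induction ha using closure_induction with
        | mem a ha =>
          rcases ha with rfl | ⟨c', hc', rfl⟩
          · rw [hs'.eq, mul_inv_cancel_right]; exact subset_closure (Or.inl rfl)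
          · exact subset_closure (Or.inr ⟨_, hs'.mul_left hc', by group⟩)
        | one => simp
        | mul a b _ _ ha hb => convert mul_mem ha hb using 1; group
        | inv a _ ha => convert inv_mem ha using 1; group
      refine hV'mem.2 ?_
      convert key _ (hV'mem.1 hv) using 1; group
    have hfix : ∀ v ∈ V', (t * c * t⁻¹ * c⁻¹) * v * (t * c * t⁻¹ * c⁻¹)⁻¹ * v⁻¹ ∈ zpowers (H.y g) := by
      intro v hv
      -- notation: congruence modulo `y`
      set Y := zpowers (H.y g)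
      have hYt : ∀ x ∈ Y, t * x * t⁻¹ ∈ Y := fun x hx => by
        obtain ⟨i, rfl⟩ := mem_zpowers_iff.1 hx
        rw [← conj_zpow, hty]; exact zpow_mem (inv_mem (mem_zpowers _)) i
      have hYc : ∀ {s}, Commute s (H.y g) → ∀ x ∈ Y, s * x * s⁻¹ ∈ Y := fun {s} hs x hx => by
        obtain ⟨i, rfl⟩ := mem_zpowers_iff.1 hx
        rw [← conj_zpow, hs.eq, mul_inv_cancel_right]; exact zpow_mem (mem_zpowers _) i
      have hcv := hnormC hty' v hv
      set v1 := c⁻¹ * v * c with hv1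
      rw [inv_inv] at hcv
      have hti : t⁻¹ = t := inv_eq_of_mul_eq_one_right ht2
      have a1 := htriv v1 hcv
      have a1' : t⁻¹ * v1 * t * v1⁻¹ ∈ Y := by
        have : t⁻¹ * v1 * t⁻¹⁻¹ * v1⁻¹ ∈ Y := by rw [hti]; exact a1
        simpa using this
      have a2 := htriv v hv
      have a3 := hYt _ (hYc hc _ a1')
      have e : (t * c * t⁻¹ * c⁻¹) * v * (t * c * t⁻¹ * c⁻¹)⁻¹ * v⁻¹ =
          t * (c * (t⁻¹ * v1 * t * v1⁻¹) * c⁻¹) * t⁻¹ * (t * v * t⁻¹ * v⁻¹) := by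
        rw [hv1]; group
      rw [e]; exact mul_mem a3 a2
    rw [H.mem_Qg]
    have hτ1 : τ = 1 := by
      have hf : ∀ q : H.Q, (q : G) ∈ H.V g⁻¹ → H.act τ (H.cl q) = H.cl q := by
        intro q hq
        rw [hτ.act, H.cl_eq]
        have h1 := hfix (g * q * g⁻¹) (hV'mem.2 (by simpa [mul_assoc] using hq))
        obtain ⟨i, hi⟩ := mem_zpowers_iff.1 h1
        refine mem_zpowers_iff.2 ⟨i, ?_⟩
        rw [y, conj_zpow] at hi
        show _ = g⁻¹ * (t * c * t⁻¹ * c⁻¹) * g * q * (g⁻¹ * (t * c * t⁻¹ * c⁻¹) * g)⁻¹ * (q : G)⁻¹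
        calc H.z ^ i = g⁻¹ * (g * H.z ^ i * g⁻¹) * g := by group
          _ = _ := by rw [hi]; group
      obtain ⟨ci, hci⟩ := H.exists_lift F.I
      have hy1 : ((⟨H.y g⁻¹, hiv.1⟩ : H.Q) : G) ∈ H.V g⁻¹ :=
        subset_closure (Or.inr ⟨1, Commute.one_left _, by simp⟩)
      have hy2 : (H.conjQ ci hci.comm ⟨H.y g⁻¹, hiv.1⟩ : G) ∈ H.V g⁻¹ :=
        subset_closure (Or.inr ⟨ci, hci.comm, rfl⟩)
      refine H.stab_trivial F (H.fy_ne hiv) hFD (hf _ hy1) ?_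
      rw [fy, hci.act]
      exact hf _ hy2
    exact (hτ1 ▸ hτ).mem_Q
  obtain ⟨a, ha, hag⟩ : ∃ a ∈ H.CQ g, a ∉ H.Qg g := by
    by_contra hh
    push Not at hh
    have := Nat.card_mono (Set.toFinite _) (show (H.CQ g : Set G) ⊆ (H.Q ⊓ H.Qg g : Subgroup G) from
      fun x hx => mem_inf.2 ⟨(H.mem_CQ.1 hx).1, hh x hx⟩)
    simp only [SetLike.coe_sort_coe] at this
    rw [H.card_CQ hp, hEcard] at this
    omega
  obtain ⟨haQ, hay⟩ := H.mem_CQ.1 ha
  have h1 := hmod a hay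
  have hZg : zpowers H.z ≤ H.Qg g := zpowers_le.2 (H.z_mem_Qg hp)
  have h2 := hZg (H.inv_mod' ht haQ)
  have h3 : a * a ∈ H.Qg g := by
    have := mul_mem (inv_mem h1) h2
    convert this using 1; group
  have h4 := mul_mem h3 h3
  rw [show a * a * (a * a) = a ^ 3 * a by simp [pow_three, mul_assoc], H.Q_cube a haQ, one_mul] at h4
  exact hag h4

/-- Both descriptions of the intersection. -/
theorem V_eq {g : G} (hp : H.Pair g) : H.V g = H.Q ⊓ H.Qg g := by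
  have h := H.V_conj_eq (H.pair_inv hp (H.z_mem_Qg hp))
  rw [inv_inv] at h
  ext x
  have hx : ∀ w, w ∈ (H.V g).map (MulAut.conj g⁻¹).toMonoidHom ↔ g * w * g⁻¹ ∈ H.V g := fun w => by
    rw [mem_map_equiv, MulAut.conj_symm_apply, inv_inv]
  have := hx (g⁻¹ * x * g)
  rw [h, mem_inf, H.mem_Qg, inv_inv] at this
  simp only [show g * (g⁻¹ * x * g) * g⁻¹ = x by group] at this
  rw [← this, mem_inf, H.mem_Qg]
  exact and_comm

theorem V_card {g : G} (hp : H.Pair g) : Nat.card (H.V g) = 27 := by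
  obtain ⟨F, hFD, -⟩ := H.exists_plane hp
  exact (H.V_shape hp hFD).2.1

theorem V_conj_self {g : G} (hp : H.Pair g) : (H.V g⁻¹).map (MulAut.conj g).toMonoidHom = H.V g :=
  (H.V_conj_eq hp).trans (H.V_eq hp).symm

end Hyp

end Cfsg.Agent.Spor.L43Three
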