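import Mathlib
import Cfsg.Agent.Lib.Classical.SLGroup

/-!
An elementary abelian subgroup of order 27 with a basis, and the matrices of its normaliser acting from the right
on the coordinate rows.
-/

set_option autoImplicit false
set_option linter.unusedSectionVars false

namespace Cfsg.Agent.Spor.L43Three

open Subgroup Matrix

universe u

/-- Three by three matrices over the field with three elements. -/
abbrev M3 := Matrix (Fin 3) (Fin 3) (ZMod 3)

/-- `SL(3, 3)`. -/
abbrev SL33 := Matrix.SpecialLinearGroup (Fin 3) (ZMod 3)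

/-- A based elementary abelian group of order 27. -/
structure Tri (G : Type u) [Group G] : Type u where
  V : Subgroup G
  e : Fin 3 → G
  mem : ∀ i, e i ∈ V
  comm : ∀ a ∈ V, ∀ b ∈ V, Commute a b
  cube : ∀ a ∈ V, a ^ 3 = 1
  card : Nat.card V = 27
  gen : V ≤ closure (Set.range e)

namespace Tri

variable {G : Type u} [Group G] [Finite G] (T : Tri G)

/-- The element with given coordinates. -/
def ev (v : Fin 3 → ZMod 3) : G := T.e 0 ^ (v 0).val * T.e 1 ^ (v 1).val * T.e 2 ^ (v 2).val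

theorem ev_mem (v : Fin 3 → ZMod 3) : T.ev v ∈ T.V :=
  mul_mem (mul_mem (pow_mem (T.mem 0) _) (pow_mem (T.mem 1) _)) (pow_mem (T.mem 2) _)

theorem pow_val_add (i : Fin 3) (a b : ZMod 3) : T.e i ^ (a + b).val = T.e i ^ a.val * T.e i ^ b.val := by
  rw [← pow_add, ZMod.val_add, pow_eq_pow_mod (a.val + b.val) (T.cube _ (T.mem i))]

theorem ev_add (v w : Fin 3 → ZMod 3) : T.ev (v + w) = T.ev v * T.ev w := by
  have c : ∀ i j (m n : ℕ), Commute (T.e i ^ m) (T.e j ^ n) := fun i j m n =>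
    (T.comm _ (T.mem i) _ (T.mem j)).pow_pow m n
  simp only [ev, Pi.add_apply, T.pow_val_add]
  simp only [mul_assoc]
  rw [← mul_assoc (T.e 0 ^ (w 0).val) (T.e 1 ^ (v 1).val), (c 0 1 _ _).eq, mul_assoc,
    ← mul_assoc (T.e 1 ^ (w 1).val) (T.e 2 ^ (v 2).val), (c 1 2 _ _).eq, mul_assoc,
    ← mul_assoc (T.e 0 ^ (w 0).val) (T.e 2 ^ (v 2).val), (c 0 2 _ _).eq, mul_assoc]

theorem ev_zero : T.ev 0 = 1 := by simp [ev]

theorem ev_neg (v : Fin 3 → ZMod 3) : T.ev (-v) = (T.ev v)⁻¹ :=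
  eq_inv_of_mul_eq_one_left (by rw [← T.ev_add, neg_add_cancel, T.ev_zero])

theorem ev_single (i : Fin 3) : T.ev (Pi.single i 1) = T.e i := by
  fin_cases i <;> simp [ev, Pi.single_apply, ZMod.val_one]

theorem ev_smul (c : ZMod 3) (v : Fin 3 → ZMod 3) : T.ev (c • v) = T.ev v ^ c.val := by
  have : ∀ n : ℕ, T.ev ((n : ZMod 3) • v) = T.ev v ^ n := by
    intro n
    induction n with
    | zero => simp [T.ev_zero]
    | succ n ih => rw [Nat.cast_succ, add_smul, one_smul, T.ev_add, ih, pow_succ]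
  simpa using this c.val

theorem ev_surj {a : G} (ha : a ∈ T.V) : ∃ v, T.ev v = a := by
  let R : Subgroup G :=
    { carrier := Set.range T.ev
      one_mem' := ⟨0, T.ev_zero⟩
      mul_mem' := by rintro _ _ ⟨v, rfl⟩ ⟨w, rfl⟩; exact ⟨v + w, T.ev_add v w⟩
      inv_mem' := by rintro _ ⟨v, rfl⟩; exact ⟨-v, T.ev_neg v⟩ }
  exact (closure_le R).2 (by rintro _ ⟨i, rfl⟩; exact ⟨_, T.ev_single i⟩) (T.gen ha)

theorem ev_injective : Function.Injective T.ev := by
  let f : (Fin 3 → ZMod 3) → T.V := fun v => ⟨T.ev v, T.ev_mem v⟩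
  have hf : Function.Bijective f := (Nat.bijective_iff_surjective_and_card f).2
    ⟨fun a => (T.ev_surj a.2).imp fun v hv => Subtype.ext hv, by
      simp [T.card, Nat.card_fun]⟩
  intro v w h
  exact hf.1 (Subtype.ext h)

/-- The coordinates. -/
noncomputable def co (a : G) : Fin 3 → ZMod 3 := Function.invFun T.ev a

theorem co_ev (v : Fin 3 → ZMod 3) : T.co (T.ev v) = v := Function.leftInverse_invFun T.ev_injective v

theorem ev_co {a : G} (ha : a ∈ T.V) : T.ev (T.co a) = a := Function.invFun_eq (T.ev_surj ha)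

theorem mem_of_norm {n a : G} (hn : n ∈ normalizer (T.V : Set G)) (ha : a ∈ T.V) : n⁻¹ * a * n ∈ T.V := by
  have h := (mem_normalizer_iff.1 (inv_mem hn) a).1 ha
  rwa [inv_inv] at h

/-- The matrix of a normalising element. -/
noncomputable def mat (n : G) : M3 := Matrix.of fun k => T.co (n⁻¹ * T.e k * n)

theorem conj_ev {n : G} (hn : n ∈ normalizer (T.V : Set G)) (v : Fin 3 → ZMod 3) :
    n⁻¹ * T.ev v * n = T.ev (v ᵥ* T.mat n) := by
  have hk : ∀ k, n⁻¹ * T.e k * n = T.ev (T.mat n k) := fun k => (T.ev_co (T.mem_of_norm hn (T.mem k))).symm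
  have hp : ∀ k (c : ZMod 3), n⁻¹ * T.e k ^ c.val * n = T.ev (c • T.mat n k) := fun k c => by
    rw [T.ev_smul, ← hk, show (n⁻¹ * T.e k * n) ^ c.val = n⁻¹ * T.e k ^ c.val * n by
      have := conj_pow (i := c.val) (a := n⁻¹) (b := T.e k)
      rwa [inv_inv] at this]
  calc n⁻¹ * T.ev v * n = (n⁻¹ * T.e 0 ^ (v 0).val * n) * (n⁻¹ * T.e 1 ^ (v 1).val * n) *
        (n⁻¹ * T.e 2 ^ (v 2).val * n) := by rw [ev]; group
    _ = _ := by
      rw [hp, hp, hp, ← T.ev_add, ← T.ev_add]
      congr 1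
      ext j
      simp [Matrix.vecMul, dotProduct, Fin.sum_univ_three]

theorem mat_one : T.mat 1 = 1 := by
  ext k j
  show T.co (1⁻¹ * T.e k * 1) j = _
  rw [inv_one, one_mul, mul_one, ← T.ev_single k, T.co_ev]
  simp [Matrix.one_apply, Pi.single_apply, eq_comm]

theorem mat_mul {m n : G} (hm : m ∈ normalizer (T.V : Set G)) (hn : n ∈ normalizer (T.V : Set G)) :
    T.mat (m * n) = T.mat m * T.mat n := by
  ext k j
  have h : (m * n)⁻¹ * T.e k * (m * n) = T.ev (T.mat m k ᵥ* T.mat n) := by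
    rw [← T.conj_ev hn]
    conv_rhs => rw [show T.ev (T.mat m k) = m⁻¹ * T.e k * m from T.ev_co (T.mem_of_norm hm (T.mem k))]
    group
  show T.co _ j = _
  rw [h, T.co_ev]
  rfl

/-- The action as a homomorphism. -/
noncomputable def hom : ↥(normalizer (T.V : Set G)) →* M3 where
  toFun n := T.mat n
  map_one' := T.mat_one
  map_mul' m n := T.mat_mul m.2 n.2

theorem mat_eq_one_iff {n : G} (hn : n ∈ normalizer (T.V : Set G)) :
    T.mat n = 1 ↔ ∀ a ∈ T.V, Commute n a := by
  constructor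
  · intro h a ha
    obtain ⟨v, rfl⟩ := T.ev_surj ha
    have := T.conj_ev hn v
    rw [h, Matrix.vecMul_one, mul_assoc, inv_mul_eq_iff_eq_mul] at this
    exact this.symm
  · intro h
    rw [← T.mat_one]
    ext k j
    show T.co _ j = T.co _ j
    rw [mul_assoc, ← (h _ (T.mem k)).eq, inv_mul_cancel_left, inv_one, one_mul, mul_one]

theorem mat_of_mem {a : G} (ha : a ∈ T.V) : T.mat a = 1 :=
  (T.mat_eq_one_iff (le_normalizer ha)).2 fun b hb => T.comm a ha b hb

theorem det_ne_zero {n : G} (hn : n ∈ normalizer (T.V : Set G)) : (T.mat n).det ≠ 0 := fun h => by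
  have h1 := congrArg Matrix.det (T.mat_mul hn (inv_mem hn))
  rw [mul_inv_cancel, T.mat_one, Matrix.det_one, Matrix.det_mul, h, zero_mul] at h1
  exact one_ne_zero h1

end Tri

theorem card_SL33 : Nat.card SL33 = 5616 := by
  have h := Cfsg.Agent.Classical.natCard_GL_eq_SL_mul (F := ZMod 3) 3 (by norm_num)
  rw [Matrix.card_GL_field, Cfsg.Agent.Classical.natCard_units_field, ZMod.card] at h
  rw [Fin.prod_univ_three] at h
  norm_num [-Nat.card_eq_fintype_card] at h
  show Nat.card (Matrix.SpecialLinearGroup (Fin 3) (ZMod 3)) = 5616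
  omega

end Cfsg.Agent.Spor.L43Three
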