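import Mathlib
import Cfsg.Agent.Lib.Spor.L43Three.Pair
import Cfsg.Agent.Lib.Spor.L43Three.Tri

/-!
The elementary subgroup `V` with the basis `w, y, z`, self-centralising, and the image of its normaliser.
-/

set_option autoImplicit false
set_option linter.unusedSectionVars false

namespace Cfsg.Agent.Spor.L43Three

open Subgroup Matrix

universe u

/-- A frame for `V` with the involution inverting `w` and `y`. -/
structure VBase {G : Type u} [Group G] (H : Hyp G) : Type u where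
  g : G
  hp : H.Pair g
  F : Frame
  hF : H.act F.D (H.fy hp) = H.fy hp
  hF0 : H.form (H.fy hp) (H.act F.I (H.fy hp)) = 0
  t : G
  ht : H.Img t negOne
  ht2 : t * t = 1
  ty : t * H.y g * t⁻¹ = (H.y g)⁻¹
  T : Tri G
  T_V : T.V = H.V g
  e_two : T.e 2 = H.z
  e_one : T.e 1 = H.y g
  e_zero : ∀ h : T.e 0 ∈ H.Q, H.cl ⟨T.e 0, h⟩ = H.act F.I (H.fy hp)
  tw : t * T.e 0 * t⁻¹ = (T.e 0)⁻¹

namespace Hyp

variable {G : Type u} [Group G] [Finite G] (H : Hyp G)

theorem exists_vbase_at : ∃ B : VBase H, B.g = H.g0 := by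
  have hp : H.Pair H.g0 := ⟨H.y_Q, H.y_not⟩
  obtain ⟨F, hF, hF0⟩ := H.exists_plane hp
  obtain ⟨t, ht, ht2, hty⟩ := H.exists_inverter hp
  obtain ⟨hVQ, hVc, hVmem⟩ := H.V_shape hp hF
  obtain ⟨q, hq⟩ := H.cl_surj (H.act F.I (H.fy hp))
  obtain ⟨m, hm⟩ := mem_zpowers_iff.1 (H.inv_mod' ht q.2)
  set w := (q : G) * H.z ^ m with hw
  have hwQ : w ∈ H.Q := mul_mem q.2 (zpow_mem H.z_Q m)
  have hclw : H.cl ⟨w, hwQ⟩ = H.act F.I (H.fy hp) := by
    rw [← hq, H.cl_eq]
    show w * (q : G)⁻¹ ∈ _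
    rw [hw, ← (H.Z_cen (zpow_mem (mem_zpowers _) m) q.2).eq, mul_inv_cancel_right]
    exact zpow_mem (mem_zpowers _) m
  have htw : t * w * t⁻¹ = w⁻¹ := by
    refine eq_inv_of_mul_eq_one_left ?_
    have hc : Commute t (H.z ^ m) := ht.comm.zpow_right m
    rw [hw, show t * ((q : G) * H.z ^ m) * t⁻¹ * ((q : G) * H.z ^ m) =
      t * (q : G) * (H.z ^ m * t⁻¹) * (q : G) * H.z ^ m by group, ← hc.inv_left.eq]
    rw [show t * (q : G) * (t⁻¹ * H.z ^ m) * (q : G) * H.z ^ m = t * (q : G) * t⁻¹ * (H.z ^ m * (q : G)) * H.z ^ m by group,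
      (H.Z_cen (zpow_mem (mem_zpowers _) m) q.2).eq, ← mul_assoc, ← hm, mul_assoc, ← _root_.zpow_add, ← _root_.zpow_add,
      show m + (m + m) = ((3 : ℕ) : ℤ) * m by push_cast; ring, _root_.zpow_mul, zpow_natCast, H.z_cube, _root_.one_zpow]
  have hab : ∀ a ∈ H.V H.g0, ∀ b ∈ H.V H.g0, Commute a b := by
    intro a ha b hb
    have h := H.form_cl ⟨a, hVQ ha⟩ ⟨b, hVQ hb⟩
    obtain ⟨p, r, e1⟩ := (hVmem ⟨a, hVQ ha⟩).1 ha
    obtain ⟨p', r', e2⟩ := (hVmem ⟨b, hVQ hb⟩).1 hb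
    rw [e1, e2, H.form_add_left, H.form_smul_left, H.form_smul_left, H.form_add_right, H.form_add_right,
      H.form_smul_right, H.form_smul_right, H.form_smul_right, H.form_smul_right, H.form_self, H.form_self,
      H.form_swap (H.fy hp) (H.act F.I (H.fy hp)), hF0] at h
    exact (H.cm_eq_zero (a := ⟨a, hVQ ha⟩) (b := ⟨b, hVQ hb⟩)).1 (h ▸ by ring)
  have hzV : H.z ∈ H.V H.g0 := subset_closure (Or.inl rfl)
  have hyV : H.y H.g0 ∈ H.V H.g0 := subset_closure (Or.inr ⟨1, Commute.one_left _, by simp⟩)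
  have hwV : w ∈ H.V H.g0 := (hVmem ⟨w, hwQ⟩).2 ⟨0, 1, by rw [hclw, zero_smul, one_smul, zero_add]⟩
  let T : Tri G :=
    { V := H.V H.g0
      e := ![w, H.y H.g0, H.z]
      mem := fun i => by fin_cases i <;> assumption
      comm := hab
      cube := fun a ha => H.Q_cube a (hVQ ha)
      card := hVc
      gen := fun x hx => by
        obtain ⟨a, b, hx'⟩ := (hVmem ⟨x, hVQ hx⟩).1 hx
        have e : H.cl ⟨x, hVQ hx⟩ =
            H.cl ((⟨H.y H.g0, hp.1⟩ : H.Q) ^ a.val * (⟨w, hwQ⟩ : H.Q) ^ b.val) := by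
          rw [hx', H.cl_mul, H.cl_pow, H.cl_pow, hclw, ← Nat.cast_smul_eq_nsmul (ZMod 3),
            ← Nat.cast_smul_eq_nsmul (ZMod 3), ZMod.natCast_zmod_val, ZMod.natCast_zmod_val]
          rfl
        have hz := H.cl_eq.1 e
        have hg : ∀ i, ![w, H.y H.g0, H.z] i ∈ closure (Set.range ![w, H.y H.g0, H.z]) :=
          fun i => subset_closure ⟨i, rfl⟩
        have hzc : x * (H.y H.g0 ^ a.val * w ^ b.val)⁻¹ ∈ closure (Set.range ![w, H.y H.g0, H.z]) :=
          (zpowers_le.2 (hg 2)) hz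
        have := mul_mem hzc (mul_mem (pow_mem (hg 1) a.val) (pow_mem (hg 0) b.val))
        simp only [Matrix.cons_val_zero, Matrix.cons_val_one] at this
        rwa [inv_mul_cancel_right] at this }
  exact ⟨⟨H.g0, hp, F, hF, hF0, t, ht, ht2, hty, T, rfl, rfl, rfl, fun _ => hclw, htw⟩, rfl⟩

theorem exists_vbase : Nonempty (VBase H) := ⟨H.exists_vbase_at.choose⟩

end Hyp

namespace VBase

variable {G : Type u} [Group G] [Finite G] {H : Hyp G} (B : VBase H)

theorem V_le_Q : B.T.V ≤ H.Q := by rw [B.T_V, H.V_eq B.hp]; exact inf_le_left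

theorem V_eq_inf : B.T.V = H.Q ⊓ H.Qg B.g := by rw [B.T_V, H.V_eq B.hp]

theorem z_mem : H.z ∈ B.T.V := B.e_two ▸ B.T.mem 2

theorem y_mem : H.y B.g ∈ B.T.V := B.e_one ▸ B.T.mem 1

theorem conj_z_mem {c a : G} (hc : Commute c H.z) (ha : a ∈ B.T.V) : c * a * c⁻¹ ∈ B.T.V := by
  rw [B.T_V] at ha ⊢
  induction ha using closure_induction with
  | mem a ha =>
    rcases ha with rfl | ⟨c', hc', rfl⟩
    · rw [hc.eq, mul_inv_cancel_right]; exact subset_closure (Or.inl rfl)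
    · exact subset_closure (Or.inr ⟨_, hc.mul_left hc', by group⟩)
  | one => simp
  | mul a b _ _ ha hb => convert mul_mem ha hb using 1; group
  | inv a _ ha => convert inv_mem ha using 1; group

theorem C_le_norm {c : G} (hc : Commute c H.z) : c ∈ normalizer (B.T.V : Set G) :=
  mem_normalizer_fintype fun _ ha => B.conj_z_mem hc ha

theorem Cy_le_norm {c : G} (hc : Commute c (H.y B.g)) : c ∈ normalizer (B.T.V : Set G) :=
  mem_normalizer_fintype fun a ha => by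
    rw [B.T_V] at ha ⊢
    rw [← H.V_conj_self B.hp] at ha ⊢
    obtain ⟨b, hb, rfl⟩ := ha
    have hz : Commute (B.g⁻¹ * c * B.g) H.z := by
      show _ = _
      calc B.g⁻¹ * c * B.g * H.z = B.g⁻¹ * (c * H.y B.g) * B.g := by rw [Hyp.y]; group
        _ = _ := by rw [hc.eq, Hyp.y]; group
    refine ⟨B.g⁻¹ * c * B.g * b * (B.g⁻¹ * c * B.g)⁻¹, ?_, by simp [mul_assoc]⟩
    show B.g⁻¹ * c * B.g * b * (B.g⁻¹ * c * B.g)⁻¹ ∈ H.V B.g⁻¹
    rw [SetLike.mem_coe] at hb
    induction hb using closure_induction with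
    | mem a ha =>
      rcases ha with rfl | ⟨c', hc', rfl⟩
      · rw [hz.eq, mul_inv_cancel_right]; exact subset_closure (Or.inl rfl)
      · exact subset_closure (Or.inr ⟨_, hz.mul_left hc', by group⟩)
    | one => simp
    | mul a b _ _ ha hb => convert mul_mem ha hb using 1; group
    | inv a _ ha => convert inv_mem ha using 1; group

/-- `V` is self-centralising. -/
theorem self_cent {c : G} (h : ∀ a ∈ B.T.V, Commute c a) : c ∈ B.T.V := by
  have hcz : Commute c H.z := h _ B.z_mem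
  obtain ⟨σ, hσ⟩ := H.exists_img hcz
  have hfix : ∀ q : H.Q, (q : G) ∈ B.T.V → H.act σ (H.cl q) = H.cl q := fun q hq => by
    rw [hσ.act]; congr 1
    exact Subtype.ext (mul_inv_eq_iff_eq_mul.2 (h q hq).eq)
  have hw : B.T.e 0 ∈ H.Q := B.V_le_Q (B.T.mem 0)
  have hσ1 : σ = 1 := by
    refine H.stab_trivial B.F (H.fy_ne B.hp) B.hF (hfix _ B.y_mem) ?_
    rw [← B.e_zero hw]
    exact hfix _ (B.T.mem 0)
  have hcQ : c ∈ H.Q := (hσ1 ▸ hσ).mem_Q
  have hle : B.T.V ≤ H.Q ⊓ centralizer (B.T.V : Set G) := fun a ha =>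
    mem_inf.2 ⟨B.V_le_Q ha, mem_centralizer_iff.2 fun b hb => (B.T.comm b hb a ha).eq⟩
  suffices heq : B.T.V = H.Q ⊓ centralizer (B.T.V : Set G) by
    rw [heq]; exact mem_inf.2 ⟨hcQ, mem_centralizer_iff.2 fun a ha => (h a ha).eq.symm⟩
  refine eq_of_le_of_card_ge hle ?_
  rw [B.T.card]
  set A := H.Q ⊓ centralizer (B.T.V : Set G)
  have hA : A ≤ H.CQ B.g := fun a ha => H.mem_CQ.2 ⟨(mem_inf.1 ha).1,
    (mem_centralizer_iff.1 (mem_inf.1 ha).2 _ B.y_mem).symm⟩
  have hd : Nat.card A ∣ 3 ^ 4 := by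
    rw [show 3 ^ 4 = Nat.card (H.CQ B.g) by rw [H.card_CQ B.hp]; norm_num]; exact card_dvd_of_le hA
  obtain ⟨i, hi, hie⟩ := (Nat.dvd_prime_pow Nat.prime_three).1 hd
  rw [hie]
  by_contra hlt
  have h4 : i = 4 := by interval_cases i <;> simp_all
  have hAe : A = H.CQ B.g := eq_of_le_of_card_ge hA (by rw [hie, h4, H.card_CQ B.hp]; norm_num)
  -- then `w` is orthogonal to all of the centraliser of `y`
  obtain ⟨k, hk⟩ := H.exists_form (H.fy_ne B.hp) 1
  have hall : ∀ m, H.form m (H.fy B.hp) = 0 → H.form m (H.act B.F.I (H.fy B.hp)) = 0 := by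
    intro m hm
    obtain ⟨q, rfl⟩ := H.cl_surj m
    rw [Hyp.fy, H.form_cl, H.cm_eq_zero] at hm
    rw [← B.e_zero hw, H.form_cl, H.cm_eq_zero]
    have : (q : G) ∈ A := hAe ▸ H.mem_CQ.2 ⟨q.2, hm⟩
    exact (mem_centralizer_iff.1 (mem_inf.1 this).2 _ (B.T.mem 0)).symm
  set d := H.form k (H.act B.F.I (H.fy B.hp))
  have hzero : H.act B.F.I (H.fy B.hp) + (-d) • H.fy B.hp = 0 := H.form_nondeg fun m => by
    set c := H.form m (H.fy B.hp) with hc
    have h1 := hall (m + (-c) • k) (by rw [H.form_add_left, H.form_smul_left, hk, ← hc]; ring)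
    rw [H.form_add_left, H.form_smul_left] at h1
    rw [H.form_swap m, H.form_add_right, H.form_smul_right, ← hc]
    linear_combination -h1
  have := (H.pair_indep B.F (H.fy_ne B.hp) (a := -d) (b := 1) (by rw [one_smul, add_comm]; exact hzero)).2
  exact one_ne_zero this

theorem mat_eq_one {n : G} (hn : n ∈ normalizer (B.T.V : Set G)) : B.T.mat n = 1 ↔ n ∈ B.T.V :=
  ⟨fun h => B.self_cent ((B.T.mat_eq_one_iff hn).1 h), fun h => B.T.mat_of_mem h⟩

theorem cube_det {n : G} (hn : Commute n H.z) : (B.T.mat n).det = 1 := by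
  obtain ⟨σ, hσ⟩ := H.exists_img hn
  let D : ↥(centralizer ({H.z} : Set G)) →* ZMod 3 :=
    { toFun := fun c => (B.T.mat c).det
      map_one' := by show (B.T.mat 1).det = 1; rw [B.T.mat_one, det_one]
      map_mul' := fun a b => by
        show (B.T.mat ((a : G) * b)).det = _
        rw [B.T.mat_mul (B.C_le_norm (H.mem_C.1 a.2)) (B.C_le_norm (H.mem_C.1 b.2)), det_mul] }
  have hcube : ∀ x : ZMod 3, x ^ 9 = 1 → x = 1 := by decide
  have hQ1 : ∀ c : ↥(centralizer ({H.z} : Set G)), (c : G) ∈ H.Q → D c = 1 := fun c hc => by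
    refine hcube _ ?_
    rw [← map_pow, show c ^ 9 = 1 from Subtype.ext (by
      rw [SubmonoidClass.coe_pow, show (9 : ℕ) = 3 * 3 from rfl, pow_mul, H.Q_cube _ hc, one_pow]; rfl), map_one]
  let U : Subgroup SL23 :=
    { carrier := {τ | ∀ c : ↥(centralizer ({H.z} : Set G)), H.π c = τ → D c = 1}
      one_mem' := fun c hc => hQ1 c ((H.π_ker c).1 hc)
      mul_mem' := fun {a b} ha hb c hc => by
        obtain ⟨ca, rfl⟩ := H.π_surj a
        have hb' : D (ca⁻¹ * c) = 1 := hb _ (by rw [map_mul, map_inv, hc, inv_mul_cancel_left])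
        rw [← mul_inv_cancel_left ca c, map_mul, ha ca rfl, hb', one_mul]
      inv_mem' := fun {a} ha c hc => by
        have h1 : D c⁻¹ = 1 := ha _ (by rw [map_inv, hc, inv_inv])
        have h2 : D c * D c⁻¹ = 1 := by rw [← map_mul, mul_inv_cancel, map_one]
        rwa [h1, mul_one] at h2 }
  have hU : U = ⊤ := eq_top_of_cube_mem fun a ha c hc => by
    refine hcube _ ?_
    rw [show (9 : ℕ) = 3 * 3 from rfl, pow_mul, ← map_pow]
    have : (c : G) ^ 3 ∈ H.Q := by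
      rw [← SubmonoidClass.coe_pow, ← H.π_ker, map_pow, hc, ha]
    rw [← map_pow, show (c ^ 3) ^ 3 = 1 from Subtype.ext (by
      rw [SubmonoidClass.coe_pow, SubmonoidClass.coe_pow, H.Q_cube _ this]; rfl), map_one]
  exact (hU ▸ mem_top σ : σ ∈ U) ⟨n, hσ.1⟩ hσ.2

theorem mat_z_row {n : G} (hn : Commute n H.z) : B.T.mat n 2 = Pi.single 2 1 := by
  show B.T.co (n⁻¹ * B.T.e 2 * n) = _
  rw [B.e_two, mul_assoc, ← hn.eq, inv_mul_cancel_left, ← B.e_two, ← B.T.ev_single, B.T.co_ev]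

theorem mat_y_row {n : G} (hn : Commute n (H.y B.g)) : B.T.mat n 1 = Pi.single 1 1 := by
  show B.T.co (n⁻¹ * B.T.e 1 * n) = _
  rw [B.e_one, mul_assoc, ← hn.eq, inv_mul_cancel_left, ← B.e_one, ← B.T.ev_single, B.T.co_ev]

end VBase

end Cfsg.Agent.Spor.L43Three
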