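import Mathlib
import Cfsg.Agent.Lib.Spor.L43Three.Base

/-!
The normaliser of `V` induces exactly `SL(3, 3)` on it.
-/

set_option autoImplicit false
set_option linter.unusedSectionVars false

namespace Cfsg.Agent.Spor.L43Three

open Subgroup Matrix

universe u

/-- The stabiliser of a coordinate row in `SL(3, 3)`. -/
def rowStab (k : Fin 3) : Subgroup SL33 where
  carrier := {A | A.1 k = Pi.single k 1}
  one_mem' := by
    ext j; simp [Matrix.one_apply, Pi.single_apply, eq_comm]
  mul_mem' := by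
    intro a b ha hb
    show (a.1 * b.1) k = _
    rw [Matrix.mul_apply_eq_vecMul, show a.1 k = _ from ha, Matrix.single_one_vecMul]
    exact hb
  inv_mem' := by
    intro a ha
    show (a⁻¹).1 k = _
    have h : (a.1 * (a⁻¹).1) k = Pi.single k 1 := by
      rw [show a.1 * (a⁻¹).1 = (1 : M3) from congrArg Subtype.val (mul_inv_cancel a)]
      ext j; simp [Matrix.one_apply, Pi.single_apply, eq_comm]
    rw [Matrix.mul_apply_eq_vecMul, show a.1 k = _ from ha, Matrix.single_one_vecMul] at h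
    exact h

theorem mem_rowStab {k : Fin 3} {A : SL33} : A ∈ rowStab k ↔ A.1 k = Pi.single k 1 := Iff.rfl

/-- Two rows beside a fixed one. -/
def fillRow (k : Fin 3) (r : (Fin 3 → ZMod 3) × (Fin 3 → ZMod 3)) : M3 :=
  if k = 2 then ![r.1, r.2, Pi.single 2 1] else ![r.1, Pi.single 1 1, r.2]

theorem fill_count : ∀ k : Fin 3, k = 1 ∨ k = 2 →
    (Finset.univ.filter fun r : (Fin 3 → ZMod 3) × (Fin 3 → ZMod 3) => (fillRow k r).det = 1).card = 216 := by
  decide +kernel

theorem card_rowStab_le {k : Fin 3} (hk : k = 1 ∨ k = 2) : Nat.card (rowStab k) ≤ 216 := by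
  rw [← fill_count k hk, ← Nat.card_eq_finsetCard]
  refine Nat.card_le_card_of_injective
    (fun A => ⟨(A.1.1 0, if k = 2 then A.1.1 1 else A.1.1 2), Finset.mem_filter.2 ⟨Finset.mem_univ _, ?_⟩⟩) ?_
  · have e : fillRow k (A.1.1 0, if k = 2 then A.1.1 1 else A.1.1 2) = A.1.1 := by
      have h := mem_rowStab.1 A.2
      ext i j
      rcases hk with rfl | rfl <;> fin_cases i <;> simp [fillRow, h]
    rw [e]; exact A.1.2
  · intro A A' h
    have h' := congrArg (fun r => fillRow k r.1) h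
    simp only at h'
    refine Subtype.ext (Subtype.ext ?_)
    have ha := mem_rowStab.1 A.2
    have ha' := mem_rowStab.1 A'.2
    ext i j
    have := congrFun (congrFun h' i) j
    rcases hk with rfl | rfl <;> fin_cases i <;> simp [fillRow, ha, ha'] at this ⊢ <;> exact this

theorem rowStab_generate {K : Subgroup SL33} (h1 : rowStab 1 ≤ K) (h2 : rowStab 2 ≤ K) : K = ⊤ := by
  rw [eq_top_iff, ← Cfsg.Agent.Classical.SL_closure_transvections, Subgroup.closure_le]
  rintro _ ⟨⟨i, j, hij, c⟩, rfl⟩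
  by_cases hi : i = 1
  · refine h2 (mem_rowStab.2 ?_)
    subst hi
    ext l
    simp [Matrix.TransvectionStruct.toSpecialLinearGroup, Matrix.SpecialLinearGroup.transvection,
      Matrix.transvection, Matrix.one_apply, Pi.single_apply, eq_comm]
  · refine h1 (mem_rowStab.2 ?_)
    ext l
    simp [Matrix.TransvectionStruct.toSpecialLinearGroup, Matrix.SpecialLinearGroup.transvection,
      Matrix.transvection, Matrix.one_apply, Pi.single_apply, eq_comm, hi, Ne.symm hi]

namespace VBase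

variable {G : Type u} [Group G] [Finite G] {H : Hyp G} (B : VBase H)

/-- The normaliser of `V`. -/
def N : Subgroup G := normalizer (B.T.V : Set G)

/-- The elements of determinant one in the normaliser. -/
def N1 : Subgroup G where
  carrier := {n | n ∈ B.N ∧ (B.T.mat n).det = 1}
  one_mem' := ⟨one_mem _, by rw [B.T.mat_one, det_one]⟩
  mul_mem' := by
    intro a b ha hb
    exact ⟨mul_mem ha.1 hb.1, by rw [B.T.mat_mul ha.1 hb.1, det_mul, ha.2, hb.2, one_mul]⟩
  inv_mem' := by
    intro a ha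
    refine ⟨inv_mem ha.1, ?_⟩
    have h1 := congrArg Matrix.det (B.T.mat_mul ha.1 (inv_mem ha.1))
    rw [mul_inv_cancel, B.T.mat_one, det_one, det_mul, ha.2, one_mul] at h1
    exact h1.symm

/-- The matrix in `SL(3, 3)`. -/
noncomputable def phi1 : B.N1 →* SL33 where
  toFun n := ⟨B.T.mat n, n.2.2⟩
  map_one' := Subtype.ext B.T.mat_one
  map_mul' a b := Subtype.ext (B.T.mat_mul a.2.1 b.2.1)

theorem phi1_val (n : B.N1) : (B.phi1 n).1 = B.T.mat n := rfl

theorem V_le_N1 : B.T.V ≤ B.N1 := fun _ hv => ⟨le_normalizer hv, by rw [B.T.mat_of_mem hv, det_one]⟩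

theorem C_le_N1 : centralizer ({H.z} : Set G) ≤ B.N1 := fun _ hc =>
  ⟨B.C_le_norm (H.mem_C.1 hc), B.cube_det (H.mem_C.1 hc)⟩

theorem det_Cy {c : G} (hc : Commute c (H.y B.g)) : (B.T.mat c).det = 1 := by
  -- `C(y)` is conjugate to `C(z)`, generated by elements of order dividing nine
  let Cy := centralizer ({H.y B.g} : Set G)
  let D : ↥Cy →* ZMod 3 :=
    { toFun := fun x => (B.T.mat x).det
      map_one' := by show (B.T.mat 1).det = 1; rw [B.T.mat_one, det_one]
      map_mul' := fun a b => by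
        show (B.T.mat ((a : G) * b)).det = _
        rw [B.T.mat_mul (B.Cy_le_norm (mem_centralizer_singleton_iff.1 a.2))
          (B.Cy_le_norm (mem_centralizer_singleton_iff.1 b.2)), det_mul] }
  have hy : ∀ {x : G}, Commute x H.z → B.g * x * B.g⁻¹ ∈ Cy := fun {x} hx => by
    refine mem_centralizer_singleton_iff.2 ?_
    calc B.g * x * B.g⁻¹ * H.y B.g = B.g * (x * H.z) * B.g⁻¹ := by rw [Hyp.y]; group
      _ = _ := by rw [hx.eq, Hyp.y]; group
  let D' : ↥(centralizer ({H.z} : Set G)) →* ZMod 3 :=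
    { toFun := fun x => D ⟨B.g * x * B.g⁻¹, hy (H.mem_C.1 x.2)⟩
      map_one' := by rw [← D.map_one]; exact congrArg D (Subtype.ext (by simp))
      map_mul' := fun a b => by rw [← D.map_mul]; exact congrArg D (Subtype.ext (by simp [mul_assoc])) }
  have hcube : ∀ x : ZMod 3, x ^ 9 = 1 → x = 1 := by decide
  let U : Subgroup SL23 :=
    { carrier := {τ | ∀ x : ↥(centralizer ({H.z} : Set G)), H.π x = τ → D' x = 1}
      one_mem' := fun x hx => by
        refine hcube _ ?_
        rw [← map_pow, show x ^ 9 = 1 from Subtype.ext (by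
          rw [SubmonoidClass.coe_pow, show (9 : ℕ) = 3 * 3 from rfl, pow_mul, H.Q_cube _ ((H.π_ker x).1 hx),
            one_pow]; rfl), map_one]
      mul_mem' := fun {a b} ha hb x hx => by
        obtain ⟨ca, rfl⟩ := H.π_surj a
        have hb' : D' (ca⁻¹ * x) = 1 := hb _ (by rw [map_mul, map_inv, hx, inv_mul_cancel_left])
        rw [← mul_inv_cancel_left ca x, map_mul, ha ca rfl, hb', one_mul]
      inv_mem' := fun {a} ha x hx => by
        have h1 : D' x⁻¹ = 1 := ha _ (by rw [map_inv, hx, inv_inv])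
        have h2 : D' x * D' x⁻¹ = 1 := by rw [← map_mul, mul_inv_cancel, map_one]
        rwa [h1, mul_one] at h2 }
  have hU : U = ⊤ := eq_top_of_cube_mem fun a ha x hx => by
    refine hcube _ ?_
    have : (x : G) ^ 3 ∈ H.Q := by rw [← SubmonoidClass.coe_pow, ← H.π_ker, map_pow, hx, ha]
    rw [← map_pow, show x ^ 9 = 1 from Subtype.ext (by
      rw [SubmonoidClass.coe_pow, show (9 : ℕ) = 3 * 3 from rfl, pow_mul, H.Q_cube _ this]; rfl), map_one]
  have hz : Commute (B.g⁻¹ * c * B.g) H.z := by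
    show _ = _
    calc B.g⁻¹ * c * B.g * H.z = B.g⁻¹ * (c * H.y B.g) * B.g := by rw [Hyp.y]; group
      _ = _ := by rw [hc.eq, Hyp.y]; group
  have h : D' ⟨B.g⁻¹ * c * B.g, H.mem_C.2 hz⟩ = 1 := (hU ▸ mem_top _ : H.π _ ∈ U) _ rfl
  have h' : D ⟨c, mem_centralizer_singleton_iff.2 hc⟩ = 1 := by
    rw [← h]; exact congrArg D (Subtype.ext (by simp [mul_assoc]))
  exact h'

theorem Cy_le_N1 : centralizer ({H.y B.g} : Set G) ≤ B.N1 := fun _ hc =>
  ⟨B.Cy_le_norm (mem_centralizer_singleton_iff.1 hc), B.det_Cy (mem_centralizer_singleton_iff.1 hc)⟩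

theorem phi1_ker : B.phi1.ker = B.T.V.subgroupOf B.N1 := by
  ext n
  rw [MonoidHom.mem_ker, mem_subgroupOf, ← B.mat_eq_one n.2.1]
  exact ⟨fun h => congrArg Subtype.val h, fun h => Subtype.ext h⟩

theorem image_stab {X : Subgroup G} (hX : X ≤ B.N1) (hVX : B.T.V ≤ X) (hcard : Nat.card X = 5832)
    {k : Fin 3} (hk : k = 1 ∨ k = 2) (hrow : ∀ x ∈ X, B.T.mat x k = Pi.single k 1) :
    rowStab k ≤ B.phi1.range := by
  let ψ : X →* SL33 := B.phi1.comp (Subgroup.inclusion hX)
  have hr : ψ.range ≤ rowStab k := by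
    rintro _ ⟨x, rfl⟩
    exact mem_rowStab.2 (hrow x x.2)
  have hker : ψ.ker = B.T.V.subgroupOf X := by
    ext x
    rw [MonoidHom.mem_ker, MonoidHom.comp_apply, ← MonoidHom.mem_ker, B.phi1_ker, mem_subgroupOf, mem_subgroupOf]
    rfl
  have h := Subgroup.card_mul_index ψ.ker
  rw [Subgroup.index_ker, hker, Nat.card_congr (subgroupOfEquivOfLe hVX).toEquiv, B.T.card, hcard] at h
  have heq := eq_of_le_of_card_ge hr (by have := card_rowStab_le hk; omega)
  rw [← heq]
  rintro _ ⟨x, rfl⟩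
  exact ⟨_, rfl⟩

theorem card_Cy : Nat.card ↥(centralizer ({H.y B.g} : Set G)) = 5832 := by
  have e : centralizer ({H.y B.g} : Set G) = (centralizer ({H.z} : Set G)).map (MulAut.conj B.g).toMonoidHom := by
    ext x
    rw [mem_map_equiv, MulAut.conj_symm_apply, mem_centralizer_singleton_iff, mem_centralizer_singleton_iff]
    constructor
    · intro h
      calc B.g⁻¹ * x * B.g * H.z = B.g⁻¹ * (x * H.y B.g) * B.g := by rw [Hyp.y]; group
        _ = _ := by rw [h, Hyp.y]; group
    · intro h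
      calc x * H.y B.g = B.g * ((B.g⁻¹ * x * B.g) * H.z) * B.g⁻¹ := by rw [Hyp.y]; group
        _ = _ := by rw [h, Hyp.y]; group
  rw [e, card_map_of_injective (MulAut.conj B.g).injective, H.card_C]

theorem phi1_surj : Function.Surjective B.phi1 := by
  refine MonoidHom.range_eq_top.1 (rowStab_generate ?_ ?_)
  · refine B.image_stab B.Cy_le_N1 (fun v hv => ?_) B.card_Cy (Or.inl rfl) fun x hx =>
      B.mat_y_row (mem_centralizer_singleton_iff.1 hx)
    exact mem_centralizer_singleton_iff.2 (B.T.comm v hv _ B.y_mem).eq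
  · refine B.image_stab B.C_le_N1 (fun v hv => ?_) H.card_C (Or.inr rfl) fun x hx =>
      B.mat_z_row (H.mem_C.1 hx)
    exact H.mem_C.2 (B.T.comm v hv _ B.z_mem)

theorem card_N1 : Nat.card B.N1 = 151632 := by
  have h := Subgroup.card_mul_index B.phi1.ker
  rw [Subgroup.index_ker, MonoidHom.range_eq_top.2 B.phi1_surj, Subgroup.card_top, card_SL33, B.phi1_ker,
    Nat.card_congr (subgroupOfEquivOfLe B.V_le_N1).toEquiv, B.T.card] at h
  omega

theorem N_eq_N1 : B.N = B.N1 := by
  have hle : B.N1 ≤ B.N := fun n hn => hn.1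
  refine (eq_of_le_of_card_ge hle ?_).symm
  let f : B.N → B.T.V := fun n => ⟨(n : G) * H.z * (n : G)⁻¹, (mem_normalizer_iff.1 n.2 _).1 B.z_mem⟩
  have hfib : Nat.card B.N ≤ 27 * 5832 := by
    classical
    choose! r hr using fun (v : B.T.V) (h : ∃ n, f n = v) => h
    let φ : B.N → B.T.V × ↥(centralizer ({H.z} : Set G)) := fun n => (f n, ⟨((r (f n) : B.N) : G)⁻¹ * n, by
      have he : ((r (f n) : B.N) : G) * H.z * ((r (f n) : B.N) : G)⁻¹ = (n : G) * H.z * (n : G)⁻¹ :=
        congrArg Subtype.val (hr (f n) ⟨n, rfl⟩)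
      refine H.mem_C.2 ?_
      show _ = _
      calc ((r (f n) : B.N) : G)⁻¹ * n * H.z
          = ((r (f n) : B.N) : G)⁻¹ * ((n : G) * H.z * (n : G)⁻¹) * n := by group
        _ = _ := by rw [← he]; group⟩)
    have hφ : Function.Injective φ := fun a b h => by
      have h1 : f a = f b := congrArg Prod.fst h
      have h2 : ((r (f a) : B.N) : G)⁻¹ * a = ((r (f b) : B.N) : G)⁻¹ * b := congrArg (fun p => (p.2 : G)) h
      rw [h1] at h2
      exact Subtype.ext (mul_left_cancel h2)
    calc Nat.card B.N ≤ Nat.card (B.T.V × ↥(centralizer ({H.z} : Set G))) := Nat.card_le_card_of_injective φ hφ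
      _ = _ := by rw [Nat.card_prod, B.T.card, H.card_C]
  obtain ⟨k, hk⟩ := card_dvd_of_le hle
  rw [B.card_N1] at hk ⊢
  have hk1 : k ≠ 0 := fun e => by
    rw [e, mul_zero] at hk
    exact Nat.card_pos.ne' hk
  rw [hk] at hfib ⊢
  have : k = 1 := by omega
  omega

theorem card_N : Nat.card B.N = 151632 := by rw [B.N_eq_N1, B.card_N1]

/-- The action of the whole normaliser. -/
noncomputable def phi : B.N →* SL33 := B.phi1.comp (MulEquiv.subgroupCongr B.N_eq_N1).toMonoidHom

theorem phi_val (n : B.N) : (B.phi n).1 = B.T.mat n := rfl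

theorem phi_surj : Function.Surjective B.phi := B.phi1_surj.comp (MulEquiv.surjective _)

theorem phi_eq_one {n : B.N} : B.phi n = 1 ↔ (n : G) ∈ B.T.V := by
  rw [← B.mat_eq_one n.2, ← B.phi_val]
  exact ⟨fun h => congrArg Subtype.val h, fun h => Subtype.ext h⟩

theorem C_le_N : centralizer ({H.z} : Set G) ≤ B.N := B.N_eq_N1 ▸ B.C_le_N1

theorem Q_le_N : H.Q ≤ B.N := fun _ hq => B.C_le_N (Hyp.img_Q hq).mem

theorem conj_ev (n : B.N) (v : Fin 3 → ZMod 3) : (n : G)⁻¹ * B.T.ev v * n = B.T.ev (v ᵥ* (B.phi n).1) :=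
  B.T.conj_ev n.2 v

end VBase

end Cfsg.Agent.Spor.L43Three
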