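import Mathlib
import Cfsg.Agent.Lib.Spor.L43Three.NormV
import Cfsg.Agent.Lib.Invol.G23Am.Tools
import Cfsg.Agent.Lib.Grp.Basic
import Cfsg.Agent.S0051

/-!
The second isotropic plane, the complement of `V` in a Sylow subgroup of its normaliser, and the splitting of the
normaliser over `V`.
-/

set_option autoImplicit false
set_option linter.unusedSectionVars false

namespace Cfsg.Agent.Spor.L43Three

open Subgroup Matrix

universe u

/-- The transvection moving the first row to the second. -/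
def trans01 : SL33 := ⟨!![1, 1, 0; 0, 1, 0; 0, 0, 1], by decide +kernel⟩

/-- The transvection moving the second row to the third. -/
def trans12 : SL33 := ⟨!![1, 0, 0; 0, 1, 1; 0, 0, 1], by decide +kernel⟩

/-- A cyclic permutation. -/
def cyc3 : SL33 := ⟨!![0, 1, 0; 0, 0, 1; 1, 0, 0], by decide +kernel⟩

theorem cyc3_conj : cyc3.1 * trans01.1 = trans12.1 * cyc3.1 ∨ cyc3.1 * trans12.1 = trans01.1 * cyc3.1 := by
  decide +kernel

theorem trans01_poly : trans01.1 * trans01.1 + trans01.1 + 1 = 0 := by decide +kernel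

theorem trans01_cube : trans01.1 * trans01.1 * trans01.1 = 1 := by decide +kernel

namespace VBase

variable {G : Type u} [Group G] [Finite G] {H : Hyp G} (B : VBase H)

/-- The class of `y`. -/
abbrev f : H.M := H.fy B.hp

/-- Its translate. -/
noncomputable abbrev f' : H.M := H.act B.F.I (H.fy B.hp)

theorem exists_dual : ∃ n, H.form B.f n = 0 ∧ H.form B.f' n = 1 := by
  obtain ⟨k, hk⟩ := H.exists_form (H.fy_ne B.hp) 1
  obtain ⟨m, hm0, hm⟩ : ∃ m, H.form B.f m = 0 ∧ H.form B.f' m ≠ 0 := by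
    by_contra hall
    push Not at hall
    set d := H.form k B.f'
    have hzero : B.f' + (-d) • B.f = 0 := H.form_nondeg fun m => by
      set c := H.form m B.f with hc
      have hh := hall (m + (-c) • k) (by
        rw [H.form_add_right, H.form_smul_right, H.form_swap k, hk, H.form_swap m, ← hc]; ring)
      rw [H.form_add_right, H.form_smul_right, H.form_swap k] at hh
      rw [H.form_add_left, H.form_smul_left, H.form_swap m B.f, ← hc]
      linear_combination hh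
    exact one_ne_zero (H.pair_indep B.F (H.fy_ne B.hp) (a := -d) (b := 1)
      (by rw [one_smul, add_comm]; exact hzero)).2
  exact ⟨(H.form B.f' m)⁻¹ • m, by rw [H.form_smul_right, hm0, mul_zero],
    by rw [H.form_smul_right, inv_mul_cancel₀ hm]⟩

theorem f_pair {n : H.M} (h0 : H.form B.f n = 0) (h1 : H.form B.f' n = 1) :
    H.form B.f (H.act B.F.I n) = -1 ∧ H.form B.f' (H.act B.F.I n) = 0 := by
  constructor
  · have := H.form_act B.F.I B.f (H.act B.F.I n)
    rw [← H.act_mul, B.F.I_sq, H.act_negOne, H.form_neg_right, h1] at this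
    exact this.symm
  · show H.form (H.act B.F.I B.f) (H.act B.F.I n) = 0
    rw [H.form_act]; exact h0

theorem coords {n : H.M} (h0 : H.form B.f n = 0) (h1 : H.form B.f' n = 1) (m : H.M) :
    ∃ a b c d : ZMod 3, m = a • B.f + b • B.f' + (c • n + d • H.act B.F.I n) := by
  obtain ⟨h2, h3⟩ := B.f_pair h0 h1
  set n' := H.act B.F.I n
  let φ : (Fin 4 → ZMod 3) → H.M := fun v => v 0 • B.f + v 1 • B.f' + (v 2 • n + v 3 • n')
  have hval : ∀ v, H.form B.f (φ v) = -v 3 ∧ H.form B.f' (φ v) = v 2 := fun v => by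
    constructor
    · simp only [φ, H.form_add_right, H.form_smul_right, H.form_self, h0, h2]
      rw [show H.form B.f B.f' = 0 from B.hF0]; ring
    · simp only [φ, H.form_add_right, H.form_smul_right, H.form_self, h1, h3]
      rw [H.form_swap B.f B.f', show H.form B.f B.f' = 0 from B.hF0]; ring
  have hinj : Function.Injective φ := by
    intro v w h
    have e3 : v 3 = w 3 := neg_injective ((hval v).1.symm.trans (h ▸ (hval w).1))
    have e2 : v 2 = w 2 := (hval v).2.symm.trans (h ▸ (hval w).2)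
    have h' : v 0 • B.f + v 1 • B.f' = w 0 • B.f + w 1 • B.f' := by
      simp only [φ, e2, e3] at h
      exact add_right_cancel h
    obtain ⟨e0, e1⟩ := H.pair_indep B.F (H.fy_ne B.hp) (a := v 0 - w 0) (b := v 1 - w 1) (by
      simp only [sub_smul]
      rw [show ∀ p q r s : H.M, p - q + (r - s) = (p + r) - (q + s) from fun p q r s => by abel]
      exact sub_eq_zero.2 h')
    funext i
    fin_cases i
    exacts [sub_eq_zero.1 e0, sub_eq_zero.1 e1, e2, e3]
  obtain ⟨v, hv⟩ := ((Nat.bijective_iff_injective_and_card φ).2 ⟨hinj, by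
    rw [H.card_M]; simp [Nat.card_fun]⟩).2 m
  exact ⟨v 0, v 1, v 2, v 3, hv.symm⟩

theorem perp_plane {n : H.M} (h0 : H.form B.f n = 0) (h1 : H.form B.f' n = 1) {m : H.M}
    (hm : H.form B.f m = 0) (hm' : H.form B.f' m = 0) : ∃ a b : ZMod 3, m = a • B.f + b • B.f' := by
  obtain ⟨h2, h3⟩ := B.f_pair h0 h1
  obtain ⟨a, b, c, d, rfl⟩ := B.coords h0 h1 m
  simp only [H.form_add_right, H.form_smul_right, H.form_self, h0, h1, h2, h3] at hm hm'
  rw [show H.form B.f B.f' = 0 from B.hF0] at hm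
  rw [H.form_swap B.f B.f', show H.form B.f B.f' = 0 from B.hF0] at hm'
  have hd : d = 0 := by linear_combination -hm
  have hc : c = 0 := by linear_combination hm'
  exact ⟨a, b, by rw [hc, hd, zero_smul, zero_smul, add_zero, add_zero]⟩

/-- A vector fixed by the element of order three, spanning with its translate an isotropic complement. -/
theorem exists_second : ∃ n, H.act B.F.D n = n ∧ H.form B.f n = 0 ∧ H.form B.f' n = 1 ∧
    H.form n (H.act B.F.I n) = 0 := by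
  obtain ⟨n, h0, h1⟩ := B.exists_dual
  obtain ⟨h2, h3⟩ := B.f_pair h0 h1
  have hI2 : ∀ m, H.act B.F.I (H.act B.F.I m) = -m := fun m => by rw [← H.act_mul, B.F.I_sq, H.act_negOne]
  have hDf' : H.act B.F.D B.f' = B.f + B.f' := by
    show H.act B.F.D (H.act B.F.I B.f) = _
    rw [H.D_I_act B.F B.hF, H.J_act B.F (H.fy_ne B.hp) B.hF]
  have hJf : H.act B.F.J B.f = B.f + B.f' := H.J_act B.F (H.fy_ne B.hp) B.hF
  have hIf : H.act B.F.I B.f = B.f' := rfl
  have hJI : ∀ m, H.act B.F.J (H.act B.F.I m) = -H.act B.F.I (H.act B.F.J m) := fun m => by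
    rw [← H.act_mul, show B.F.J * B.F.I = negOne * (B.F.I * B.F.J) from B.F.JI, H.act_mul, H.act_negOne, H.act_mul]
  have hJJ : ∀ m, H.act B.F.J (H.act B.F.J m) = -m := fun m => by
    rw [← H.act_mul, show B.F.J * B.F.J = negOne from B.F.J_sq, H.act_negOne]
  have hDI : ∀ m, H.act B.F.D (H.act B.F.I m) = H.act B.F.J (H.act B.F.D m) := fun m => by
    rw [← H.act_mul, ← H.act_mul]; congr 1; simp [Frame.J, mul_assoc]
  have hDJ : ∀ m, H.act B.F.D (H.act B.F.J m) = H.act B.F.I (H.act B.F.J (H.act B.F.D m)) := fun m => by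
    rw [← H.act_mul, ← H.act_mul, ← H.act_mul]; congr 1
    rw [show B.F.I * B.F.J = B.F.D * B.F.J * B.F.D⁻¹ from B.F.DJ.symm]
    simp [mul_assoc]
  have hJf' : H.act B.F.J B.f' = B.f + -B.f' := by
    show H.act B.F.J (H.act B.F.I B.f) = _
    rw [hJI, hJf, H.act_add, hIf, show H.act B.F.I B.f' = -B.f from hI2 _]; abel
  obtain ⟨α, β, hD⟩ := B.perp_plane h0 h1 (m := H.act B.F.D n - n) (by
      rw [sub_eq_add_neg, H.form_add_right, H.form_neg_right, h0, neg_zero, add_zero]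
      have := H.form_act B.F.D B.f n
      rwa [B.hF, h0] at this) (by
      rw [sub_eq_add_neg, H.form_add_right, H.form_neg_right, h1]
      have := H.form_act B.F.D B.f' n
      rw [hDf', H.form_add_left, h1] at this
      have e := H.form_act B.F.D B.f n
      rw [B.hF, h0] at e
      linear_combination this - e)
  rw [sub_eq_iff_eq_add] at hD
  obtain ⟨γ, δ, hJ⟩ := B.perp_plane h0 h1 (m := H.act B.F.J n - (n + H.act B.F.I n)) (by
      rw [sub_eq_add_neg, H.form_add_right, H.form_neg_right, H.form_add_right, h0, h2]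
      have := H.form_act B.F.J B.f (H.act B.F.J n)
      rw [hJJ, hJf, H.form_add_left, H.form_neg_right, H.form_neg_right, h0, h1] at this
      linear_combination -this) (by
      rw [sub_eq_add_neg, H.form_add_right, H.form_neg_right, H.form_add_right, h1, h3]
      have := H.form_act B.F.J B.f' (H.act B.F.J n)
      rw [hJJ, hJf', H.form_add_left, H.form_neg_left, H.form_neg_right, H.form_neg_right, h0, h1] at this
      linear_combination -this)
  rw [sub_eq_iff_eq_add] at hJ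
  -- the two relations
  have key : ∀ a b c d : ZMod 3, a • B.f + b • B.f' + (c • n + d • H.act B.F.I n) = 0 → a = 0 ∧ b = 0 := by
    intro a b c d h
    have e1 := congrArg (H.form B.f) h
    have e2 := congrArg (H.form B.f') h
    simp only [H.form_add_right, H.form_smul_right, H.form_self, h0, h1, h2, h3, H.form_zero_right] at e1 e2
    rw [show H.form B.f B.f' = 0 from B.hF0] at e1
    rw [H.form_swap B.f B.f', show H.form B.f B.f' = 0 from B.hF0] at e2
    have hd : d = 0 := by linear_combination -e1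
    have hc : c = 0 := by linear_combination e2
    rw [hc, hd, zero_smul, zero_smul, add_zero, add_zero] at h
    exact H.pair_indep B.F (H.fy_ne B.hp) h
  have hsum : γ + δ = 0 := by
    have e := hJJ n
    rw [hJ, H.act_add, H.act_add, H.act_smul, H.act_smul, H.act_add, hJf, hJf', hJI, hJ] at e
    simp only [H.act_add, H.act_neg, H.act_smul, hI2, hIf, show H.act B.F.I B.f' = -B.f from hI2 _] at e
    have hk := key (γ + δ + γ + δ) (γ - δ + δ - γ) 3 0 (by
      rw [← sub_eq_zero, sub_neg_eq_add] at e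
      rw [show (3 : ZMod 3) = 1 + 1 + 1 by decide]
      simp only [add_smul, sub_smul, one_smul, zero_smul, smul_add, smul_neg] at e ⊢
      linear_combination (norm := abel) e)
    have : ∀ a b : ZMod 3, a + b + a + b = 0 → a + b = 0 := by decide
    exact this _ _ hk.1
  have hβ : β = 0 := by
    have e := hDJ n
    rw [hJ, H.act_add, H.act_add, H.act_smul, H.act_smul, H.act_add, B.hF, hDf', hDI, hD] at e
    simp only [H.act_add, H.act_neg, H.act_smul, hJ, hJf, hJf', hI2, hIf,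
      show H.act B.F.I B.f' = -B.f from hI2 _, smul_add, smul_neg] at e
    have hk := key (γ + δ + α + α + β - γ + α - β + (γ + γ + δ)) (α - β + β + δ - γ - α - β - δ + (δ + δ)) 3 0 (by
      rw [← sub_eq_zero] at e
      rw [show (3 : ZMod 3) = 1 + 1 + 1 by decide]
      simp only [add_smul, sub_smul, one_smul, zero_smul, smul_add, smul_neg] at e ⊢
      linear_combination (norm := abel) e)
    have : ∀ a b c d : ZMod 3, c + d = 0 → a - b + b + d - c - a - b - d + (d + d) = 0 →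
        c + d + a + a + b - c + a - b + (c + c + d) = 0 → b = 0 := by decide
    exact this α β γ δ hsum hk.2 hk.1
  rw [hβ, zero_smul, add_zero] at hD
  set n1 := n + (-α) • B.f' with hn1
  have hn1D : H.act B.F.D n1 = n1 := by
    rw [hn1, H.act_add, H.act_smul, hD, hDf']
    simp only [smul_add, neg_smul]; abel
  set μ := H.form n1 (H.act B.F.I n1) with hμ
  refine ⟨n1 + (-μ) • B.f, ?_, ?_, ?_, ?_⟩
  · rw [H.act_add, H.act_smul, hn1D, B.hF]
  · rw [hn1, H.form_add_right, H.form_add_right, H.form_smul_right, H.form_smul_right, H.form_self, h0,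
      show H.form B.f B.f' = 0 from B.hF0]; ring
  · rw [hn1, H.form_add_right, H.form_add_right, H.form_smul_right, H.form_smul_right, H.form_self, h1,
      H.form_swap B.f B.f', show H.form B.f B.f' = 0 from B.hF0]; ring
  · have a1 : H.form n1 B.f' = -1 := by
      rw [hn1, H.form_add_left, H.form_smul_left, H.form_self, H.form_swap B.f' n, h1]; ring
    have a2 : H.form B.f (H.act B.F.I n1) = -1 := by
      rw [hn1, H.act_add, H.act_smul, show H.act B.F.I B.f' = -B.f from hI2 _, H.form_add_right, h2,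
        H.form_smul_right, H.form_neg_right, H.form_self]; ring
    rw [H.act_add, H.act_smul, hIf, H.form_add_left, H.form_smul_left, H.form_add_right, H.form_add_right,
      H.form_smul_right, H.form_smul_right, show H.form B.f B.f' = 0 from B.hF0, a1, a2, ← hμ]
    have : ∀ m : ZMod 3, m + -m * -1 + -m * (-1 + -m * 0) = 0 := by decide
    exact this μ

theorem eq_of_inverted {a b : G} (ha : a ∈ H.Q) (hb : b ∈ H.Q) (hta : B.t * a * B.t⁻¹ = a⁻¹)
    (htb : B.t * b * B.t⁻¹ = b⁻¹) (h : H.cl ⟨a, ha⟩ = H.cl ⟨b, hb⟩) : a = b := by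
  have hz : a * b⁻¹ ∈ zpowers H.z := H.cl_eq.1 h
  set c := a * b⁻¹ with hc
  have hac : a = c * b := by rw [hc, inv_mul_cancel_right]
  have h1 : B.t * c * B.t⁻¹ = c := by rw [(H.Z_comm hz B.ht.comm).eq, mul_inv_cancel_right]
  have hcb : Commute c b := H.Z_cen hz hb
  rw [hac, show B.t * (c * b) * B.t⁻¹ = (B.t * c * B.t⁻¹) * (B.t * b * B.t⁻¹) by group, h1, htb,
    _root_.mul_inv_rev, ← (hcb.inv_inv).eq, mul_left_inj] at hta
  have h3 : c * c = 1 := by nth_rw 2 [hta]; exact mul_inv_cancel c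
  have h4 : c ^ 3 = 1 := H.Q_cube c (H.Z_le_Q hz)
  rw [pow_three, h3, mul_one] at h4
  rw [hac, h4, one_mul]

theorem exists_inverted (m : H.M) : ∃ (a : G) (ha : a ∈ H.Q), H.cl ⟨a, ha⟩ = m ∧ B.t * a * B.t⁻¹ = a⁻¹ := by
  obtain ⟨q, rfl⟩ := H.cl_surj m
  obtain ⟨k, hk⟩ := mem_zpowers_iff.1 (H.inv_mod' B.ht q.2)
  have hkQ : (q : G) * H.z ^ k ∈ H.Q := mul_mem q.2 (zpow_mem H.z_Q k)
  refine ⟨_, hkQ, ?_, ?_⟩
  · rw [H.cl_eq]
    show (q : G) * H.z ^ k * (q : G)⁻¹ ∈ _
    rw [← (H.Z_cen (zpow_mem (mem_zpowers _) k) q.2).eq, mul_inv_cancel_right]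
    exact zpow_mem (mem_zpowers _) k
  · refine eq_inv_of_mul_eq_one_left ?_
    have hc : Commute B.t (H.z ^ k) := B.ht.comm.zpow_right k
    rw [show B.t * ((q : G) * H.z ^ k) * B.t⁻¹ * ((q : G) * H.z ^ k) =
      B.t * (q : G) * (H.z ^ k * B.t⁻¹) * (q : G) * H.z ^ k by group, ← hc.inv_left.eq]
    rw [show B.t * (q : G) * (B.t⁻¹ * H.z ^ k) * (q : G) * H.z ^ k =
        B.t * (q : G) * B.t⁻¹ * (H.z ^ k * (q : G)) * H.z ^ k by group,
      (H.Z_cen (zpow_mem (mem_zpowers _) k) q.2).eq, ← mul_assoc, ← hk, mul_assoc, ← _root_.zpow_add,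
      ← _root_.zpow_add, show k + (k + k) = ((3 : ℕ) : ℤ) * k by push_cast; ring, _root_.zpow_mul, zpow_natCast,
      H.z_cube, _root_.one_zpow]

theorem cube_coset {x v : G} (hx : x ∈ B.N) (hv : v ∈ B.T.V) (h3 : x ^ 3 = 1)
    (hm : B.T.mat x = trans01.1) : (x * v) ^ 3 = 1 := by
  obtain ⟨a, rfl⟩ := B.T.ev_surj hv
  have hc : ∀ c, x⁻¹ * B.T.ev c * x = B.T.ev (c ᵥ* trans01.1) := fun c => hm ▸ B.T.conj_ev hx c
  have e : x * x * x = 1 := by rwa [pow_three, ← mul_assoc] at h3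
  have hconj : (x * B.T.ev a) ^ 3 =
      x * x * x * (x⁻¹ * (x⁻¹ * B.T.ev a * x) * x) * (x⁻¹ * B.T.ev a * x) * B.T.ev a := by
    rw [pow_three]; group
  rw [hconj, e, one_mul, hc, hc, ← B.T.ev_add, ← B.T.ev_add, ← B.T.ev_zero]
  congr 1
  rw [Matrix.vecMul_vecMul, ← Matrix.vecMul_add]
  nth_rw 2 [← Matrix.vecMul_one a]
  rw [← Matrix.vecMul_add, trans01_poly, Matrix.vecMul_zero]

/-- The element of order three centralising the involution. -/
theorem exists_d0 : ∃ d, H.Img d B.F.D ∧ Commute d B.t ∧ d ^ 3 = 1 := by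
  obtain ⟨g, hg⟩ := H.exists_lift B.F.D
  have hmem : B.t * g * B.t⁻¹ * g⁻¹ ∈ H.Q := by
    have := (hg.conj B.ht).mul hg.inv
    rw [negOne_comm, mul_assoc B.F.D, mul_inv_cancel, mul_one, mul_inv_cancel] at this
    exact this.mem_Q
  obtain ⟨q, hq, hfix⟩ := Cfsg.Agent.Invol.G23Am.exists_fixed_coset B.ht2 H.Q (by rw [H.Q_card]; norm_num)
    (fun x hx => B.ht.norm hx) hmem
  set d := q * g with hd
  have hdi : H.Img d B.F.D := by
    have := (Hyp.img_Q (H := H) hq).mul hg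
    rwa [one_mul] at this
  have hdt : Commute d B.t := (mul_inv_eq_iff_eq_mul.1 hfix).symm
  refine ⟨d, hdi, hdt, ?_⟩
  have hinv : ∀ {a : G}, B.t * a * B.t⁻¹ = a⁻¹ → B.t * (d * a * d⁻¹) * B.t⁻¹ = (d * a * d⁻¹)⁻¹ := fun {a} ha => by
    calc B.t * (d * a * d⁻¹) * B.t⁻¹ = (B.t * d) * a * (d⁻¹ * B.t⁻¹) := by group
      _ = d * (B.t * a * B.t⁻¹) * d⁻¹ := by
          rw [← hdt.eq, show d⁻¹ * B.t⁻¹ = B.t⁻¹ * d⁻¹ from hdt.inv_inv.eq]; group
      _ = _ := by rw [ha]; group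
  have hdy : d * H.y B.g * d⁻¹ = H.y B.g := B.eq_of_inverted (hdi.norm B.hp.1) B.hp.1 (hinv B.ty) B.ty (by
    have := (hdi.act ⟨H.y B.g, B.hp.1⟩).symm
    exact this.trans B.hF)
  have hwQ := B.V_le_Q (B.T.mem 0)
  have hyw : Commute (H.y B.g) (B.T.e 0) := B.T.comm _ B.y_mem _ (B.T.mem 0)
  have hdw : d * B.T.e 0 * d⁻¹ = H.y B.g * B.T.e 0 := B.eq_of_inverted (hdi.norm hwQ) (mul_mem B.hp.1 hwQ)
    (hinv B.tw) (by
      rw [show B.t * (H.y B.g * B.T.e 0) * B.t⁻¹ = (B.t * H.y B.g * B.t⁻¹) * (B.t * B.T.e 0 * B.t⁻¹) by group,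
        B.ty, B.tw, _root_.mul_inv_rev, (hyw.inv_inv).eq]) (by
      have := (hdi.act ⟨B.T.e 0, hwQ⟩).symm
      refine this.trans ?_
      rw [B.e_zero hwQ]
      show H.act B.F.D B.f' = H.cl ((⟨H.y B.g, B.hp.1⟩ : H.Q) * ⟨B.T.e 0, hwQ⟩)
      rw [H.cl_mul, B.e_zero hwQ, H.D_I_act B.F B.hF, H.J_act B.F (H.fy_ne B.hp) B.hF]
      rfl)
  have hdN : d⁻¹ ∈ B.N := inv_mem (B.C_le_N hdi.mem)
  have hmat : B.T.mat d⁻¹ = trans01.1 := by
    funext k
    show B.T.co (d⁻¹⁻¹ * B.T.e k * d⁻¹) = trans01.1 k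
    rw [inv_inv]
    fin_cases k
    · rw [show B.T.e ((fun i => i) ⟨0, _⟩) = B.T.e 0 from rfl, hdw, ← B.e_one, ← B.T.ev_single 1,
        ← B.T.ev_single 0, ← B.T.ev_add, B.T.co_ev]
      decide +kernel
    · rw [show B.T.e ((fun i => i) ⟨1, _⟩) = B.T.e 1 from rfl, B.e_one, hdy, ← B.e_one, ← B.T.ev_single 1,
        B.T.co_ev]
      decide +kernel
    · rw [show B.T.e ((fun i => i) ⟨2, _⟩) = B.T.e 2 from rfl, B.e_two, hdi.comm.eq, mul_inv_cancel_right,
        ← B.e_two, ← B.T.ev_single 2, B.T.co_ev]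
      decide +kernel
  -- an element of `Q` inducing a conjugate transvection
  obtain ⟨n, h0, h1⟩ := B.exists_dual
  obtain ⟨h2, h3⟩ := B.f_pair h0 h1
  obtain ⟨k, hk⟩ := H.cl_surj (H.act B.F.I n)
  have hky : H.cm k ⟨H.y B.g, B.hp.1⟩ = 1 := by
    rw [← H.form_cl, hk, H.form_swap, show H.cl ⟨H.y B.g, B.hp.1⟩ = B.f from rfl, h2, neg_neg]
  have hkw : Commute (k : G) (B.T.e 0) := by
    have : H.cm k ⟨B.T.e 0, hwQ⟩ = 0 := by
      rw [← H.form_cl, hk, B.e_zero hwQ, H.form_swap, h3, neg_zero]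
    exact H.cm_eq_zero.1 this
  have hky' := H.cm_spec k ⟨H.y B.g, B.hp.1⟩
  rw [hky, ZMod.val_one, pow_one] at hky'
  have hkmat : B.T.mat (k : G)⁻¹ = trans12.1 := by
    funext j
    show B.T.co ((k : G)⁻¹⁻¹ * B.T.e j * (k : G)⁻¹) = trans12.1 j
    rw [inv_inv]
    fin_cases j
    · rw [show B.T.e ((fun i => i) ⟨0, _⟩) = B.T.e 0 from rfl, hkw.eq, mul_inv_cancel_right,
        ← B.T.ev_single 0, B.T.co_ev]
      decide +kernel
    · have e : (k : G) * H.y B.g * (k : G)⁻¹ = H.z * H.y B.g := mul_inv_eq_iff_eq_mul.1 hky'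
      rw [show B.T.e ((fun i => i) ⟨1, _⟩) = B.T.e 1 from rfl, B.e_one, e, ← B.e_one, ← B.e_two,
        ← B.T.ev_single 1, ← B.T.ev_single 2, ← B.T.ev_add, B.T.co_ev]
      decide +kernel
    · rw [show B.T.e ((fun i => i) ⟨2, _⟩) = B.T.e 2 from rfl, B.e_two, ← (H.z_cen k k.2).eq,
        mul_inv_cancel_right, ← B.e_two, ← B.T.ev_single 2, B.T.co_ev]
      decide +kernel
  obtain ⟨c, hc⟩ := B.phi_surj cyc3
  have hcm : B.T.mat (c : G) = cyc3.1 := by rw [← B.phi_val, hc]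
  have hkN : (k : G)⁻¹ ∈ B.N := inv_mem (B.Q_le_N k.2)
  have hinvmat : ∀ {x : G}, x ∈ B.N → B.T.mat x⁻¹ * B.T.mat x = 1 ∧ B.T.mat x * B.T.mat x⁻¹ = 1 := fun {x} hx =>
    ⟨by rw [← B.T.mat_mul (inv_mem hx) hx, inv_mul_cancel, B.T.mat_one],
      by rw [← B.T.mat_mul hx (inv_mem hx), mul_inv_cancel, B.T.mat_one]⟩
  obtain ⟨x, hxN, hx3, hxm⟩ : ∃ x ∈ B.N, x ^ 3 = 1 ∧ B.T.mat x = trans01.1 := by
    have hkc : ((k : G)⁻¹) ^ 3 = 1 := H.Q_cube _ (inv_mem k.2)
    obtain ⟨hl, hr⟩ := hinvmat c.2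
    rw [hcm] at hl hr
    rcases cyc3_conj with h | h
    · refine ⟨(c : G)⁻¹ * (k : G)⁻¹ * c, mul_mem (mul_mem (inv_mem c.2) hkN) c.2, ?_, ?_⟩
      · have := conj_pow (i := 3) (a := (c : G)⁻¹) (b := (k : G)⁻¹)
        rw [inv_inv] at this
        rw [this, hkc, mul_one, inv_mul_cancel]
      · rw [B.T.mat_mul (mul_mem (inv_mem c.2) hkN) c.2, B.T.mat_mul (inv_mem c.2) hkN, hkmat, hcm, mul_assoc, ← h,
          ← mul_assoc, hl, one_mul]
    · refine ⟨(c : G) * (k : G)⁻¹ * (c : G)⁻¹, mul_mem (mul_mem c.2 hkN) (inv_mem c.2), ?_, ?_⟩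
      · rw [conj_pow, hkc, mul_one, mul_inv_cancel]
      · rw [B.T.mat_mul (mul_mem c.2 hkN) (inv_mem c.2), B.T.mat_mul c.2 hkN, hkmat, hcm, h, mul_assoc, hr,
          mul_one]
  have hv : x⁻¹ * d⁻¹ ∈ B.T.V := by
    rw [← B.mat_eq_one (mul_mem (inv_mem hxN) hdN), B.T.mat_mul (inv_mem hxN) hdN, hmat, ← hxm]
    exact (hinvmat hxN).1
  have := B.cube_coset hxN hv hx3 hxm
  rw [mul_inv_cancel_left, inv_pow, inv_eq_one] at this
  exact this

/-- The complement of `V` in the normaliser. -/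
theorem exists_section : ∃ σ : SL33 →* G, (∀ A, σ A ∈ B.N) ∧
    ∀ A, ∀ h : σ A ∈ B.N, B.phi ⟨σ A, h⟩ = A := by
  haveI : Fact (Nat.Prime 3) := ⟨Nat.prime_three⟩
  obtain ⟨d, hdi, hdt, hd3⟩ := B.exists_d0
  obtain ⟨n, hnD, h0, h1, hiso⟩ := B.exists_second
  obtain ⟨h2, h3⟩ := B.f_pair h0 h1
  have hnne : n ≠ 0 := fun e => by
    rw [e, H.form_zero_right] at h1
    exact zero_ne_one h1
  have hcomm : ∀ {a b : H.Q}, H.cl a ∈ H.plane B.F n → H.cl b ∈ H.plane B.F n → Commute (a : G) b := by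
    rintro a b ⟨p, q, e1⟩ ⟨p', q', e2⟩
    refine H.cm_eq_zero.1 ?_
    rw [← H.form_cl, e1, e2, H.form_add_left, H.form_smul_left, H.form_smul_left, H.form_add_right, H.form_add_right,
      H.form_smul_right, H.form_smul_right, H.form_smul_right, H.form_smul_right, H.form_self, H.form_self,
      H.form_swap n (H.act B.F.I n), hiso]
    ring
  let W : Subgroup G :=
    { carrier := {x | B.t * x * B.t⁻¹ = x⁻¹ ∧ ∃ h : x ∈ H.Q, H.cl ⟨x, h⟩ ∈ H.plane B.F n}
      one_mem' := ⟨by simp, one_mem _, (H.plane B.F n).zero_mem⟩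
      mul_mem' := fun {a b} ⟨ha, ha', ha''⟩ ⟨hb, hb', hb''⟩ => by
        refine ⟨?_, mul_mem ha' hb', (H.plane B.F n).add_mem ha'' hb''⟩
        rw [show B.t * (a * b) * B.t⁻¹ = (B.t * a * B.t⁻¹) * (B.t * b * B.t⁻¹) by group, ha, hb, _root_.mul_inv_rev]
        exact ((hcomm (a := ⟨a, ha'⟩) (b := ⟨b, hb'⟩) ha'' hb'').inv_inv).eq
      inv_mem' := fun {a} ⟨ha, ha', ha''⟩ => by
        refine ⟨?_, inv_mem ha', (H.plane B.F n).neg_mem ha''⟩
        rw [show B.t * a⁻¹ * B.t⁻¹ = (B.t * a * B.t⁻¹)⁻¹ by group, ha] }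
  have hdW : ∀ x ∈ W, d * x * d⁻¹ ∈ W := by
    rintro x ⟨hx, hx', hx''⟩
    refine ⟨?_, hdi.norm hx', ?_⟩
    · calc B.t * (d * x * d⁻¹) * B.t⁻¹ = (B.t * d) * x * (d⁻¹ * B.t⁻¹) := by group
        _ = d * (B.t * x * B.t⁻¹) * d⁻¹ := by
            rw [← hdt.eq, show d⁻¹ * B.t⁻¹ = B.t⁻¹ * d⁻¹ from hdt.inv_inv.eq]; group
        _ = _ := by rw [hx]; group
    · have := H.plane_invariant B.F hnne hnD B.F.D hx''
      rw [hdi.act] at this
      exact this
  have hd1 : d ≠ 1 := fun e => B.F.ne ((e ▸ hdi).unique H.img_one)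
  have hdn : zpowers d ≤ normalizer (W : Set G) := zpowers_le.2 (mem_normalizer_fintype hdW)
  let A : Subgroup G := zpowers d ⊔ W
  have hdQ : ∀ x ∈ zpowers d, x ∈ H.Q → x = 1 := by
    intro x hx hxQ
    obtain ⟨m, rfl⟩ := mem_zpowers_iff.1 hx
    rw [zpow_eq_zpow_emod' m hd3] at hxQ ⊢
    have : m % ((3 : ℕ) : ℤ) = 0 ∨ m % ((3 : ℕ) : ℤ) = 1 ∨ m % ((3 : ℕ) : ℤ) = 2 := by omega
    rcases this with h | h | h <;> rw [h] at hxQ ⊢
    · rw [zpow_zero]
    · rw [zpow_one] at hxQ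
      exact absurd (hdi.unique (Hyp.img_Q hxQ)) B.F.ne
    · rw [show ((2 : ℤ)) = ((2 : ℕ) : ℤ) from rfl, zpow_natCast] at hxQ
      have h4 := mul_mem hxQ hxQ
      rw [← pow_add, pow_succ, hd3, one_mul] at h4
      exact absurd (hdi.unique (Hyp.img_Q h4)) B.F.ne
  have hAN : A ≤ B.N := sup_le (zpowers_le.2 (B.C_le_N hdi.mem)) fun x ⟨_, hx, _⟩ => B.Q_le_N hx
  have hAV : A ⊓ B.T.V = ⊥ := by
    rw [eq_bot_iff]
    intro x hx
    obtain ⟨hxA, hxV⟩ := mem_inf.1 hx
    have hxA' : x ∈ ((zpowers d ⊔ W : Subgroup G) : Set G) := hxA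
    rw [coe_mul_of_left_le_normalizer_right (zpowers d) W hdn] at hxA'
    obtain ⟨a, ha, b, ⟨hb, hbQ, hbp⟩, rfl⟩ := Set.mem_mul.1 hxA'
    have ha1 : a = 1 := hdQ a ha (by simpa using mul_mem (B.V_le_Q hxV) (inv_mem hbQ))
    subst ha1
    rw [one_mul] at hxV ⊢
    obtain ⟨p, q, e1⟩ := hbp
    have hpl : H.cl ⟨b, hbQ⟩ ∈ H.plane B.F (H.fy B.hp) := by
      have := (H.V_shape B.hp B.hF).2.2 ⟨b, hbQ⟩
      exact this.1 (B.T_V ▸ hxV)
    obtain ⟨p', q', e2⟩ := hpl
    have k1 := congrArg (H.form B.f) (e1.symm.trans e2)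
    have k2 := congrArg (H.form B.f') (e1.symm.trans e2)
    simp only [H.form_add_right, H.form_smul_right, H.form_self, h0, h1, h2, h3] at k1 k2
    rw [show H.form B.f (H.act B.F.I (H.fy B.hp)) = 0 from B.hF0] at k1
    rw [show H.form B.f' (H.fy B.hp) = 0 by rw [H.form_swap, show H.form (H.fy B.hp) B.f' = 0 from B.hF0, neg_zero]]
      at k2
    have hq : q = 0 := by linear_combination -k1
    have hp' : p = 0 := by linear_combination k2
    rw [hp', hq, zero_smul, zero_smul, add_zero] at e1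
    rw [Subgroup.mem_bot]
    exact B.eq_of_inverted hbQ (one_mem _) hb (by simp) e1
  let U : Subgroup G := B.T.V ⊔ A
  have hUN : U ≤ B.N := sup_le le_normalizer hAN
  have hQU : zpowers d ⊔ H.Q ≤ U := by
    refine sup_le (le_sup_left.trans le_sup_right) fun q hq => ?_
    obtain ⟨a, b, c, e, hm⟩ := B.coords h0 h1 (H.cl ⟨q, hq⟩)
    obtain ⟨w, hw, hwc, hwt⟩ := B.exists_inverted (c • n + e • H.act B.F.I n)
    have hwW : w ∈ W := ⟨hwt, hw, hwc ▸ ⟨c, e, rfl⟩⟩
    have hv : q * w⁻¹ ∈ B.T.V := by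
      rw [B.T_V]
      refine ((H.V_shape B.hp B.hF).2.2 ⟨q * w⁻¹, mul_mem hq (inv_mem hw)⟩).2 ⟨a, b, ?_⟩
      show H.cl (⟨q, hq⟩ * (⟨w, hw⟩ : H.Q)⁻¹) = _
      rw [H.cl_mul, H.cl_inv, hm, hwc]; abel
    have := mul_mem (mem_sup_left (T := A) hv) (mem_sup_right (S := B.T.V) (mem_sup_right (S := zpowers d) hwW))
    rwa [inv_mul_cancel_right] at this
  have hUcard : 729 ≤ Nat.card U := by
    refine le_trans ?_ (Nat.le_of_dvd Nat.card_pos (card_dvd_of_le hQU))
    have hn : zpowers d ≤ normalizer (H.Q : Set G) :=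
      zpowers_le.2 (mem_normalizer_fintype fun q hq => hdi.norm hq)
    have := Cfsg.Agent.Grp.card_sup_mul_card_inf hn
    rw [show zpowers d ⊓ H.Q = ⊥ from eq_bot_iff.2 fun x hx => mem_bot.2 (hdQ x (mem_inf.1 hx).1 (mem_inf.1 hx).2),
      Subgroup.card_bot, mul_one, Nat.card_zpowers, orderOf_eq_prime hd3 hd1, H.Q_card] at this
    omega
  have hU729 : Nat.card U = 729 := by
    refine le_antisymm ?_ hUcard
    have hle : U ≤ zpowers d ⊔ H.Q := by
      refine sup_le (B.V_le_Q.trans le_sup_right) (sup_le le_sup_left ?_)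
      exact fun x ⟨_, hx, _⟩ => mem_sup_right hx
    refine (Nat.le_of_dvd Nat.card_pos (card_dvd_of_le hle)).trans ?_
    have hn : zpowers d ≤ normalizer (H.Q : Set G) :=
      zpowers_le.2 (mem_normalizer_fintype fun q hq => hdi.norm hq)
    have := Cfsg.Agent.Grp.card_sup_mul_card_inf hn
    rw [show zpowers d ⊓ H.Q = ⊥ from eq_bot_iff.2 fun x hx => mem_bot.2 (hdQ x (mem_inf.1 hx).1 (mem_inf.1 hx).2),
      Subgroup.card_bot, mul_one, Nat.card_zpowers, orderOf_eq_prime hd3 hd1, H.Q_card] at this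
    omega
  -- Gaschütz inside the normaliser
  have hVN : B.T.V ≤ B.N := le_normalizer
  haveI : (B.T.V.subgroupOf B.N).Normal := ⟨fun v hv m => by
    rw [mem_subgroupOf] at hv ⊢
    exact (mem_normalizer_iff.1 m.2 _).1 hv⟩
  haveI : IsMulCommutative (B.T.V.subgroupOf B.N) :=
    ⟨⟨fun a b => Subtype.ext (Subtype.ext (B.T.comm _ a.2 _ b.2))⟩⟩
  have hidx : (U.subgroupOf B.N).index = 208 := by
    have := Subgroup.card_mul_index (U.subgroupOf B.N)
    rw [Nat.card_congr (subgroupOfEquivOfLe hUN).toEquiv, hU729, B.card_N] at this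
    omega
  obtain ⟨K, hK⟩ := Cfsg.Agent.S0051.result (B.T.V.subgroupOf B.N) (U.subgroupOf B.N)
    (fun v hv => mem_sup_left (T := A) hv)
    (by rw [hidx, Nat.card_congr (subgroupOfEquivOfLe hVN).toEquiv, B.T.card]; norm_num)
    (A.subgroupOf B.N) (fun v hv => mem_sup_right (S := B.T.V) hv)
    (by rw [← bot_subgroupOf, ← hAV]; rfl)
    (by rw [← subgroupOf_sup hVN hAN])
  have hKdisj : ∀ x ∈ K, (x : G) ∈ B.T.V → x = 1 := fun x hx hxV => by
    have : x ∈ B.T.V.subgroupOf B.N ⊓ K := ⟨hxV, hx⟩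
    rw [hK.disjoint.eq_bot] at this
    exact this
  let ψ : K →* SL33 := B.phi.comp K.subtype
  have hψ : Function.Injective ψ := (injective_iff_map_eq_one ψ).2 fun x hx =>
    Subtype.ext (hKdisj x x.2 (B.phi_eq_one.1 hx))
  have hKcard : Nat.card K = 5616 := by
    have := hK.card_mul
    rw [Nat.card_congr (subgroupOfEquivOfLe hVN).toEquiv, B.T.card, B.card_N] at this
    omega
  have hbij : Function.Bijective ψ :=
    (Nat.bijective_iff_injective_and_card ψ).2 ⟨hψ, hKcard.trans card_SL33.symm⟩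
  let eK := MulEquiv.ofBijective ψ hbij
  refine ⟨(B.N.subtype.comp K.subtype).comp eK.symm.toMonoidHom, fun A => SetLike.coe_mem _, fun A h => ?_⟩
  exact eK.apply_symm_apply A

end VBase

end Cfsg.Agent.Spor.L43Three
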