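import Mathlib
import Cfsg.Agent.Lib.Spor.L43Three.Piece

/-!
The stabiliser of a point in `SL(4, 3)`, its identification with the normaliser of `V`, and the abstract embedding
used by the local analysis.
-/

set_option autoImplicit false
set_option linter.unusedSectionVars false

namespace Cfsg.Agent.Spor.L43Three

open Subgroup Matrix

universe u

/-- Four by four matrices over the field with three elements. -/
abbrev M4 := Matrix (Fin 4) (Fin 4) (ZMod 3)

/-- `SL(4, 3)`. -/
abbrev SL44 := Matrix.SpecialLinearGroup (Fin 4) (ZMod 3)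

/-- The matrix with given first row and lower block. -/
def aff (v : Fin 3 → ZMod 3) (A : M3) : M4 :=
  !![1, v 0, v 1, v 2; 0, A 0 0, A 0 1, A 0 2; 0, A 1 0, A 1 1, A 1 2; 0, A 2 0, A 2 1, A 2 2]

/-- The first row without its first entry. -/
def topRow (M : M4) : Fin 3 → ZMod 3 := fun j => M 0 j.succ

/-- The lower block. -/
def lowBlock (M : M4) : M3 := Matrix.of fun i j => M i.succ j.succ

theorem aff_mul (v v' : Fin 3 → ZMod 3) (A A' : M3) : aff v A * aff v' A' = aff (v ᵥ* A' + v') (A * A') := by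
  ext i j
  fin_cases i <;> fin_cases j <;>
    simp [aff, Matrix.mul_apply, Matrix.vecMul, dotProduct, Fin.sum_univ_succ] <;> ring

theorem det_aff (v : Fin 3 → ZMod 3) (A : M3) : (aff v A).det = A.det := by
  rw [Matrix.det_succ_column_zero]
  simp [Fin.sum_univ_succ, aff]
  congr 1
  ext i j
  fin_cases i <;> fin_cases j <;> simp [aff, Fin.succAbove]

theorem aff_one : aff 0 1 = 1 := by decide

/-- The stabiliser of the first basis column. -/
def Stab : Subgroup SL44 where
  carrier := {M | ∀ i, M.1 i 0 = if i = 0 then 1 else 0}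
  one_mem' := fun i => by fin_cases i <;> rfl
  mul_mem' := by
    intro a b ha hb i
    show (a.1 * b.1) i 0 = _
    simp only [Set.mem_setOf_eq] at ha hb
    rw [Matrix.mul_apply, Fin.sum_univ_four, hb 0, hb 1, hb 2, hb 3]
    simp [ha i]
  inv_mem' := by
    intro a ha i
    have h := congrFun (congrFun (congrArg Subtype.val (inv_mul_cancel a)) i) 0
    simp only [Set.mem_setOf_eq] at ha
    rw [show (a⁻¹ * a).1 = (a⁻¹).1 * a.1 from rfl, show (1 : SL44).1 = (1 : M4) from rfl, Matrix.mul_apply,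
      Fin.sum_univ_four, ha 0, ha 1, ha 2, ha 3, Matrix.one_apply] at h
    simpa using h

theorem mem_Stab {M : SL44} : M ∈ Stab ↔ ∀ i, M.1 i 0 = if i = 0 then 1 else 0 := Iff.rfl

theorem Stab_eq_aff (M : Stab) : M.1.1 = aff (topRow M.1.1) (lowBlock M.1.1) := by
  ext i j
  have h := M.2 i
  fin_cases i <;> fin_cases j <;> simp [aff, topRow, lowBlock] at h ⊢ <;> exact h

/-- The element of the stabiliser with given parts. -/
def el (v : Fin 3 → ZMod 3) (A : SL33) : Stab :=
  ⟨⟨aff v A.1, by rw [det_aff, A.2]⟩, fun i => by fin_cases i <;> rfl⟩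

theorem el_val (v : Fin 3 → ZMod 3) (A : SL33) : (el v A).1.1 = aff v A.1 := rfl

theorem el_mul (v v' : Fin 3 → ZMod 3) (A A' : SL33) : el v A * el v' A' = el (v ᵥ* A'.1 + v') (A * A') :=
  Subtype.ext (Subtype.ext (aff_mul v v' A.1 A'.1))

theorem el_one : el 0 1 = 1 := Subtype.ext (Subtype.ext aff_one)

theorem topRow_aff (v : Fin 3 → ZMod 3) (A : M3) : topRow (aff v A) = v := by
  funext j; fin_cases j <;> rfl

theorem lowBlock_aff (v : Fin 3 → ZMod 3) (A : M3) : lowBlock (aff v A) = A := by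
  ext i j; fin_cases i <;> fin_cases j <;> rfl

theorem det_lowBlock (M : Stab) : (lowBlock M.1.1).det = 1 := by
  rw [← det_aff (topRow M.1.1), ← Stab_eq_aff, M.1.2]

/-- The lower block in `SL(3, 3)`. -/
def low (M : Stab) : SL33 := ⟨lowBlock M.1.1, det_lowBlock M⟩

theorem el_parts (M : Stab) : el (topRow M.1.1) (low M) = M := Subtype.ext (Subtype.ext (Stab_eq_aff M).symm)

theorem el_surj (M : Stab) : ∃ v A, el v A = M := ⟨_, _, el_parts M⟩

theorem el_inj {v v' : Fin 3 → ZMod 3} {A A' : SL33} (h : el v A = el v' A') : v = v' ∧ A = A' := by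
  have h' : aff v A.1 = aff v' A'.1 := congrArg (fun M : Stab => M.1.1) h
  exact ⟨by rw [← topRow_aff v A.1, h', topRow_aff], Subtype.ext (by rw [← lowBlock_aff v A.1, h', lowBlock_aff])⟩

theorem card_Stab : Nat.card Stab = 151632 := by
  have e : Nat.card ((Fin 3 → ZMod 3) × SL33) = Nat.card Stab := Nat.card_congr
    (Equiv.ofBijective (fun x => el x.1 x.2)
      ⟨fun x y h => Prod.ext (el_inj h).1 (el_inj h).2, fun M => ⟨(topRow M.1.1, low M), el_parts M⟩⟩)
  rw [← e, Nat.card_prod, card_SL33, Nat.card_fun, Nat.card_zmod, Nat.card_eq_fintype_card (α := Fin 3),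
    Fintype.card_fin]
  norm_num

/-- Make an element of the stabiliser from a matrix. -/
def mk4 (M : M4) (h : M.det = 1 := by decide +kernel) (h0 : ∀ i, M i 0 = if i = 0 then 1 else 0 := by decide) : Stab :=
  ⟨⟨M, h⟩, h0⟩

theorem mk4_val (M : M4) (h : M.det = 1) (h0) : (mk4 M h h0).1.1 = M := rfl

theorem Stab_ext {a b : Stab} (h : a.1.1 = b.1.1) : a = b := Subtype.ext (Subtype.ext h)

theorem Stab_mul_val (a b : Stab) : (a * b).1.1 = a.1.1 * b.1.1 := rfl

theorem Stab_one_val : (1 : Stab).1.1 = 1 := rfl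

namespace VBase

variable {G : Type u} [Group G] [Finite G] {H : Hyp G} (B : VBase H)

/-- The identification of the stabiliser with the normaliser of `V`. -/
theorem exists_affine : ∃ ι : Stab →* G, Function.Injective ι ∧ ι.range = B.N ∧
    ∀ v, ι (el v 1) = B.T.ev v := by
  obtain ⟨σ, hσ, hφ⟩ := B.exists_section
  have hconj : ∀ A v, (σ A)⁻¹ * B.T.ev v * σ A = B.T.ev (v ᵥ* A.1) := fun A v => by
    have h := B.conj_ev ⟨σ A, hσ A⟩ v
    rw [hφ A (hσ A)] at h
    exact h
  let f : Stab → G := fun M => σ (low M) * B.T.ev (topRow M.1.1)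
  have hf : ∀ v A, f (el v A) = σ A * B.T.ev v := fun v A => by
    have h1 : low (el v A) = A := Subtype.ext (lowBlock_aff v A.1)
    simp only [f, h1, el_val, topRow_aff]
  let ι : Stab →* G := MonoidHom.mk' f fun M N => by
    rw [← el_parts M, ← el_parts N, el_mul, hf, hf, hf, B.T.ev_add, ← hconj, map_mul]
    group
  have hι : ∀ v A, ι (el v A) = σ A * B.T.ev v := hf
  refine ⟨ι, (injective_iff_map_eq_one ι).2 fun M hM => ?_, ?_, fun v => by rw [hι, map_one, one_mul]⟩
  · obtain ⟨v, A, rfl⟩ := el_surj M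
    rw [hι] at hM
    have hA : σ A ∈ B.T.V := by
      rw [eq_inv_of_mul_eq_one_left hM]; exact inv_mem (B.T.ev_mem v)
    have : A = 1 := by rw [← hφ A (hσ A)]; exact B.phi_eq_one.2 hA
    subst this
    rw [map_one, one_mul, ← B.T.ev_zero] at hM
    rw [B.T.ev_injective hM, el_one]
  · refine le_antisymm ?_ fun n hn => ?_
    · rintro _ ⟨M, rfl⟩
      exact mul_mem (hσ _) (le_normalizer (B.T.ev_mem _))
    · set A := B.phi ⟨n, hn⟩ with hA
      have hv : (σ A)⁻¹ * n ∈ B.T.V := by
        refine (B.phi_eq_one (n := ⟨σ A, hσ A⟩⁻¹ * ⟨n, hn⟩)).1 ?_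
        rw [map_mul, map_inv, hφ, ← hA, inv_mul_cancel]
      obtain ⟨v, hv'⟩ := B.T.ev_surj hv
      exact ⟨el v A, by rw [hι, hv', mul_inv_cancel_left]⟩

end VBase

end Cfsg.Agent.Spor.L43Three
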