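import Mathlib
import Cfsg.Agent.Lib.Spor.L43Three.Affine
import Cfsg.Agent.Lib.Grp.CoprimeAbelian

/-!
An embedded point stabiliser with `z` isolated in a subgroup containing it, and the vanishing of signalizers.
-/

set_option autoImplicit false
set_option linter.unusedSectionVars false

namespace Cfsg.Agent.Spor.L43Three

open Subgroup Matrix

universe u

/-- A three-element in the first row. -/
def vS (v : Fin 3 → ZMod 3) : Stab := el v 1

/-- The central element. -/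
def zS : Stab := vS ![0, 0, 1]

/-- Its neighbour. -/
def yS : Stab := vS ![0, 1, 0]

/-- A matrix moving the last row to a given nonzero row. -/
def toRow (v : Fin 3 → ZMod 3) : M3 :=
  if v 2 ≠ 0 then !![(v 2)⁻¹, 0, 0; 0, 1, 0; v 0, v 1, v 2]
  else if v 1 ≠ 0 then !![1, 0, 0; 0, 0, -(v 1)⁻¹; v 0, v 1, v 2]
  else !![0, 0, -(v 0)⁻¹; 0, 1, 0; v 0, v 1, v 2]

theorem toRow_spec : ∀ v : Fin 3 → ZMod 3, v ≠ 0 → (toRow v).det = 1 ∧ (![0, 0, 1] : Fin 3 → ZMod 3) ᵥ* toRow v = v := by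
  decide +kernel

theorem one_val : ((1 : SL33).1 : M3) = 1 := rfl

theorem vS_mul (v w : Fin 3 → ZMod 3) : vS v * vS w = vS (v + w) := by
  simp only [vS, el_mul, one_val, Matrix.vecMul_one, mul_one]

theorem vS_zero : vS 0 = 1 := el_one

theorem vS_neg (v : Fin 3 → ZMod 3) : vS (-v) = (vS v)⁻¹ :=
  eq_inv_of_mul_eq_one_left (by rw [vS_mul, neg_add_cancel, vS_zero])

theorem vS_comm (v w : Fin 3 → ZMod 3) : Commute (vS v) (vS w) := by
  show _ = _
  rw [vS_mul, vS_mul, add_comm]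

theorem vS_cube (v : Fin 3 → ZMod 3) : vS v ^ 3 = 1 := by
  rw [pow_three, vS_mul, vS_mul, ← vS_zero]
  congr 1
  funext i
  have key : ∀ c : ZMod 3, c + (c + c) = 0 := by decide
  exact key _

theorem vS_conj (v : Fin 3 → ZMod 3) (M : Stab) : M⁻¹ * vS v * M = vS (v ᵥ* (low M).1) := by
  obtain ⟨u, A, rfl⟩ := el_surj M
  rw [show low (el u A) = A from Subtype.ext (lowBlock_aff u A.1), mul_assoc, inv_mul_eq_iff_eq_mul]
  simp only [vS, el_mul, one_val, Matrix.vecMul_one, mul_one, one_mul, add_comm]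

theorem vS_trans {v : Fin 3 → ZMod 3} (hv : v ≠ 0) : ∃ M : Stab, M * zS * M⁻¹ = vS v := by
  refine ⟨(el 0 ⟨toRow v, (toRow_spec v hv).1⟩)⁻¹, ?_⟩
  rw [inv_inv, zS, vS_conj]
  congr 1
  have h : low (el 0 (⟨toRow v, (toRow_spec v hv).1⟩ : SL33)) = ⟨toRow v, (toRow_spec v hv).1⟩ :=
    Subtype.ext (lowBlock_aff _ _)
  rw [h]
  exact (toRow_spec v hv).2

/-- The cube-one elements fixing `y` and `z` rows. -/
theorem fix_two : ∀ (a b : ZMod 3) (v : Fin 3 → ZMod 3),
    aff v !![1, a, b; 0, 1, 0; 0, 0, 1] * aff v !![1, a, b; 0, 1, 0; 0, 0, 1] * aff v !![1, a, b; 0, 1, 0; 0, 0, 1] = 1 := by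
  decide +kernel

theorem det_top : ∀ r : Fin 3 → ZMod 3, (Matrix.of ![r, ![0, 1, 0], ![0, 0, 1]] : M3).det = r 0 := by decide +kernel

/-- An element of the stabiliser centralising `y` and `z` has order dividing three. -/
theorem cube_of_cent {M : Stab} (h1 : Commute M yS) (h2 : Commute M zS) : M ^ 3 = 1 := by
  obtain ⟨v, A, rfl⟩ := el_surj M
  have key : ∀ w, Commute (el v A) (vS w) → w ᵥ* A.1 = w := by
    intro w h
    have h' := h.eq
    rw [vS, el_mul, el_mul] at h'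
    have h3 := (el_inj h').1
    rw [show (1 : SL33).1 = (1 : M3) from rfl, Matrix.vecMul_one] at h3
    rw [add_comm v w] at h3
    exact (add_right_cancel h3).symm
  have r1 := key _ h1
  have r2 := key _ h2
  have hA : A.1 = Matrix.of ![A.1 0, ![0, 1, 0], ![0, 0, 1]] := by
    ext i j
    fin_cases i
    · rfl
    · have := congrFun r1 j
      simpa [Matrix.vecMul, dotProduct, Fin.sum_univ_three] using this
    · have := congrFun r2 j
      simpa [Matrix.vecMul, dotProduct, Fin.sum_univ_three] using this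
  have h00 : A.1 0 0 = 1 := by
    have := A.2
    rw [hA, det_top] at this
    exact this
  have hA' : A.1 = !![1, A.1 0 1, A.1 0 2; 0, 1, 0; 0, 0, 1] := by
    conv_lhs => rw [hA]
    ext i j
    fin_cases i <;> fin_cases j <;> simp [h00]
  refine Stab_ext ?_
  rw [pow_three, Stab_mul_val, Stab_mul_val, ← Matrix.mul_assoc, el_val, hA', Stab_one_val]
  exact fix_two _ _ v

/-- Generation over an elementary group of order nine. -/
theorem le_of_nine {G : Type u} [Group G] [Finite G] {W R : Subgroup G} {a b : G} (hab : Commute a b)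
    (ha : a ^ 3 = 1) (hb : b ^ 3 = 1) (ha1 : a ≠ 1) (hba : b ∉ zpowers a)
    (hW : (Nat.card W).Coprime 3) (hna : ∀ w ∈ W, a * w * a⁻¹ ∈ W) (hnb : ∀ w ∈ W, b * w * b⁻¹ ∈ W)
    (hc : ∀ h ∈ closure ({a, b} : Set G), h ≠ 1 → ∀ w ∈ W, Commute w h → w ∈ R) : W ≤ R := by
  set A := closure ({a, b} : Set G) with hA
  haveI hcomm : IsMulCommutative A := isMulCommutative_closure (by
    rintro x (rfl | rfl) y (rfl | rfl)
    exacts [rfl, hab, hab.symm, rfl])
  have hcube : ∀ x ∈ A, x ^ 3 = 1 := by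
    intro x hx
    induction hx using closure_induction with
    | mem x hx => rcases hx with rfl | rfl; exacts [ha, hb]
    | one => simp
    | mul x y hxA hyA hx hy =>
      rw [Commute.mul_pow (congrArg Subtype.val (mul_comm' (⟨x, hxA⟩ : A) ⟨y, hyA⟩)), hx, hy, one_mul]
    | inv x _ hx => rw [inv_pow, hx, inv_one]
  have h3 : IsPGroup 3 A := fun x => ⟨1, Subtype.ext (by rw [pow_one, SubmonoidClass.coe_pow]; exact hcube x x.2)⟩
  have hncyc : ¬ IsCyclic A := by
    rintro ⟨⟨x, hxA⟩, hgen⟩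
    have haA : a ∈ zpowers x := by
      obtain ⟨i, hi⟩ := hgen ⟨a, subset_closure (Or.inl rfl)⟩
      exact ⟨i, by simpa using congrArg Subtype.val hi⟩
    have hbA : b ∈ zpowers x := by
      obtain ⟨i, hi⟩ := hgen ⟨b, subset_closure (Or.inr rfl)⟩
      exact ⟨i, by simpa using congrArg Subtype.val hi⟩
    have hle : zpowers a ≤ zpowers x := zpowers_le.2 haA
    have he : zpowers a = zpowers x := eq_of_le_of_card_ge hle (by
      rw [Nat.card_zpowers, Nat.card_zpowers, orderOf_eq_prime ha ha1]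
      exact Nat.le_of_dvd (by norm_num) (orderOf_dvd_of_pow_eq_one (hcube x hxA)))
    exact hba (he ▸ hbA)
  have hAK : A ≤ normalizer (W : Set G) := (closure_le _).2 (by
    rintro x (rfl | rfl)
    exacts [mem_normalizer_fintype hna, mem_normalizer_fintype hnb])
  haveI : Fact (Nat.Prime 3) := ⟨Nat.prime_three⟩
  obtain ⟨k, hk⟩ := IsPGroup.iff_card.1 h3
  rw [← Cfsg.Agent.Grp.generated_by_centralizers A W hncyc hAK (hk ▸ hW.symm.pow_left k)]
  exact iSup₂_le fun h hh w hw => hc h hh.1 hh.2 w hw.1 (mem_centralizer_singleton_iff.1 hw.2)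

/-- The embedded stabiliser with `z` isolated in `R`. -/
structure Emb (G : Type u) [Group G] where
  ι : Stab →* G
  inj : Function.Injective ι
  R : Subgroup G
  le : ι.range ≤ R
  cz : ∀ g : G, Commute g (ι zS) → g ∈ ι.range
  iso : ∀ g : G, g * ι zS * g⁻¹ ∈ R → g ∈ R

namespace Emb

variable {G : Type u} [Group G] [Finite G] (E : Emb G)

theorem ι_commute {a b : Stab} : Commute (E.ι a) (E.ι b) ↔ Commute a b := by
  constructor
  · intro h; exact E.inj (by rw [map_mul, map_mul]; exact h.eq)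
  · exact fun h => h.map E.ι

theorem ι_cube {a : Stab} : (E.ι a) ^ 3 = 1 ↔ a ^ 3 = 1 := by
  rw [← map_pow, map_eq_one_iff E.ι E.inj]

theorem cv {v : Fin 3 → ZMod 3} (hv : v ≠ 0) {g : G} (hg : Commute g (E.ι (vS v))) : g ∈ E.ι.range := by
  obtain ⟨M, hM⟩ := vS_trans hv
  rw [← hM, map_mul, map_mul, map_inv] at hg
  have : (E.ι M)⁻¹ * g * E.ι M ∈ E.ι.range := E.cz _ (by
    show _ = _
    calc (E.ι M)⁻¹ * g * E.ι M * E.ι zS = (E.ι M)⁻¹ * (g * (E.ι M * E.ι zS * (E.ι M)⁻¹)) * E.ι M := by group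
      _ = _ := by rw [hg.eq]; group)
  have h2 := mul_mem (mul_mem (⟨M, rfl⟩ : E.ι M ∈ E.ι.range) this) (inv_mem ⟨M, rfl⟩)
  rwa [show E.ι M * ((E.ι M)⁻¹ * g * E.ι M) * (E.ι M)⁻¹ = g by group] at h2

theorem iso_v {v : Fin 3 → ZMod 3} (hv : v ≠ 0) {g : G} (hg : g * E.ι (vS v) * g⁻¹ ∈ E.R) : g ∈ E.R := by
  obtain ⟨M, hM⟩ := vS_trans hv
  rw [← hM, map_mul, map_mul, map_inv] at hg
  have hgM : g * E.ι M ∈ E.R := E.iso _ (by
    rw [_root_.mul_inv_rev]; simpa only [mul_assoc] using hg)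
  have := mul_mem hgM (inv_mem (E.le ⟨M, rfl⟩))
  rwa [mul_inv_cancel_right] at this

/-- No subgroup of order prime to three is normalised by `⟨y, z⟩`. -/
theorem signalizer {W : Subgroup G} (hW : (Nat.card W).Coprime 3)
    (hy : ∀ w ∈ W, E.ι yS * w * (E.ι yS)⁻¹ ∈ W) (hz : ∀ w ∈ W, E.ι zS * w * (E.ι zS)⁻¹ ∈ W) : W = ⊥ := by
  have hyz : Commute yS zS := Stab_ext (by decide +kernel)
  have hy3 : yS ^ 3 = 1 := Stab_ext (by decide +kernel)
  have hz3 : zS ^ 3 = 1 := Stab_ext (by decide +kernel)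
  have hle : W ≤ E.ι.range := by
    refine le_of_nine (a := E.ι zS) (b := E.ι yS) (E.ι_commute.2 hyz.symm) (E.ι_cube.2 hz3) (E.ι_cube.2 hy3) ?_ ?_
      hW hz hy ?_
    · rw [Ne, map_eq_one_iff E.ι E.inj]
      exact fun h => absurd (congrArg (fun M : Stab => M.1.1) h) (by decide)
    · intro h
      obtain ⟨i, hi⟩ := mem_zpowers_iff.1 h
      rw [← map_zpow] at hi
      have hi' := E.inj hi
      have h' : ∀ m : Fin 3, zS ^ (m : ℕ) ≠ yS := by decide +kernel
      refine h' ⟨(i % 3).toNat, by omega⟩ ?_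
      rw [← hi', ← zpow_natCast, Fin.val_mk, Int.toNat_of_nonneg (Int.emod_nonneg _ (by norm_num))]
      exact (zpow_eq_zpow_emod' i hz3).symm
    · intro h hh h1 w _ hc
      have hmem : h ∈ (Subgroup.closure (Set.range vS)).map E.ι := by
        refine (closure_le _).2 ?_ hh
        rintro x (rfl | rfl)
        · exact ⟨zS, subset_closure ⟨_, rfl⟩, rfl⟩
        · exact ⟨yS, subset_closure ⟨_, rfl⟩, rfl⟩
      obtain ⟨M, hM, rfl⟩ := hmem
      obtain ⟨v, rfl⟩ : ∃ v, vS v = M := by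
        clear h1 hc hh
        induction hM using closure_induction with
        | mem x hx => exact hx
        | one => exact ⟨0, el_one⟩
        | mul x y _ _ hx hy =>
          obtain ⟨v, rfl⟩ := hx
          obtain ⟨w, rfl⟩ := hy
          exact ⟨v + w, (vS_mul v w).symm⟩
        | inv x _ hx =>
          obtain ⟨v, rfl⟩ := hx
          exact ⟨-v, vS_neg v⟩
      exact E.cv (fun e => h1 (by rw [e, vS, el_one, map_one])) hc
  have hnorm : ∀ {v : Fin 3 → ZMod 3} {M : Stab}, ∃ w, M * vS v * M⁻¹ = vS w := by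
    intro v M
    exact ⟨_, by rw [← vS_conj, inv_inv]⟩
  have hcomm : ∀ w ∈ W, ∀ v : Fin 3 → ZMod 3, (∀ x ∈ W, E.ι (vS v) * x * (E.ι (vS v))⁻¹ ∈ W) →
      Commute w (E.ι (vS v)) := by
    intro w hw v hv
    obtain ⟨M, hM⟩ := hle hw
    obtain ⟨u, hu⟩ := hnorm (v := v) (M := M)
    have hcW : w * E.ι (vS v) * w⁻¹ * (E.ι (vS v))⁻¹ ∈ W := by
      rw [show w * E.ι (vS v) * w⁻¹ * (E.ι (vS v))⁻¹ = w * (E.ι (vS v) * w⁻¹ * (E.ι (vS v))⁻¹) by group]
      exact mul_mem hw (hv _ (inv_mem hw))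
    have heq : w * E.ι (vS v) * w⁻¹ * (E.ι (vS v))⁻¹ = E.ι (vS u * (vS v)⁻¹) := by
      rw [← hM, ← hu, map_mul, map_mul, map_mul, map_inv, map_inv]
    have h3 := vS_cube
    have hone : w * E.ι (vS v) * w⁻¹ * (E.ι (vS v))⁻¹ = 1 := by
      refine orderOf_eq_one_iff.1 (Nat.eq_one_of_dvd_coprimes hW (Subgroup.orderOf_dvd_natCard W hcW)
        (orderOf_dvd_of_pow_eq_one ?_))
      have hcv : Commute (vS u) ((vS v)⁻¹) := (vS_comm u v).inv_right
      rw [heq, ← map_pow, hcv.mul_pow, inv_pow, h3, h3, inv_one, mul_one, map_one]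
    show _ = _
    calc w * E.ι (vS v) = w * E.ι (vS v) * w⁻¹ * (E.ι (vS v))⁻¹ * (E.ι (vS v) * w) := by group
      _ = E.ι (vS v) * w := by rw [hone, one_mul]
  rw [eq_bot_iff]
  intro w hw
  obtain ⟨M, hM⟩ := hle hw
  have hy' := hcomm w hw _ hy
  have hz' := hcomm w hw _ hz
  rw [← hM] at hy' hz'
  have h := cube_of_cent (E.ι_commute.1 hy') (E.ι_commute.1 hz')
  rw [Subgroup.mem_bot]
  refine orderOf_eq_one_iff.1 (Nat.eq_one_of_dvd_coprimes hW (Subgroup.orderOf_dvd_natCard W hw)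
    (orderOf_dvd_of_pow_eq_one ?_))
  rw [← hM]; exact E.ι_cube.2 h

end Emb

end Cfsg.Agent.Spor.L43Three
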