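import Mathlib
import Cfsg.Agent.Lib.Spor.L43Three.Emb
import Cfsg.Agent.Lib.Spor.L43Three.Inverted.Flip

/-!
Centralisers meeting the embedded stabiliser in a three-group.
-/

set_option autoImplicit false
set_option linter.unusedSectionVars false

namespace Cfsg.Agent.Spor.L43Three

open Subgroup Matrix
open scoped commutatorElement

universe u

namespace Emb

variable {G : Type u} [Group G] [Finite G] (E : Emb G)

/-- A centraliser meeting `R` in a three-group with derived group the centre of `N`. -/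
theorem cent_three (q : Stab) (hR : ∀ g : G, Commute g (E.ι q) → g ∈ E.R → g ∈ E.ι.range)
    (hcube : ∀ M : Stab, Commute M q → M ^ 3 = 1) (hzc : ∀ M : Stab, Commute M q → Commute zS M)
    (hzq : Commute zS q) (hyq : Commute yS q)
    (hwit : ∃ M N : Stab, Commute M q ∧ Commute N q ∧ ⁅M, N⁆ = zS)
    (hder : ∀ M N : Stab, Commute M q → Commute N q → ⁅M, N⁆ ∈ zpowers zS)
    {g : G} (hg : Commute g (E.ι q)) : g ∈ E.ι.range := by
  haveI : Fact (Nat.Prime 3) := ⟨Nat.prime_three⟩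
  set K := centralizer ({E.ι q} : Set G)
  have hK : ∀ {x : G}, x ∈ K ↔ Commute x (E.ι q) := Subgroup.mem_centralizer_singleton_iff
  set D := E.R.subgroupOf K
  have hD : ∀ {x : K}, x ∈ D ↔ ∃ M, Commute M q ∧ E.ι M = x := by
    intro x
    rw [mem_subgroupOf]
    constructor
    · intro hx
      obtain ⟨M, hM⟩ := hR x (hK.1 x.2) hx
      exact ⟨M, E.ι_commute.1 (by rw [hM]; exact hK.1 x.2), hM⟩
    · rintro ⟨M, -, hM⟩
      rw [← hM]; exact E.le ⟨M, rfl⟩
  let zK : K := ⟨E.ι zS, hK.2 (E.ι_commute.2 hzq)⟩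
  have hD3 : IsPGroup 3 D := fun x => ⟨1, by
    obtain ⟨M, hM, he⟩ := hD.1 x.2
    refine Subtype.ext (Subtype.ext ?_)
    rw [pow_one, SubmonoidClass.coe_pow, SubmonoidClass.coe_pow, ← he]
    exact E.ι_cube.2 (hcube M hM)⟩
  have hzD : zK ∈ D := hD.2 ⟨zS, hzq, rfl⟩
  obtain ⟨P, hP⟩ := hD3.exists_le_sylow
  have hiso : ∀ x : K, x * zK * x⁻¹ ∈ D → x ∈ D := fun x hx => by
    rw [mem_subgroupOf] at hx ⊢
    exact E.iso x hx
  have hPD : (P : Subgroup K) = D := by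
    refine le_antisymm ?_ hP
    by_contra hne
    have hlt : D.subgroupOf (P : Subgroup K) < ⊤ := lt_top_iff_ne_top.2 fun h => hne (subgroupOf_eq_top.1 h)
    haveI : Group.IsNilpotent (P : Subgroup K) := P.isPGroup'.isNilpotent
    obtain ⟨m, hm, hmD⟩ := SetLike.exists_of_lt (normalizerCondition_of_isNilpotent _ hlt)
    exact hmD (hiso m (Inverted.mem_normalizer_conj (a := ⟨zK, hP hzD⟩) hm hzD))
  have hz : ∀ p ∈ (P : Subgroup K), Commute zK p := by
    intro p hp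
    obtain ⟨M, hM, he⟩ := hD.1 (hPD ▸ hp)
    refine Subtype.ext ?_
    show E.ι zS * (p : G) = p * E.ι zS
    rw [← he]; exact E.ι_commute.2 (hzc M hM)
  have hcm : ∀ x ∈ D, ∀ y ∈ D, ⁅x, y⁆ ∈ zpowers zK := by
    intro x hx y hy
    obtain ⟨M, hM, hMx⟩ := hD.1 hx
    obtain ⟨N, hN, hNy⟩ := hD.1 hy
    obtain ⟨i, hi⟩ := mem_zpowers_iff.1 (hder M N hM hN)
    refine mem_zpowers_iff.2 ⟨i, Subtype.ext ?_⟩
    rw [SubgroupClass.coe_zpow]
    show E.ι zS ^ i = _
    rw [← map_zpow, hi, commutatorElement_def, commutatorElement_def, map_mul, map_mul, map_mul, map_inv, map_inv,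
      hMx, hNy]
    rfl
  have hle : ⁅(P : Subgroup K), (P : Subgroup K)⁆ ≤ zpowers zK :=
    commutator_le.2 fun x hx y hy => hcm x (hPD ▸ hx) y (hPD ▸ hy)
  have hzd : zK ∈ ⁅(P : Subgroup K), (P : Subgroup K)⁆ := by
    obtain ⟨M, N, hM, hN, he⟩ := hwit
    have h := commutator_mem_commutator
      (g₁ := (⟨E.ι M, hK.2 (E.ι_commute.2 hM)⟩ : K)) (g₂ := (⟨E.ι N, hK.2 (E.ι_commute.2 hN)⟩ : K))
      (hPD ▸ hD.2 ⟨M, hM, rfl⟩ : (⟨E.ι M, _⟩ : K) ∈ (P : Subgroup K))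
      (hPD ▸ hD.2 ⟨N, hN, rfl⟩ : (⟨E.ι N, _⟩ : K) ∈ (P : Subgroup K))
    convert h
    refine Subtype.ext ?_
    show E.ι zS = _
    rw [← he, commutatorElement_def, map_mul, map_mul, map_mul, map_inv, map_inv]
    rfl
  obtain ⟨O, hO, hO3, hdec, -⟩ := Inverted.isolated_compl P zK hz hzd
    (fun x hx => hPD ▸ hiso x (hPD ▸ hx)) fun a ha b hb => by
      obtain ⟨i, rfl⟩ := mem_zpowers_iff.1 (hle ha)
      obtain ⟨j, rfl⟩ := mem_zpowers_iff.1 (hle hb)
      exact (Commute.refl zK).zpow_zpow i j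
  have hW : O.map K.subtype = ⊥ := by
    refine E.signalizer (by rwa [card_map_of_injective K.subtype_injective]) ?_ ?_
    · rintro _ ⟨o, ho, rfl⟩
      exact ⟨_, hO.conj_mem o ho ⟨E.ι yS, hK.2 (E.ι_commute.2 hyq)⟩, rfl⟩
    · rintro _ ⟨o, ho, rfl⟩
      exact ⟨_, hO.conj_mem o ho ⟨E.ι zS, hK.2 (E.ι_commute.2 hzq)⟩, rfl⟩
  obtain ⟨o, ho, p, hp, e⟩ := hdec ⟨g, hK.2 hg⟩
  have ho1 : o = 1 := Subtype.ext (mem_bot.1 (hW ▸ mem_map_of_mem K.subtype ho))
  obtain ⟨M, -, hMp⟩ := hD.1 (hPD ▸ hp)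
  refine ⟨M, ?_⟩
  rw [hMp]
  have := congrArg Subtype.val e
  rw [ho1, one_mul] at this
  exact this.symm

end Emb

/-- A translation of the column group. -/
def cA (a b : ZMod 3) : SL33 := ⟨!![1, 0, a; 0, 1, b; 0, 0, 1], by simp [Matrix.det_fin_three]⟩

/-- The element of type `(3, 1)` in `Q`. -/
def aS : Stab := el ![1, 0, 0] (cA 1 0)

theorem shape_a : ∀ (p : Fin 5 → ZMod 3) (v : Fin 3 → ZMod 3),
    aff v !![p 0, p 1, p 2; 0, p 3, p 4; 0, 0, p 0] * aS.1.1 = aS.1.1 * aff v !![p 0, p 1, p 2; 0, p 3, p 4; 0, 0, p 0] →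
    (!![p 0, p 1, p 2; 0, p 3, p 4; 0, 0, p 0] : M3).det = 1 → p 0 = 1 ∧ p 1 = 0 ∧ p 3 = 1 := by
  decide +kernel

/-- The centraliser of `aS` lies in the extraspecial group. -/
theorem cent_a_shape {M : Stab} (h : Commute M aS) : ∃ v a b, M = el v (cA a b) := by
  obtain ⟨v, A, rfl⟩ := el_surj M
  have h' := h.eq
  rw [aS, el_mul, el_mul] at h'
  have hA : A.1 * (cA 1 0).1 = (cA 1 0).1 * A.1 := congrArg (fun B : SL33 => B.1) (el_inj h').2
  have key : ∀ i j, (A.1 * (cA 1 0).1) i j = ((cA 1 0).1 * A.1) i j := fun i j => by rw [hA]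
  have e1 := key 0 0
  have e2 := key 0 1
  have e3 := key 0 2
  have e4 := key 1 2
  have e5 := key 2 2
  simp [cA, Matrix.mul_apply, Fin.sum_univ_three] at e1 e2 e3 e4 e5
  let p : Fin 5 → ZMod 3 := ![A.1 0 0, A.1 0 1, A.1 0 2, A.1 1 1, A.1 1 2]
  have hAe : A.1 = !![p 0, p 1, p 2; 0, p 3, p 4; 0, 0, p 0] := by
    ext i j
    fin_cases i <;> fin_cases j <;> simp [p, e1, e2, e4, e5]
    all_goals linear_combination -e3
  have h4 := congrArg (fun B : Stab => B.1.1) h.eq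
  simp only [Stab_mul_val, el_val] at h4
  rw [hAe] at h4
  obtain ⟨h0, h1, h3⟩ := shape_a p v h4 (hAe ▸ A.2)
  refine ⟨v, p 2, p 4, congrArg (el v) (Subtype.ext ?_)⟩
  rw [hAe, h0, h1, h3]
  rfl

theorem facts_a : ∀ (v : Fin 3 → ZMod 3) (a b : ZMod 3),
    el v (cA a b) * el v (cA a b) * el v (cA a b) = 1 ∧ el v (cA a b) * zS = zS * el v (cA a b) := by
  decide +kernel

theorem comm_a (v w : Fin 3 → ZMod 3) (a b c d : ZMod 3) :
    el v (cA a b) * el w (cA c d) =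
      vS ![0, 0, v 0 * c + v 1 * d - w 0 * a - w 1 * b] * (el w (cA c d) * el v (cA a b)) := by
  refine Stab_ext ?_
  simp only [Stab_mul_val, el_val, vS, aff_mul, one_val, show ∀ x y, (cA x y).1 = !![1, 0, x; 0, 1, y; 0, 0, 1]
    from fun _ _ => rfl]
  ext i j
  fin_cases i <;> fin_cases j <;>
    simp [aff, Matrix.mul_apply, Matrix.vecMul, dotProduct, Fin.sum_univ_three, Matrix.vecHead, Matrix.vecTail] <;> ring

namespace Emb

variable {G : Type u} [Group G] [Finite G] (E : Emb G)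

/-- The centraliser of `aS`. -/
theorem cent_a (hR : ∀ g : G, Commute g (E.ι aS) → g ∈ E.R → g ∈ E.ι.range) {g : G} (hg : Commute g (E.ι aS)) :
    g ∈ E.ι.range := by
  refine E.cent_three aS hR (fun M hM => ?_) (fun M hM => ?_) (Stab_ext (by decide +kernel))
    (Stab_ext (by decide +kernel))
    ⟨el ![0, 1, 0] 1, el 0 (cA 0 1), Stab_ext (by decide +kernel), Stab_ext (by decide +kernel), by decide +kernel⟩
    (fun M N hM hN => ?_) hg
  · obtain ⟨v, a, b, rfl⟩ := cent_a_shape hM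
    rw [pow_three, ← mul_assoc]; exact (facts_a v a b).1
  · obtain ⟨v, a, b, rfl⟩ := cent_a_shape hM
    exact ((facts_a v a b).2).symm
  · obtain ⟨v, a, b, rfl⟩ := cent_a_shape hM
    obtain ⟨w, c, d, rfl⟩ := cent_a_shape hN
    rw [commutatorElement_def, comm_a v w a b c d]
    set k := v 0 * c + v 1 * d - w 0 * a - w 1 * b
    rw [show vS ![0, 0, k] * (el w (cA c d) * el v (cA a b)) * (el v (cA a b))⁻¹ * (el w (cA c d))⁻¹ =
      vS ![0, 0, k] by group]
    have : ∀ k : ZMod 3, vS ![0, 0, k] = zS ^ k.val := by decide +kernel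
    rw [this]
    exact pow_mem (mem_zpowers _) _

end Emb

end Cfsg.Agent.Spor.L43Three
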