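import Mathlib
import Cfsg.Agent.Lib.Spor.L43Three.SL23

/-!
Chief factors of `Q` under `SL(2, 3)`: with two nontrivial ones the central involution inverts `Q` modulo its
centre.
-/

set_option autoImplicit false

namespace Cfsg.Agent.Spor.L43Three

open Subgroup

variable {G : Type*} [Group G]

/-- An action of `SL(2, 3)` on a group of order three is trivial. -/
theorem act_three {E : Type*} [Group E] (h3 : Nat.card E = 3) (φ : SL23 →* MulAut E) (g : SL23) (e : E) :
    φ g e = e := by
  haveI : Finite E := Nat.finite_of_card_ne_zero (by omega)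
  haveI : Fact (Nat.Prime 3) := ⟨Nat.prime_three⟩
  have two : ∀ (α : MulAut E) (x : E), α x = x ∨ α x = x⁻¹ := by
    intro α x
    by_cases hx : x = 1
    · left; rw [hx, map_one]
    have htop : zpowers x = ⊤ := zpowers_eq_top_of_prime_card (p := 3) h3 hx
    obtain ⟨m, hm⟩ := mem_zpowers_iff.1 (htop ▸ mem_top (α x))
    have hx3 : x ^ 3 = 1 := h3 ▸ pow_card_eq_one'
    rw [zpow_eq_zpow_emod' m hx3] at hm
    have : m % ((3 : ℕ) : ℤ) = 0 ∨ m % ((3 : ℕ) : ℤ) = 1 ∨ m % ((3 : ℕ) : ℤ) = 2 := by omega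
    rcases this with h | h | h <;> rw [h] at hm
    · exact absurd (by simpa using hm.symm) hx
    · left; simpa using hm.symm
    · right
      rw [← hm, show ((2 : ℤ)) = ((2 : ℕ) : ℤ) from rfl, zpow_natCast]
      exact eq_inv_of_mul_eq_one_left (by rw [← pow_succ, hx3])
  let T : Subgroup SL23 := φ.ker
  have hT : T = ⊤ := eq_top_of_cube_mem fun a ha => MonoidHom.mem_ker.2 (by
    have hsq : (φ a) ^ 2 = 1 := MulEquiv.ext fun x => by
      rw [pow_two, MulAut.mul_apply, MulAut.one_apply]
      rcases two (φ a) x with h | h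
      · rw [h, h]
      · rw [h, map_inv, h, inv_inv]
    have hcu : (φ a) ^ 3 = 1 := by rw [← map_pow, ha, map_one]
    rwa [pow_succ, hsq, one_mul] at hcu)
  have : φ g = 1 := MonoidHom.mem_ker.1 (hT ▸ mem_top g : g ∈ T)
  rw [this, MulAut.one_apply]

/-- A chief factor on which `SL(2, 3)` acts nontrivially has index at least nine, and, if exactly nine, is
inverted by the elements over the central involution. -/
theorem factor_facts [Finite G] {C : Subgroup G} (π : C →* SL23) (hπ : Function.Surjective π)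
    {B B' : Subgroup G} (hBB : B < B') (hp : IsPGroup 3 B') (hexp : ∀ a ∈ B', a ^ 3 = 1)
    (hcomm : ∀ a ∈ B', ∀ b ∈ B', a * b * a⁻¹ * b⁻¹ ∈ B)
    (hker : ∀ c : C, π c = 1 → ∀ a ∈ B', (c : G) * a * (c : G)⁻¹ * a⁻¹ ∈ B)
    (hB : ∀ c : C, ∀ a ∈ B, (c : G) * a * (c : G)⁻¹ ∈ B)
    (hB' : ∀ c : C, ∀ a ∈ B', (c : G) * a * (c : G)⁻¹ ∈ B')
    (hmax : ∀ X : Subgroup G, B < X → X < B' → ∃ c : C, ∃ b ∈ X, (c : G) * b * (c : G)⁻¹ ∉ X)
    (hnt : ∃ c : C, ∃ a ∈ B', (c : G) * a * (c : G)⁻¹ * a⁻¹ ∉ B) :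
    9 * Nat.card B ≤ Nat.card B' ∧
      (Nat.card B' = 9 * Nat.card B →
        ∀ c : C, π c = negOne → ∀ a ∈ B', (c : G) * a * (c : G)⁻¹ * a ∈ B) := by
  haveI hn : (B.subgroupOf B').Normal := ⟨fun b hb a => by
    rw [mem_subgroupOf] at hb ⊢
    have := hcomm a a.2 b b.2
    show (a : G) * b * (a : G)⁻¹ ∈ B
    simpa using mul_mem this hb⟩
  haveI : IsMulCommutative (↥B' ⧸ B.subgroupOf B') := ⟨⟨fun x y => by
    induction x using QuotientGroup.induction_on with
    | H a =>
      induction y using QuotientGroup.induction_on with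
      | H b =>
        rw [← QuotientGroup.mk_mul, ← QuotientGroup.mk_mul, QuotientGroup.eq, mem_subgroupOf]
        have := hcomm (b⁻¹ : B') (SetLike.coe_mem _) (a⁻¹ : B') (SetLike.coe_mem _)
        simpa [mul_assoc] using this⟩⟩
  let K : C →* MulAut B' :=
    { toFun := fun c =>
        { toFun := fun a => ⟨(c : G) * a * (c : G)⁻¹, hB' c a a.2⟩
          invFun := fun a => ⟨(c : G)⁻¹ * a * (c : G), by
            have := hB' c⁻¹ a a.2
            simpa using this⟩
          left_inv := fun a => Subtype.ext (by simp [mul_assoc])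
          right_inv := fun a => Subtype.ext (by simp [mul_assoc])
          map_mul' := fun a b => Subtype.ext (by simp [mul_assoc]) }
      map_one' := MulEquiv.ext fun a => Subtype.ext (by simp)
      map_mul' := fun c d => MulEquiv.ext fun a => Subtype.ext (by simp [mul_assoc]) }
  have hmap : ∀ c : C, (B.subgroupOf B').map (K c).toMonoidHom = B.subgroupOf B' := fun c => by
    ext a
    simp only [Subgroup.mem_map_equiv, mem_subgroupOf]
    constructor
    · intro h
      have := hB c _ h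
      simpa [K, mul_assoc] using this
    · intro h
      have := hB c⁻¹ _ h
      simpa [K, mul_assoc] using this
  let L : C →* MulAut (↥B' ⧸ B.subgroupOf B') :=
    { toFun := fun c => QuotientGroup.congr _ _ (K c) (hmap c)
      map_one' := MulEquiv.ext fun x => by
        induction x using QuotientGroup.induction_on with
        | H a => simp [QuotientGroup.congr_mk]
      map_mul' := fun c d => MulEquiv.ext fun x => by
        induction x using QuotientGroup.induction_on with
        | H a => simp only [map_mul]; rfl }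
  have hL : ∀ (c : C) (a : B'), L c (QuotientGroup.mk a) = QuotientGroup.mk (K c a) := fun c a =>
    rfl
  have hkerL : π.ker ≤ L.ker := fun c hc => by
    rw [MonoidHom.mem_ker] at hc ⊢
    refine MulEquiv.ext fun x => ?_
    induction x using QuotientGroup.induction_on with
    | H a =>
      rw [hL, MulAut.one_apply, QuotientGroup.eq, mem_subgroupOf]
      simpa [K, mul_assoc] using hker c hc _ (inv_mem a.2)
  let φ : SL23 →* MulAut (↥B' ⧸ B.subgroupOf B') :=
    π.liftOfSurjective hπ ⟨L, hkerL⟩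
  have hφ : ∀ (c : C) (a : B'), φ (π c) (QuotientGroup.mk a) = QuotientGroup.mk (K c a) := fun c a => by
    rw [show φ (π c) = L c from MonoidHom.liftOfRightInverse_comp_apply _ _ _ ⟨L, hkerL⟩ c, hL]
  have hmem : ∀ (c : C) (a : B'), φ (π c) (QuotientGroup.mk a) = QuotientGroup.mk a →
      (c : G) * a * (c : G)⁻¹ * (a : G)⁻¹ ∈ B := fun c a h => by
    have h1 := (hφ c a).symm.trans h
    have h2 := (QuotientGroup.eq_iff_div_mem).1 h1
    rw [mem_subgroupOf] at h2
    simpa [K, div_eq_mul_inv] using h2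
  obtain ⟨c₀, a₀, ha₀, hca⟩ := hnt
  obtain ⟨k, hk⟩ := (hp.to_quotient (B.subgroupOf B')).exists_card_eq
  have hcard : Nat.card B' = 3 ^ k * Nat.card B := by
    rw [← hk, ← Nat.card_congr (subgroupOfEquivOfLe hBB.le).toEquiv,
      ← Subgroup.card_eq_card_quotient_mul_card_subgroup]
  have hk2 : 2 ≤ k := by
    by_contra hlt
    push Not at hlt
    interval_cases k
    · haveI := (Nat.card_eq_one_iff_unique.1 hk).1
      exact hca (hmem c₀ ⟨a₀, ha₀⟩ (Subsingleton.elim _ _))
    · exact hca (hmem c₀ ⟨a₀, ha₀⟩ (act_three (by simpa using hk) φ _ _))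
  refine ⟨hcard ▸ Nat.mul_le_mul_right _ (le_trans (by norm_num) (Nat.pow_le_pow_right (by norm_num) hk2)), ?_⟩
  intro hnine c hc a ha
  have h9 : Nat.card (↥B' ⧸ B.subgroupOf B') = 9 := by
    rw [hk]
    exact Nat.eq_of_mul_eq_mul_right Nat.card_pos (hcard.symm.trans hnine)
  open scoped IsMulCommutative in
  let _ : CommGroup (↥B' ⧸ B.subgroupOf B') := inferInstance
  have h3 : ∀ x : ↥B' ⧸ B.subgroupOf B', x ^ 3 = 1 := fun x => by
    induction x using QuotientGroup.induction_on with
    | H a => rw [← QuotientGroup.mk_pow, QuotientGroup.eq_one_iff, mem_subgroupOf]; simp [hexp a a.2]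
  have hirr : ∀ X : Subgroup (↥B' ⧸ B.subgroupOf B'), (∀ g, ∀ b ∈ X, φ g b ∈ X) → X = ⊥ ∨ X = ⊤ := by
    intro X hX
    let Y : Subgroup G := (X.comap (QuotientGroup.mk' (B.subgroupOf B'))).map B'.subtype
    have hYiff : ∀ y : G, y ∈ Y ↔ ∃ h : y ∈ B', QuotientGroup.mk (s := B.subgroupOf B') ⟨y, h⟩ ∈ X := by
      intro y
      constructor
      · rintro ⟨⟨w, hw⟩, hwX, rfl⟩; exact ⟨hw, hwX⟩
      · rintro ⟨h, hyX⟩; exact ⟨⟨y, h⟩, hyX, rfl⟩
    have hYB' : Y ≤ B' := fun y hy => ((hYiff y).1 hy).1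
    have hBY : B ≤ Y := fun y hy => (hYiff y).2 ⟨hBB.le hy, by
      rw [(QuotientGroup.eq_one_iff _).2 (show (⟨y, hBB.le hy⟩ : B') ∈ B.subgroupOf B' from hy)]
      exact one_mem X⟩
    rcases eq_or_lt_of_le hBY with h1 | h1
    · left
      rw [eq_bot_iff]
      intro x hx
      induction x using QuotientGroup.induction_on with
      | H a =>
        have : (a : G) ∈ Y := (hYiff _).2 ⟨a.2, hx⟩
        rw [← h1] at this
        rw [Subgroup.mem_bot, QuotientGroup.eq_one_iff, mem_subgroupOf]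
        exact this
    rcases eq_or_lt_of_le hYB' with h2 | h2
    · right
      rw [eq_top_iff]
      intro x _
      induction x using QuotientGroup.induction_on with
      | H a =>
        obtain ⟨_, ha⟩ := (hYiff (a : G)).1 (h2.symm ▸ a.2)
        exact ha
    obtain ⟨c, b, hb, hcb⟩ := hmax Y h1 h2
    obtain ⟨hb', hbX⟩ := (hYiff b).1 hb
    exact absurd ((hYiff _).2 ⟨hB' c b hb', by
      have := hX (π c) _ hbX
      rwa [hφ] at this⟩) hcb
  have hnt' : ∃ g e, φ g e ≠ e := ⟨π c₀, QuotientGroup.mk ⟨a₀, ha₀⟩, fun h => hca (hmem _ _ h)⟩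
  have := negOne_inverts h9 h3 φ hirr hnt' (QuotientGroup.mk ⟨a, ha⟩)
  rw [← hc, hφ, ← QuotientGroup.mk_inv, QuotientGroup.eq_iff_div_mem, mem_subgroupOf] at this
  simpa [K, div_eq_mul_inv] using this

end Cfsg.Agent.Spor.L43Three
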