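import Mathlib
import Cfsg.Agent.Lib.Spor.L43Three.Affine
import Cfsg.Agent.Lib.Spor.L43Three.ClassData

/-!
The representatives of the six classes and the check of the table of conjugators.
-/

set_option autoImplicit false
set_option linter.unusedSectionVars false

namespace Cfsg.Agent.Spor.L43Three

open Subgroup Matrix

/-- The class representatives `z`, `u`, the two of rank two and square zero, `a`, and the regular one. -/
def repM : Fin 6 → M4 := ![!![1, 0, 0, 1; 0, 1, 0, 0; 0, 0, 1, 0; 0, 0, 0, 1],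
  !![1, 0, 0, 0; 0, 1, 0, 1; 0, 0, 1, 0; 0, 0, 0, 1], !![1, 0, 1, 0; 0, 1, 0, 1; 0, 0, 1, 0; 0, 0, 0, 1],
  !![1, 0, 1, 0; 0, 1, 0, 2; 0, 0, 1, 0; 0, 0, 0, 1], !![1, 1, 0, 0; 0, 1, 0, 1; 0, 0, 1, 0; 0, 0, 0, 1],
  !![1, 0, 0, 0; 0, 1, 1, 0; 0, 0, 1, 1; 0, 0, 0, 1]]

theorem repM_spec : ∀ k, (repM k).det = 1 ∧ ∀ i, repM k i 0 = if i = 0 then 1 else 0 := by decide +kernel

/-- The representatives. -/
def rep (k : Fin 6) : Stab := ⟨⟨repM k, (repM_spec k).1⟩, (repM_spec k).2⟩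

/-- Upper unitriangular matrices by number. -/
def uMat (p : ℕ) : M4 :=
  !![1, (p : ZMod 3), ((p / 3 : ℕ) : ZMod 3), ((p / 9 : ℕ) : ZMod 3); 0, 1, ((p / 27 : ℕ) : ZMod 3),
    ((p / 81 : ℕ) : ZMod 3); 0, 0, 1, ((p / 243 : ℕ) : ZMod 3); 0, 0, 0, 1]

/-- The matrix with a given code. -/
def codeMat (n : ℕ) : M4 :=
  aff (fun i => ((n / 3 ^ (i : ℕ) : ℕ) : ZMod 3)) (Matrix.of fun i j => ((n / 3 ^ (3 + 3 * (i : ℕ) + (j : ℕ)) : ℕ) : ZMod 3))

/-- The product written out. -/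
def mul4 (A B : M4) : M4 := fun i j => A i 0 * B 0 j + A i 1 * B 1 j + A i 2 * B 2 j + A i 3 * B 3 j

theorem mul4_eq (A B : M4) : mul4 A B = A * B := by
  ext i j
  rw [Matrix.mul_apply, Fin.sum_univ_four]; rfl

/-- Equality of matrices entry by entry. -/
def eq4 (A B : M4) : Bool := (List.finRange 4).all fun i => (List.finRange 4).all fun j => A i j == B i j

theorem eq4_iff (A B : M4) : eq4 A B = true ↔ A = B := by
  simp [eq4, List.all_eq_true, ← Matrix.ext_iff]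

/-- The determinant of the lower block, written out. -/
def det3 (M : M4) : ZMod 3 :=
  M 1 1 * M 2 2 * M 3 3 - M 1 1 * M 2 3 * M 3 2 - M 1 2 * M 2 1 * M 3 3 + M 1 2 * M 2 3 * M 3 1 +
    M 1 3 * M 2 1 * M 3 2 - M 1 3 * M 2 2 * M 3 1

theorem det_eq_det3 (v : Fin 3 → ZMod 3) (A : M3) : (aff v A).det = det3 (aff v A) := by
  rw [det_aff, Matrix.det_fin_three]; rfl

/-- The check of one row of the table. -/
def rowOK (p : ℕ) : Bool :=
  let n := classData.getD p 0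
  let g := codeMat ((n - 1) / 6)
  !(eq4 (mul4 (mul4 (uMat p) (uMat p)) (uMat p)) 1 && !eq4 (uMat p) 1) ||
    (decide (0 < n) && det3 g == 1 &&
      eq4 (mul4 g (repM ⟨(n - 1) % 6, Nat.mod_lt _ (by norm_num)⟩)) (mul4 (uMat p) g))

theorem rows_ok : (List.range 729).all rowOK = true := by decide +kernel

theorem class_data (p : Fin 729) (h1 : uMat p * uMat p * uMat p = 1) (h2 : uMat p ≠ 1) :
    0 < classData.getD p 0 ∧ (codeMat ((classData.getD p 0 - 1) / 6)).det = 1 ∧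
    codeMat ((classData.getD p 0 - 1) / 6) * repM ⟨(classData.getD p 0 - 1) % 6, Nat.mod_lt _ (by norm_num)⟩ =
      uMat p * codeMat ((classData.getD p 0 - 1) / 6) := by
  have h := List.all_eq_true.1 rows_ok p (List.mem_range.2 p.2)
  have e1 : eq4 (mul4 (mul4 (uMat p) (uMat p)) (uMat p)) 1 = true := by rw [eq4_iff, mul4_eq, mul4_eq]; exact h1
  have e2 : eq4 (uMat p) 1 = false := by rw [Bool.eq_false_iff]; exact fun e => h2 ((eq4_iff _ _).1 e)
  unfold rowOK at h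
  simp only [e1, e2, Bool.not_false, Bool.and_true, Bool.not_true, Bool.false_or] at h
  simp only [Bool.and_eq_true, decide_eq_true_eq, beq_iff_eq, eq4_iff, mul4_eq] at h
  obtain ⟨⟨a, b⟩, c⟩ := h
  exact ⟨a, by rw [← b]; exact det_eq_det3 _ _, c⟩

theorem det_uMat (p : ℕ) : (uMat p).det = 1 := by
  have e : uMat p = aff ![(p : ZMod 3), ((p / 3 : ℕ) : ZMod 3), ((p / 9 : ℕ) : ZMod 3)]
      !![1, ((p / 27 : ℕ) : ZMod 3), ((p / 81 : ℕ) : ZMod 3); 0, 1, ((p / 243 : ℕ) : ZMod 3); 0, 0, 1] := by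
    ext i j; fin_cases i <;> fin_cases j <;> rfl
  rw [e, det_aff, Matrix.det_fin_three]
  simp

end Cfsg.Agent.Spor.L43Three
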