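import Mathlib
import Cfsg.Agent.Lib.Spor.L43Three.Affine
import Cfsg.Agent.Lib.Spor.L43Three.ClassCheck

/-!
The six classes of elements of order three of the point stabiliser.
-/

set_option autoImplicit false
set_option linter.unusedSectionVars false
set_option maxRecDepth 10000

namespace Cfsg.Agent.Spor.L43Three

open Subgroup Matrix

/-- The upper unitriangular subgroup. -/
def U4 : Subgroup Stab where
  carrier := {M | ∀ i j : Fin 4, j ≤ i → M.1.1 i j = if i = j then 1 else 0}
  one_mem' := fun i j _ => by rw [Stab_one_val, Matrix.one_apply]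
  mul_mem' := by
    intro a b ha hb i j hij
    simp only [Set.mem_setOf_eq] at ha hb
    rw [Stab_mul_val, Matrix.mul_apply, Finset.sum_eq_single i]
    · rw [ha i i le_rfl, if_pos rfl, one_mul, hb i j hij]
    · intro k _ hk
      rcases lt_or_gt_of_ne hk with h | h
      · rw [ha i k h.le, if_neg (Ne.symm hk), zero_mul]
      · rw [hb k j (hij.trans h.le), if_neg (by rintro rfl; exact absurd hij (not_le.2 h)), mul_zero]
    · simp
  inv_mem' := by
    intro a ha
    have hp : ∀ n : ℕ, ∀ i j : Fin 4, j ≤ i → (a ^ n).1.1 i j = if i = j then 1 else 0 := by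
      intro n
      induction n with
      | zero => exact fun i j _ => by rw [pow_zero, Stab_one_val, Matrix.one_apply]
      | succ n ih =>
        intro i j hij
        simp only [Set.mem_setOf_eq] at ha
        rw [pow_succ, Stab_mul_val, Matrix.mul_apply, Finset.sum_eq_single i]
        · rw [ih i i le_rfl, if_pos rfl, one_mul, ha i j hij]
        · intro k _ hk
          rcases lt_or_gt_of_ne hk with h | h
          · rw [ih i k h.le, if_neg (Ne.symm hk), zero_mul]
          · rw [ha k j (hij.trans h.le), if_neg (by rintro rfl; exact absurd hij (not_le.2 h)), mul_zero]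
        · simp
    obtain ⟨n, -, hn⟩ := (isOfFinOrder_of_finite a).exists_pow_eq_one
    rw [show a⁻¹ = a ^ (orderOf a - 1) from ?_]
    · exact hp _
    · rw [inv_eq_of_mul_eq_one_right]
      rw [← pow_succ', Nat.sub_add_cancel (orderOf_pos a), pow_orderOf_eq_one]

theorem uMat_surj {M : Stab} (h : M ∈ U4) : ∃ p : Fin 729, uMat p = M.1.1 := by
  have key : ∀ a b c d e f : ZMod 3,
      uMat ((⟨a.val + 3 * b.val + 9 * c.val + 27 * d.val + 81 * e.val + 243 * f.val, by
        have := a.val_lt; have := b.val_lt; have := c.val_lt; have := d.val_lt; have := e.val_lt; have := f.val_lt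
        omega⟩ : Fin 729) : ℕ) = !![1, a, b, c; 0, 1, d, e; 0, 0, 1, f; 0, 0, 0, 1] := by decide +kernel
  refine ⟨_, (key (M.1.1 0 1) (M.1.1 0 2) (M.1.1 0 3) (M.1.1 1 2) (M.1.1 1 3) (M.1.1 2 3)).trans ?_⟩
  ext i j
  by_cases hij : j ≤ i
  · rw [h i j hij]; fin_cases i <;> fin_cases j <;> first | rfl | exact absurd hij (by decide)
  · fin_cases i <;> fin_cases j <;> first | rfl | exact absurd (by decide) hij

theorem card_U4 : Nat.card U4 = 729 := by
  have hinj : ∀ p q : Fin 729, uMat p = uMat q → p = q := fun p q h => by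
    have e : ∀ r : Fin 729, (uMat r 0 1).val + 3 * (uMat r 0 2).val + 9 * (uMat r 0 3).val + 27 * (uMat r 1 2).val +
        81 * (uMat r 1 3).val + 243 * (uMat r 2 3).val = r := by decide +kernel
    have h1 := e p
    rw [h, e q] at h1
    exact Fin.ext h1.symm
  have hd := fun p : Fin 729 => det_uMat p
  have hu : ∀ (p : ℕ) (i j : Fin 4), j ≤ i → uMat p i j = if i = j then 1 else 0 := fun p i j hij => by
    fin_cases i <;> fin_cases j <;> first | rfl | exact absurd hij (by decide)
  have hm : ∀ p : Fin 729, (uMat p).det = 1 ∧ (∀ i, uMat p i 0 = if i = 0 then 1 else 0) ∧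
      ∀ i j : Fin 4, j ≤ i → uMat p i j = if i = j then 1 else 0 :=
    fun p => ⟨hd p, fun i => hu p i 0 (Fin.zero_le i), hu p⟩
  rw [← Nat.card_congr (Equiv.ofBijective (fun p : Fin 729 => (⟨⟨⟨uMat p, (hm p).1⟩, (hm p).2.1⟩, (hm p).2.2⟩ : U4))
    ⟨fun p q h => hinj p q (congrArg (fun M : U4 => M.1.1.1) h), fun M => ?_⟩), Nat.card_eq_fintype_card,
    Fintype.card_fin]
  obtain ⟨p, hp⟩ := uMat_surj M.2
  exact ⟨p, Subtype.ext (Stab_ext hp)⟩

/-- Every element of order three is conjugate to a representative. -/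
theorem exists_class {M : Stab} (h3 : M ^ 3 = 1) (h1 : M ≠ 1) : ∃ (k : Fin 6) (g : Stab), g * rep k * g⁻¹ = M := by
  haveI : Fact (Nat.Prime 3) := ⟨Nat.prime_three⟩
  have hU3 : IsPGroup 3 U4 := IsPGroup.of_card (n := 6) (by rw [card_U4]; norm_num)
  let S : Sylow 3 Stab := hU3.toSylow (by
    have := U4.card_mul_index
    rw [card_U4, card_Stab] at this
    rw [show U4.index = 208 by omega]
    norm_num)
  obtain ⟨T, hT⟩ := (IsPGroup.of_card (p := 3) (n := 1) (G := zpowers M)
    (by rw [pow_one, Nat.card_zpowers, orderOf_eq_prime h3 h1])).exists_le_sylow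
  obtain ⟨c, hc⟩ := MulAction.exists_smul_eq Stab T S
  have hmem : c * M * c⁻¹ ∈ U4 := by
    have : c * M * c⁻¹ ∈ (S : Subgroup Stab) := by
      rw [← hc, Sylow.coe_subgroup_smul]
      exact Subgroup.smul_mem_pointwise_smul _ (MulAut.conj c) _ (hT (mem_zpowers M))
    exact this
  obtain ⟨p, hp⟩ := uMat_surj hmem
  have hcube : (c * M * c⁻¹) ^ 3 = 1 := by rw [conj_pow, h3, mul_one, mul_inv_cancel]
  have e1 : uMat p * uMat p * uMat p = 1 := by
    rw [hp, ← Stab_mul_val, ← Stab_mul_val, ← Stab_one_val, mul_assoc, ← pow_three, hcube]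
  have e2 : uMat p ≠ 1 := fun h => by
    have he : c * M * c⁻¹ = 1 := Stab_ext (by rw [← hp, Stab_one_val]; exact h)
    exact h1 (conj_eq_one_iff.1 he)
  obtain ⟨-, hdet, heq⟩ := class_data p e1 e2
  set n := (classData.getD p 0 - 1) / 6
  have h0 : ∀ i, codeMat n i 0 = if i = 0 then 1 else 0 := fun i => by fin_cases i <;> rfl
  refine ⟨⟨(classData.getD p 0 - 1) % 6, Nat.mod_lt _ (by norm_num)⟩, c⁻¹ * ⟨⟨codeMat n, hdet⟩, h0⟩, ?_⟩
  set g : Stab := ⟨⟨codeMat n, hdet⟩, h0⟩
  set k : Fin 6 := ⟨(classData.getD p 0 - 1) % 6, Nat.mod_lt _ (by norm_num)⟩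
  have hg : g * rep k = (c * M * c⁻¹) * g := by
    apply Stab_ext
    rw [Stab_mul_val, Stab_mul_val, ← hp]
    exact heq
  rw [show ∀ R : Stab, c⁻¹ * g * R * (c⁻¹ * g)⁻¹ = c⁻¹ * (g * R) * g⁻¹ * c from fun R => by group, hg]
  group

end Cfsg.Agent.Spor.L43Three
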