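import Mathlib

/-!
A subgroup containing an involution and controlling its fusion is the whole group if the intersections with its
conjugates are small.
-/

set_option autoImplicit false

namespace Cfsg.Agent.Spor.L43Three

open Subgroup

universe u

variable {G : Type u} [Group G] [Finite G]

/-- The count of conjugates of an involution in the cosets of `N`. -/
theorem eq_top_of_count (N : Subgroup G) (t : G) (ht : t ∈ N) (ht2 : t * t = 1)
    (hfus : ∀ g : G, g * t * g⁻¹ ∈ N → g ∈ N) (B : ℕ) (hB : B * Nat.card (centralizer ({t} : Set G)) < Nat.card N)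
    (hD : ∀ j : G, IsConj t j → j ∉ N → Nat.card (N ⊓ N.map (MulAut.conj j).toMonoidHom : Subgroup G) ≤ B) :
    N = ⊤ := by
  classical
  set C := centralizer ({t} : Set G)
  have hCN : C ≤ N := fun c hc => hfus c (by
    rw [mem_centralizer_singleton_iff.1 hc, mul_inv_cancel_right]; exact ht)
  haveI := Fintype.ofFinite (G ⧸ C)
  haveI := Fintype.ofFinite (G ⧸ N)
  -- the conjugate of a coset of the centraliser
  let J : G ⧸ C → G := fun q => q.out * t * q.out⁻¹
  have hJmk : ∀ g : G, J (g : G ⧸ C) = g * t * g⁻¹ := by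
    intro g
    obtain ⟨⟨c, hc⟩, hgc⟩ := QuotientGroup.mk_out_eq_mul C g
    show (g : G ⧸ C).out * t * (g : G ⧸ C).out⁻¹ = _
    rw [hgc]
    show g * c * t * (g * c)⁻¹ = _
    rw [mul_assoc g c t, mem_centralizer_singleton_iff.1 hc]; group
  have hJinj : Function.Injective J := by
    intro a b h
    obtain ⟨x, rfl⟩ := QuotientGroup.mk_surjective a
    obtain ⟨y, rfl⟩ := QuotientGroup.mk_surjective b
    rw [hJmk, hJmk] at h
    rw [QuotientGroup.eq]
    refine mem_centralizer_singleton_iff.2 ?_
    calc x⁻¹ * y * t = x⁻¹ * (y * t * y⁻¹) * y := by group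
      _ = t * (x⁻¹ * y) := by rw [← h]; group
  have hJsq : ∀ a, J a * J a = 1 := fun a => by
    show _ = (1 : G)
    calc J a * J a = a.out * (t * t) * a.out⁻¹ := by simp only [J]; group
      _ = 1 := by rw [ht2, mul_one, mul_inv_cancel]
  have hJout : ∀ a, IsConj t (J a) := fun a => isConj_iff.2 ⟨_, rfl⟩
  set F : G ⧸ C → G ⧸ N := fun a => (J a : G ⧸ N)
  set n1 := Nat.card (↥N ⧸ C.subgroupOf N)
  have hn1 : Nat.card N = n1 * Nat.card C := by
    rw [card_eq_card_quotient_mul_card_subgroup (C.subgroupOf N), Nat.card_congr (subgroupOfEquivOfLe hCN).toEquiv]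
  have hbase : (Finset.univ.filter fun a => F a = ((1 : G) : G ⧸ N)).card ≤ n1 := by
    rw [← Nat.card_eq_finsetCard]
    have hm : ∀ a : {a // a ∈ Finset.univ.filter fun a => F a = ((1 : G) : G ⧸ N)}, a.1.out ∈ N := fun a => by
      have := (Finset.mem_filter.1 a.2).2
      simp only [F] at this
      rw [QuotientGroup.eq, mul_one, inv_mem_iff] at this
      exact hfus _ this
    refine Nat.card_le_card_of_injective (fun a => ((⟨a.1.out, hm a⟩ : N) : ↥N ⧸ C.subgroupOf N)) fun a b h => ?_
    rw [QuotientGroup.eq, mem_subgroupOf] at h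
    refine Subtype.ext ?_
    rw [← QuotientGroup.out_eq' a.1, ← QuotientGroup.out_eq' b.1]
    exact QuotientGroup.eq.2 h
  have hfib : ∀ y : G ⧸ N, y ≠ ((1 : G) : G ⧸ N) → (Finset.univ.filter fun a => F a = y).card ≤ B := by
    intro y hy
    rcases (Finset.univ.filter fun a => F a = y).eq_empty_or_nonempty with he | ⟨a0, ha0⟩
    · rw [he]; simp
    have hj : J a0 ∉ N := fun h => hy (by
      rw [← (Finset.mem_filter.1 ha0).2]
      exact QuotientGroup.eq.2 (by rw [mul_one]; exact inv_mem h))
    refine le_trans ?_ (hD (J a0) (hJout a0) hj)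
    rw [← Nat.card_eq_finsetCard]
    have hm : ∀ a : {a // a ∈ Finset.univ.filter fun a => F a = y},
        J a0 * J a.1 ∈ N ⊓ N.map (MulAut.conj (J a0)).toMonoidHom := fun a => by
      have h := QuotientGroup.eq.1 ((Finset.mem_filter.1 a.2).2.trans (Finset.mem_filter.1 ha0).2.symm)
      rw [inv_eq_of_mul_eq_one_right (hJsq a.1)] at h
      have h' : J a0 * J a.1 ∈ N := by
        have := inv_mem h
        rwa [_root_.mul_inv_rev, inv_eq_of_mul_eq_one_right (hJsq a.1), inv_eq_of_mul_eq_one_right (hJsq a0)] at this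
      refine ⟨h', J a.1 * J a0, h, ?_⟩
      show J a0 * (J a.1 * J a0) * (J a0)⁻¹ = _
      group
    refine Nat.card_le_card_of_injective (fun a => (⟨J a0 * J a.1, hm a⟩ :
      (N ⊓ N.map (MulAut.conj (J a0)).toMonoidHom : Subgroup G))) fun a b h => Subtype.ext (hJinj ?_)
    exact mul_left_cancel (congrArg Subtype.val h)
  have hB' : B < n1 := by
    rw [hn1] at hB
    exact lt_of_mul_lt_mul_right hB (Nat.zero_le _)
  have hsum : Fintype.card (G ⧸ C) ≤ n1 + (Fintype.card (G ⧸ N) - 1) * B := by
    rw [← Finset.card_univ, Finset.card_eq_sum_card_fiberwise (f := F) (t := Finset.univ) (fun a _ => Finset.mem_univ _),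
      ← Finset.add_sum_erase _ _ (Finset.mem_univ ((1 : G) : G ⧸ N))]
    refine Nat.add_le_add hbase ((Finset.sum_le_card_nsmul _ _ B fun y hy => hfib y (Finset.ne_of_mem_erase hy)).trans ?_)
    rw [Finset.card_erase_of_mem (Finset.mem_univ _), Finset.card_univ, smul_eq_mul]
  have hCcard : Fintype.card (G ⧸ C) = Fintype.card (G ⧸ N) * n1 := by
    have e1 := card_eq_card_quotient_mul_card_subgroup C
    rw [card_eq_card_quotient_mul_card_subgroup N, hn1, ← mul_assoc] at e1
    rw [← Nat.card_eq_fintype_card, ← Nat.card_eq_fintype_card]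
    exact (Nat.eq_of_mul_eq_mul_right Nat.card_pos e1).symm
  rw [← index_eq_one, index, Nat.card_eq_fintype_card]
  have hpos : 0 < Fintype.card (G ⧸ N) := Fintype.card_pos
  by_contra hne
  obtain ⟨k, hk⟩ : ∃ k, Fintype.card (G ⧸ N) = k + 1 := ⟨_, (Nat.succ_pred_eq_of_pos hpos).symm⟩
  rw [hCcard, hk, add_tsub_cancel_right, add_mul, one_mul] at hsum
  have : k ≠ 0 := by omega
  have := Nat.mul_lt_mul_of_pos_left hB' (Nat.pos_of_ne_zero this)
  omega

end Cfsg.Agent.Spor.L43Three
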