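import Cfsg.Agent.Lib.Spor.L43Three.Classes
import Cfsg.Agent.Lib.Spor.L43Three.Emb

/-!
The involutions of the point stabiliser.
-/

set_option autoImplicit false
set_option linter.unusedSectionVars false
set_option maxRecDepth 10000

namespace Cfsg.Agent.Spor.L43Three

open Subgroup Matrix

/-- An involution. -/
def tI : Stab := mk4 !![1, 0, 0, 0; 0, 2, 0, 0; 0, 0, 2, 0; 0, 0, 0, 1]

theorem tI_sq : tI * tI = 1 := Stab_ext (by decide +kernel)

theorem tI_ne : tI ≠ 1 := fun h => absurd (congrArg (fun M : Stab => M.1.1) h) (by decide +kernel)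

/-- The centraliser of the involution, by coordinates. -/
def ctM (p : Fin 6 → ZMod 3) : M4 := !![1, 0, 0, p 0; 0, p 1, p 2, 0; 0, p 3, p 4, 0; 0, 0, 0, p 5]

theorem ct_shape {M : Stab} (h : Commute M tI) : ∃ p, ctM p = M.1.1 ∧ det3 (ctM p) = 1 := by
  have m := congrArg (fun B : Stab => B.1.1) h.eq
  simp only [Stab_mul_val, show tI.1.1 = Matrix.diagonal ![1, 2, 2, 1] by decide +kernel] at m
  have k : ∀ i j, M.1.1 i j * ![1, 2, 2, 1] j = (![1, 2, 2, 1] : Fin 4 → ZMod 3) i * M.1.1 i j := fun i j => by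
    have := congrFun (congrFun m i) j
    rwa [Matrix.mul_diagonal, Matrix.diagonal_mul] at this
  have k01 : M.1.1 0 1 = 0 := by have := k 0 1; simp at this; linear_combination this
  have k02 : M.1.1 0 2 = 0 := by have := k 0 2; simp at this; linear_combination this
  have k13 : M.1.1 1 3 = 0 := by have := k 1 3; simp at this; linear_combination -this
  have k23 : M.1.1 2 3 = 0 := by have := k 2 3; simp at this; linear_combination -this
  have k31 : M.1.1 3 1 = 0 := by have := k 3 1; simp at this; linear_combination this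
  have k32 : M.1.1 3 2 = 0 := by have := k 3 2; simp at this; linear_combination this
  have a0 := M.2 0
  have a1 := M.2 1
  have a2 := M.2 2
  have a3 := M.2 3
  simp at a0 a1 a2 a3
  refine ⟨![M.1.1 0 3, M.1.1 1 1, M.1.1 1 2, M.1.1 2 1, M.1.1 2 2, M.1.1 3 3], ?_, ?_⟩
  · ext i j
    fin_cases i <;> fin_cases j <;> simp [ctM, k01, k02, k13, k23, k31, k32, a0, a1, a2, a3]
  · have hd := M.1.2
    rw [Stab_eq_aff M, det_eq_det3] at hd
    simp [det3, aff, lowBlock] at hd
    simp [det3, ctM]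
    simp [k13, k23, k31, k32] at hd
    exact hd

theorem card_cent_tI : Nat.card (centralizer ({tI} : Set Stab)) ≤ 729 := by
  have hsh := fun M : centralizer ({tI} : Set Stab) => ct_shape (M := M.1) (mem_centralizer_singleton_iff.1 M.2)
  choose p hp _ using hsh
  refine (Nat.card_le_card_of_injective p fun M N h => Subtype.ext (Stab_ext ?_)).trans ?_
  · rw [← hp M, h, hp N]
  · rw [Nat.card_fun, Nat.card_zmod, Nat.card_eq_fintype_card, Fintype.card_fin]; norm_num

/-- Codes of conjugators. -/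
def tConj : List ℕ := [38529, 114804, 41796, 55647, 49086, 23193, 101007, 124686, 179361, 75195, 147474, 72441, 164295, 38530, 32023, 22357, 28918, 35479, 23194, 22519, 72201, 75198, 73659, 72444, 72687, 50626, 32024, 41797, 55648, 49087, 41878, 22520, 124689, 125418, 49060, 125256, 124932]

theorem tConj_check : ∀ p : Fin 6 → ZMod 3, det3 (ctM p) = 1 →
    eq4 (mul4 (ctM p) (ctM p)) 1 = true → eq4 (ctM p) 1 = false →
    tConj.any (fun n => det3 (codeMat n) == 1 && eq4 (mul4 (codeMat n) tI.1.1) (mul4 (ctM p) (codeMat n))) = true := by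
  decide +kernel

theorem conj_tI_of_comm {M : Stab} (hc : Commute M tI) (h2 : M * M = 1) (h1 : M ≠ 1) : IsConj tI M := by
  obtain ⟨p, hp, hd⟩ := ct_shape hc
  have hsq : eq4 (mul4 (ctM p) (ctM p)) 1 = true := by
    rw [eq4_iff, mul4_eq, hp, ← Stab_mul_val, h2, Stab_one_val]
  have hne : eq4 (ctM p) 1 = false := by
    rw [Bool.eq_false_iff, Ne, eq4_iff, hp]
    exact fun e => h1 (Stab_ext (e.trans Stab_one_val.symm))
  obtain ⟨n, -, hn⟩ := List.any_eq_true.1 (tConj_check p hd hsq hne)
  simp only [Bool.and_eq_true, beq_iff_eq, eq4_iff, mul4_eq] at hn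
  have hdet : (codeMat n).det = 1 := by rw [codeMat, det_eq_det3]; exact hn.1
  have h0 : ∀ i, codeMat n i 0 = if i = 0 then 1 else 0 := fun i => by fin_cases i <;> rfl
  refine isConj_iff.2 ⟨mk4 (codeMat n) hdet h0, mul_inv_eq_iff_eq_mul.2 (Stab_ext ?_)⟩
  rw [Stab_mul_val, Stab_mul_val, ← hp]
  exact hn.2

/-- The involutions form one class. -/
theorem conj_tI {M : Stab} (h2 : M * M = 1) (h1 : M ≠ 1) : IsConj tI M := by
  set w := M * tI with hw
  rcases Nat.even_or_odd (orderOf w) with ⟨k, hk⟩ | ⟨k, hk⟩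
  · have hk0 : 0 < k := by have := orderOf_pos w; omega
    set i := w ^ k
    have hi1 : i ≠ 1 := pow_ne_one_of_lt_orderOf hk0.ne' (by omega)
    have hi2 : i * i = 1 := by rw [← pow_add, ← hk, pow_orderOf_eq_one]
    have hwi : w⁻¹ = tI * M := by
      rw [hw, _root_.mul_inv_rev, inv_eq_of_mul_eq_one_right h2, inv_eq_of_mul_eq_one_right tI_sq]
    have hinv : i⁻¹ = i := inv_eq_of_mul_eq_one_right hi2
    have hct : Commute i tI := by
      have e : tI * w * tI⁻¹ = w⁻¹ := by rw [hwi, hw]; group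
      have e2 : tI * i * tI⁻¹ = i := by rw [← conj_pow, e, inv_pow, hinv]
      show _ = _
      calc i * tI = tI * i * tI⁻¹ * tI := by rw [e2]
        _ = tI * i := by group
    have hcM : Commute i M := by
      have h : Commute i w := Commute.pow_self w k
      have e : M = w * tI := by rw [hw, mul_assoc, tI_sq, mul_one]
      rw [e]; exact h.mul_right hct
    obtain ⟨c, hc⟩ := isConj_iff.1 (conj_tI_of_comm hct hi2 hi1)
    have hM' : Commute (c⁻¹ * M * c) tI := by
      show _ = _
      calc c⁻¹ * M * c * tI = c⁻¹ * (M * (c * tI * c⁻¹)) * c := by group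
        _ = c⁻¹ * (c * tI * c⁻¹ * M) * c := by rw [hc, hcM.eq]
        _ = tI * (c⁻¹ * M * c) := by group
    refine (conj_tI_of_comm hM' ?_ ?_).trans (isConj_iff.2 ⟨c, by group⟩)
    · calc c⁻¹ * M * c * (c⁻¹ * M * c) = c⁻¹ * (M * M) * c := by group
        _ = 1 := by rw [h2]; group
    · intro e
      exact h1 (by
        calc M = c * (c⁻¹ * M * c) * c⁻¹ := by group
          _ = 1 := by rw [e]; group)
  · refine IsConj.symm (isConj_iff.2 ⟨w ^ k, ?_⟩)
    have e : M * w * M⁻¹ = w⁻¹ := by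
      rw [hw, _root_.mul_inv_rev, inv_eq_of_mul_eq_one_right h2, inv_eq_of_mul_eq_one_right tI_sq, ← mul_assoc, h2,
        one_mul]
    have e2 : M * (w ^ k)⁻¹ = w ^ k * M := by
      have h3 : M * w ^ k * M⁻¹ = (w ^ k)⁻¹ := by rw [← conj_pow, e, inv_pow]
      rw [← h3]
      rw [inv_eq_of_mul_eq_one_right h2, ← mul_assoc, ← mul_assoc, h2, one_mul]
    have h5 : w * (w ^ k * w ^ k) = 1 := by
      rw [← pow_add, ← pow_succ', show k + k + 1 = orderOf w by omega, pow_orderOf_eq_one]
    have h6 : w ^ k * w ^ k = tI * M := by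
      rw [eq_inv_of_mul_eq_one_right h5, hw, _root_.mul_inv_rev, inv_eq_of_mul_eq_one_right h2,
        inv_eq_of_mul_eq_one_right tI_sq]
    rw [mul_assoc, e2, ← mul_assoc, h6, mul_assoc, h2, mul_one]

end Cfsg.Agent.Spor.L43Three
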