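import Mathlib
import Cfsg.Agent.Lib.Spor.L43Three.CentThree
import Cfsg.Agent.Lib.Spor.L43Three.ClassCheck

/-!
Finite facts about the conjugates in the extraspecial group and the centraliser of the regular element.
-/

set_option autoImplicit false
set_option linter.unusedSectionVars false

namespace Cfsg.Agent.Spor.L43Three

open Subgroup Matrix

/-- The elements of the extraspecial group. -/
def qE (v : Fin 3 → ZMod 3) (a b : ZMod 3) : Stab := el v (cA a b)

/-- Three elements of the centraliser of `zS` outside the extraspecial group. -/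
def movers : Fin 4 → M3 := ![!![0, 1, 0; 2, 0, 0; 0, 0, 1], !![1, 1, 0; 0, 1, 0; 0, 0, 1], !![1, 0, 0; 1, 1, 0; 0, 0, 1],
  !![0, 1, 0; 2, 1, 0; 0, 0, 1]]

theorem movers_det : ∀ k, (movers k).det = 1 := by decide +kernel

/-- A mover. -/
def mover (k : Fin 4) : Stab := el 0 ⟨movers k, movers_det k⟩

theorem mover_comm : ∀ k, mover k * zS = zS * mover k := by decide +kernel

/-- Their inverses. -/
def moversI : Fin 4 → M3 := ![!![0, 2, 0; 1, 0, 0; 0, 0, 1], !![1, 2, 0; 0, 1, 0; 0, 0, 1], !![1, 0, 0; 2, 1, 0; 0, 0, 1],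
  !![1, 2, 0; 1, 0, 0; 0, 0, 1]]

theorem moversI_det : ∀ k, (moversI k).det = 1 := by decide +kernel

/-- The inverse of a mover. -/
def moverI (k : Fin 4) : Stab := el 0 ⟨moversI k, moversI_det k⟩

theorem mover_inv : ∀ k, mover k * moverI k = 1 := by decide +kernel

theorem abelian_conjugates : ∀ (v : Fin 3 → ZMod 3) (a b : ZMod 3),
    (∀ k, qE v a b * (mover k * qE v a b * moverI k) = mover k * qE v a b * moverI k * qE v a b) →
    (v 0 = 0 ∧ v 1 = 0) ∨ (a = 0 ∧ b = 0) := by
  decide +kernel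

/-- A lower block sending the first column to a given one. -/
def toCol (a b : ZMod 3) : M3 := if a ≠ 0 then !![a, 0, 0; b, a⁻¹, 0; 0, 0, 1] else !![0, -b⁻¹, 0; b, 0, 0; 0, 0, 1]

theorem toCol_det : ∀ a b : ZMod 3, a ≠ 0 ∨ b ≠ 0 → (toCol a b).det = 1 := by decide +kernel

theorem second_plane : ∀ (k a b : ZMod 3), a ≠ 0 ∨ b ≠ 0 → ∃ x y : ZMod 3,
    aff ![x, y, 0] (toCol a b) * repM 1 = aff ![0, 0, k] !![1, 0, a; 0, 1, b; 0, 0, 1] * aff ![x, y, 0] (toCol a b) := by
  decide +kernel

/-- The conjugates in the second plane. -/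
theorem second_conj (k a b : ZMod 3) (h : a ≠ 0 ∨ b ≠ 0) : ∃ g : Stab, g * rep 1 * g⁻¹ = qE ![0, 0, k] a b := by
  obtain ⟨x, y, he⟩ := second_plane k a b h
  refine ⟨el ![x, y, 0] ⟨toCol a b, toCol_det a b h⟩, ?_⟩
  rw [mul_inv_eq_iff_eq_mul]
  exact Stab_ext he

/-- Whether the square of `A - 1` vanishes. -/
def sqz (M : Stab) : M3 := ((low M).1 - 1) * ((low M).1 - 1)

theorem low_el (v : Fin 3 → ZMod 3) (A : SL33) : low (el v A) = A := Subtype.ext (lowBlock_aff v A.1)

theorem low_mul (M N : Stab) : low (M * N) = low M * low N := by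
  obtain ⟨v, A, rfl⟩ := el_surj M
  obtain ⟨w, B, rfl⟩ := el_surj N
  rw [el_mul, low_el, low_el, low_el]

theorem sqz_conj {g M N : Stab} (h : g * M * g⁻¹ = N) : sqz M = 0 ↔ sqz N = 0 := by
  have h' : g * M = N * g := by rw [← h]; group
  have hl : (low g).1 * (low M).1 = (low N).1 * (low g).1 := by
    have := congrArg (fun X => (low X).1) h'
    simpa [low_mul] using this
  have hd : (low g).1 * ((low M).1 - 1) = ((low N).1 - 1) * (low g).1 := by
    rw [mul_sub, sub_mul, hl, mul_one, one_mul]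
  have hs : (low g).1 * sqz M = sqz N * (low g).1 := by
    rw [sqz, sqz, ← mul_assoc, hd, mul_assoc, hd, ← mul_assoc]
  have hu : IsUnit (low g).1 := (Matrix.isUnit_iff_isUnit_det _).2 (by rw [(low g).2]; exact isUnit_one)
  constructor
  · intro e
    rw [e, mul_zero] at hs
    exact hu.mul_left_eq_zero.1 hs.symm
  · intro e
    rw [e, zero_mul] at hs
    exact hu.mul_right_eq_zero.1 hs

theorem sqz_rep : ∀ k : Fin 6, sqz (rep k) = 0 ↔ k ≠ 5 := by decide +kernel

/-- The centraliser of `zS` and the regular representative. -/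
def rE (k b c : ZMod 3) : Stab :=
  el ![0, 0, k] ⟨!![1, b, c; 0, 1, b; 0, 0, 1], by simp [Matrix.det_fin_three]⟩

theorem cube_field : ∀ x : ZMod 3, x * x * x = 1 → x = 1 := by decide

theorem cent_r_shape {M : Stab} (hz : Commute M zS) (hr : Commute M (rep 5)) : ∃ k b c, M = rE k b c := by
  obtain ⟨v, A, rfl⟩ := el_surj M
  have h1 := hz.eq
  have h2 := hr.eq
  have m1 := congrArg (fun B : Stab => B.1.1) h1
  have m2 := congrArg (fun B : Stab => B.1.1) h2
  simp only [Stab_mul_val, el_val, zS, vS, one_val, show (rep 5).1.1 = repM 5 from rfl] at m1 m2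
  have k1 : ∀ i j, (aff v A.1 * aff ![0, 0, 1] 1) i j = (aff ![0, 0, 1] 1 * aff v A.1) i j := fun i j => by rw [m1]
  have k2 : ∀ i j, (aff v A.1 * repM 5) i j = (repM 5 * aff v A.1) i j := fun i j => by rw [m2]
  have a20 := k1 0 1
  have a21 := k1 0 2
  have a22 := k1 0 3
  have b01 := k2 0 2
  have b02 := k2 0 3
  have b11 := k2 1 2
  have b12 := k2 1 3
  have b22 := k2 2 2
  have b23 := k2 2 3
  have b21 := k2 1 1
  simp [aff, repM, Matrix.mul_apply, Fin.sum_univ_four, -add_right_inj, -add_left_inj] at a20 a21 a22 b01 b02 b11 b12 b22 b23 b21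
  refine ⟨v 2, A.1 0 1, A.1 0 2, congrArg₂ el ?_ (Subtype.ext ?_)⟩
  · ext i; fin_cases i <;> simp [*]
  · have e22 : A.1 2 2 = 1 := by linear_combination -a22
    have e11 : A.1 1 1 = 1 := by linear_combination b23 + e22
    have e00 : A.1 0 0 = 1 := by linear_combination b11 + e11
    have e12 : A.1 1 2 = A.1 0 1 := by linear_combination -b12
    ext i j; fin_cases i <;> fin_cases j <;> simp [*]

theorem rE_regular : ∀ k b c : ZMod 3, b ≠ 0 → sqz (rE k b c) ≠ 0 := by decide +kernel

theorem rE_cube : ∀ k b c : ZMod 3, rE k b c * rE k b c * rE k b c = 1 := by decide +kernel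

end Cfsg.Agent.Spor.L43Three
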