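import Mathlib
import Cfsg.Agent.Lib.Spor.L43Three.Trans
import Cfsg.Agent.Lib.Spor.L43Three.Classes

/-!
The conjugates of `z` in the normaliser of `V`: those in `Q` lie in `V` or in the second plane, and if the second
plane has none then `V` contains all of them.
-/

set_option autoImplicit false
set_option linter.unusedSectionVars false
set_option maxRecDepth 10000

namespace Cfsg.Agent.Spor.L43Three

open Subgroup Matrix

universe u

/-- The identification of the normaliser of `V`. -/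
structure Loc {G : Type u} [Group G] (H : Hyp G) where
  ι : Stab →* G
  inj : Function.Injective ι
  z_eq : ι zS = H.z
  cz : ∀ g : G, Commute g H.z → g ∈ ι.range

namespace Hyp

variable {G : Type u} [Group G] [Finite G] (H : Hyp G)

theorem exists_loc : Nonempty (Loc H) := by
  obtain ⟨B⟩ := H.exists_vbase
  obtain ⟨ι, hinj, hrange, hv⟩ := B.exists_affine
  refine ⟨⟨ι, hinj, ?_, fun g hg => hrange ▸ B.C_le_N (H.mem_C.2 hg)⟩⟩
  rw [zS, vS, hv, show (![0, 0, 1] : Fin 3 → ZMod 3) = Pi.single 2 1 by decide, B.T.ev_single, B.e_two]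

theorem pair_abelian {g : G} (hp : H.Pair g) {a b : G} (ha : a ∈ H.V g) (hb : b ∈ H.V g) : Commute a b := by
  rw [H.V_eq hp, mem_inf] at ha hb
  have h := H.zy_trivial hp (H.Q_comm a ha.1 b hb.1) (H.Qg_comm ha.2 hb.2)
  exact mul_inv_eq_iff_eq_mul.1 (mul_inv_eq_one.1 h)

end Hyp

local instance instFintypeSL23Iso : Fintype SL23 := Subtype.fintype _
local instance instDecEqSL23Iso : DecidableEq SL23 := fun a b => decidable_of_iff (a.1 = b.1) Subtype.ext_iff.symm

/-- A normal three-subgroup of `SL(2, 3)` is trivial. -/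
theorem sl23_no_normal : ∀ σ : SL23, σ ^ 3 = 1 → σ ≠ 1 →
    ∃ τ : SL23, τ * σ * τ⁻¹ ≠ σ ∧ τ * σ * τ⁻¹ ≠ σ * σ ∧ τ * σ * τ⁻¹ ≠ 1 ∧
      ((σ * (τ * σ * τ⁻¹)) ^ 3 ≠ 1 ∨ (σ * (τ * σ * τ⁻¹) * (τ * σ * τ⁻¹)) ^ 3 ≠ 1) := by
  decide +kernel

theorem qE_mul (v w : Fin 3 → ZMod 3) (a b c d : ZMod 3) :
    qE v a b * qE w c d = qE (v ᵥ* (cA c d).1 + w) (a + c) (b + d) := by
  rw [qE, qE, el_mul, qE]
  congr 1
  refine Subtype.ext ?_
  show (cA a b).1 * (cA c d).1 = (cA (a + c) (b + d)).1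
  ext i j
  fin_cases i <;> fin_cases j <;> simp [cA, Matrix.mul_apply, Fin.sum_univ_three, add_comm]

theorem qE_facts : ∀ (v : Fin 3 → ZMod 3) (a b : ZMod 3),
    qE v a b * qE v a b * qE v a b = 1 ∧ qE v a b * zS = zS * qE v a b := facts_a

theorem rE_pow_three (k b c : ZMod 3) : rE k b c ^ 3 = 1 := by rw [pow_three, ← mul_assoc, rE_cube]

theorem qE_inj {v w : Fin 3 → ZMod 3} {a b c d : ZMod 3} (h : qE v a b = qE w c d) : v = w ∧ a = c ∧ b = d := by
  obtain ⟨h1, h2⟩ := el_inj h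
  have h3 : (cA a b).1 = (cA c d).1 := congrArg (fun A : SL33 => A.1) h2
  exact ⟨h1, congrFun (congrFun h3 0) 2, congrFun (congrFun h3 1) 2⟩

/-- The extraspecial subgroup of the stabiliser. -/
def Q0 : Subgroup Stab where
  carrier := {M | ∃ v a b, qE v a b = M}
  one_mem' := ⟨0, 0, 0, by decide⟩
  mul_mem' := by
    rintro _ _ ⟨v, a, b, rfl⟩ ⟨w, c, d, rfl⟩
    exact ⟨_, _, _, (qE_mul v w a b c d).symm⟩
  inv_mem' := by
    rintro _ ⟨v, a, b, rfl⟩
    refine ⟨v ᵥ* (cA a b).1 + v, a + a, b + b, ?_⟩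
    rw [← qE_mul, eq_comm, inv_eq_iff_mul_eq_one, ← mul_assoc]
    exact (qE_facts v a b).1

theorem card_Q0 : Nat.card Q0 = 243 := by
  rw [← Nat.card_congr (Equiv.ofBijective
    (fun x : (Fin 3 → ZMod 3) × ZMod 3 × ZMod 3 => (⟨qE x.1 x.2.1 x.2.2, _, _, _, rfl⟩ : Q0))
    ⟨fun x y h => by
      obtain ⟨h1, h2, h3⟩ := qE_inj (congrArg Subtype.val h)
      exact Prod.ext h1 (Prod.ext h2 h3),
    fun ⟨M, v, a, b, h⟩ => ⟨(v, a, b), Subtype.ext h⟩⟩)]
  rw [Nat.card_prod, Nat.card_prod, Nat.card_fun, Nat.card_zmod, Nat.card_eq_fintype_card (α := Fin 3),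
    Fintype.card_fin]
  norm_num

theorem Q0_norm {M : Stab} (hM : Commute M zS) {N : Stab} (hN : N ∈ Q0) : M * N * M⁻¹ ∈ Q0 := by
  obtain ⟨u, A, rfl⟩ := el_surj M
  obtain ⟨v, a, b, rfl⟩ := hN
  have hrow : ∀ j, A.1 2 j = if j = 2 then 1 else 0 := by
    intro j
    have h : el u A * el ![0, 0, 1] 1 = el ![0, 0, 1] 1 * el u A := hM.eq
    rw [el_mul, el_mul] at h
    have h' := congrFun (el_inj h).1 j
    simp [one_val, Matrix.vecMul, dotProduct, Fin.sum_univ_three] at h'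
    fin_cases j <;> simp_all <;> linear_combination -h'
  refine ⟨topRow (el u A * qE v a b * (el u A)⁻¹).1.1, lowBlock (el u A * qE v a b * (el u A)⁻¹).1.1 0 2,
    lowBlock (el u A * qE v a b * (el u A)⁻¹).1.1 1 2, ?_⟩
  set X := el u A * qE v a b * (el u A)⁻¹ with hX
  clear_value X
  conv_rhs => rw [← el_parts X]
  refine congrArg (el _) (Subtype.ext ?_)
  have hl : low X * A = A * cA a b := by
    have := congrArg low (show X * el u A = el u A * qE v a b by rw [hX, inv_mul_cancel_right])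
    rwa [low_mul, low_mul, low_el, qE, low_el] at this
  have hl' : (low X).1 * A.1 = A.1 * (cA a b).1 := congrArg (fun B : SL33 => B.1) hl
  have hu : IsUnit A.1 := (Matrix.isUnit_iff_isUnit_det _).2 (by rw [A.2]; exact isUnit_one)
  -- the translations are normalised by the row stabiliser
  set p := A.1 0 0 * a + A.1 0 1 * b
  set q := A.1 1 0 * a + A.1 1 1 * b
  have hA : A.1 * (cA a b).1 = (cA p q).1 * A.1 := by
    ext i j
    fin_cases i <;> fin_cases j <;>
      simp [p, q, cA, Matrix.mul_apply, Fin.sum_univ_three, hrow] <;> ring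
  have hlow : (low X).1 = (cA p q).1 := hu.mul_right_cancel (hl'.trans hA)
  rw [show lowBlock X.1.1 = (low X).1 from rfl, hlow]
  rfl

namespace Loc

variable {G : Type u} [Group G] [Finite G] {H : Hyp G} (L : Loc H)

theorem ι_conj {M N : Stab} (h : IsConj M N) : IsConj (L.ι M) (L.ι N) := L.ι.map_isConj h

theorem comm_z {M : Stab} : Commute (L.ι M) H.z ↔ Commute M zS := by
  rw [← L.z_eq]
  exact ⟨fun h => L.inj (by rw [map_mul, map_mul]; exact h.eq), fun h => h.map L.ι⟩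

theorem Q_eq : H.Q = Q0.map L.ι := by
  have hle : Q0.map L.ι ≤ H.Q := by
    rintro _ ⟨M, hM, rfl⟩
    obtain ⟨v, a, b, rfl⟩ := hM
    have hcz : ∀ v a b, Commute (qE v a b) zS := fun v a b => (qE_facts v a b).2
    obtain ⟨σ, hσ⟩ := H.exists_img (L.comm_z.2 (hcz v a b))
    have h3 : ∀ w c d, L.ι (qE w c d) ^ 3 = 1 := fun w c d => by
      rw [← map_pow, pow_three, ← mul_assoc, (qE_facts w c d).1, map_one]
    by_contra hne
    have hσ1 : σ ≠ 1 := fun e => hne (e ▸ hσ).mem_Q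
    have hσ3 : σ ^ 3 = 1 := H.img_cube hσ (h3 v a b)
    obtain ⟨τ, h1, h2, -, h4⟩ := sl23_no_normal σ hσ3 hσ1
    obtain ⟨c, hc⟩ := H.exists_lift τ
    obtain ⟨C, hC⟩ := L.cz c hc.comm
    subst hC
    obtain ⟨w, c', d', hw⟩ := Q0_norm (L.comm_z.1 hc.comm) (N := qE v a b) ⟨v, a, b, rfl⟩
    have himg : H.Img (L.ι (qE w c' d')) (τ * σ * τ⁻¹) := by
      rw [hw, map_mul, map_mul, map_inv]; exact hσ.conj hc
    rcases h4 with h | h <;> apply h
    · refine H.img_cube (hσ.mul himg) ?_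
      rw [← map_mul, qE_mul]; exact h3 _ _ _
    · refine H.img_cube ((hσ.mul himg).mul himg) ?_
      rw [← map_mul, ← map_mul, qE_mul, qE_mul]; exact h3 _ _ _
  refine (eq_of_le_of_card_ge hle ?_).symm
  rw [H.Q_card, card_map_of_injective L.inj, card_Q0]

/-- The conjugates of `z` in `Q`. -/
theorem conj_Q {q : G} (hq : q ∈ H.Q) (hc : IsConj H.z q) :
    ∃ v a b, L.ι (qE v a b) = q ∧ ((v 0 = 0 ∧ v 1 = 0) ∨ (a = 0 ∧ b = 0)) := by
  obtain ⟨M, ⟨v, a, b, rfl⟩, rfl⟩ := L.Q_eq ▸ hq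
  refine ⟨v, a, b, rfl, ?_⟩
  obtain ⟨g, hg⟩ := isConj_iff.1 hc
  by_cases hZ : H.y g ∈ zpowers H.z
  · obtain ⟨i, hi⟩ := mem_zpowers_iff.1 hZ
    right
    have hmem : qE v a b = zS ^ i := L.inj (by rw [map_zpow, L.z_eq, hi]; exact hg.symm)
    have hz : ∀ k : ZMod 3, zS ^ k.val = qE ![0, 0, k] 0 0 := by decide +kernel
    have hzi : zS ^ i = zS ^ ((i : ZMod 3)).val := by
      rw [← zpow_natCast, ZMod.val_intCast]
      exact zpow_eq_zpow_emod' i (vS_cube _)
    rw [hzi, hz] at hmem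
    exact (qE_inj hmem).2
  have hp : H.Pair g := ⟨by rw [Hyp.y, hg]; exact hq, hZ⟩
  refine abelian_conjugates v a b fun k => L.inj ?_
  have hk : Commute (L.ι (mover k)) H.z := L.comm_z.2 (mover_comm k)
  have hinv : moverI k = (mover k)⁻¹ := eq_inv_of_mul_eq_one_right (mover_inv k)
  rw [map_mul, map_mul L.ι (mover k * qE v a b * moverI k) (qE v a b), hinv, map_mul, map_mul, map_inv]
  have hy : H.y g = L.ι (qE v a b) := hg
  refine (H.pair_abelian hp ?_ ?_).eq
  · exact subset_closure (Or.inr ⟨1, Commute.one_left _, by rw [hy]; group⟩)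
  · exact subset_closure (Or.inr ⟨_, hk, by rw [hy]⟩)

theorem conj_rep_u {v : Fin 3 → ZMod 3} {a b : ZMod 3} (hv : v 0 = 0 ∧ v 1 = 0) (hab : a ≠ 0 ∨ b ≠ 0) :
    IsConj (rep 1) (qE v a b) := by
  obtain ⟨g, hg⟩ := second_conj (v 2) a b hab
  refine isConj_iff.2 ⟨g, hg.trans ?_⟩
  congr 1
  funext i; fin_cases i <;> simp [hv]

/-- The middle classes contain no conjugate of `z`. -/
theorem not_conj_mid (k : Fin 6) (hk : k = 2 ∨ k = 3 ∨ k = 4) : ¬ IsConj H.z (L.ι (rep k)) := by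
  intro hc
  have hQ : ∀ k : Fin 6, k = 2 ∨ k = 3 ∨ k = 4 →
      ∃ v a b, qE v a b = rep k ∧ ¬ (v 0 = 0 ∧ v 1 = 0) ∧ ¬ (a = 0 ∧ b = 0) := by
    rintro k (rfl | rfl | rfl)
    · exact ⟨![0, 1, 0], 1, 0, by decide +kernel, by decide, by decide⟩
    · exact ⟨![0, 1, 0], 2, 0, by decide +kernel, by decide, by decide⟩
    · exact ⟨![1, 0, 0], 1, 0, by decide +kernel, by decide, by decide⟩
  obtain ⟨v, a, b, he, hnv, hnab⟩ := hQ k hk
  obtain ⟨w, c, d, hw, h⟩ := L.conj_Q (L.Q_eq ▸ mem_map_of_mem L.ι ⟨v, a, b, he⟩) hc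
  have := L.inj (hw.trans (congrArg L.ι he.symm))
  obtain ⟨rfl, rfl, rfl⟩ := qE_inj this
  exact h.elim hnv hnab

/-- Without conjugates in the second plane the regular class has none either. -/
theorem not_conj_reg (hu : ¬ IsConj H.z (L.ι (rep 1))) : ¬ IsConj H.z (L.ι (rep 5)) := by
  classical
  intro hc
  obtain ⟨g, hg⟩ := isConj_iff.1 hc
  set r := L.ι (rep 5)
  set z' := g⁻¹ * H.z * g with hz'
  have hzr : Commute (rep 5) zS := Stab_ext (by decide +kernel)
  have hz'z : Commute z' H.z := by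
    have h : r * H.z = H.z * r := (L.comm_z.2 hzr).eq
    show _ = _
    calc z' * H.z = g⁻¹ * (H.z * (g * H.z * g⁻¹)) * g := by rw [hz']; group
      _ = _ := by rw [hg, ← h, ← hg, hz']; group
  obtain ⟨M, hM⟩ := L.cz z' hz'z
  have hMz : Commute M zS := L.comm_z.1 (hM ▸ hz'z)
  have hM3 : M ^ 3 = 1 := L.inj (by
    have hcp := conj_pow (i := 3) (a := g⁻¹) (b := H.z)
    rw [inv_inv] at hcp
    rw [map_pow, hM, map_one, hz', hcp, H.z_cube, mul_one, inv_mul_cancel])
  have hM1 : M ≠ 1 := fun e => H.z_ne (by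
    rw [e, map_one] at hM
    calc H.z = g * z' * g⁻¹ := by rw [hz']; group
      _ = 1 := by rw [← hM]; group)
  obtain ⟨k, h, hkM⟩ := exists_class hM3 hM1
  have hzM : IsConj H.z (L.ι (rep k)) := by
    refine IsConj.trans ?_ (L.ι_conj (isConj_iff.2 ⟨h, hkM⟩ : IsConj (rep k) M)).symm
    rw [hM]; exact isConj_iff.2 ⟨g⁻¹, by rw [inv_inv]⟩
  -- elements of `C(z) ∩ C(r)` not conjugate to `z`
  let Bad : G → G → Set G := fun a b => {e | Commute e a ∧ Commute e b ∧ e ≠ 1 ∧ e ^ 3 = 1 ∧ ¬ IsConj H.z e}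
  have hshape : ∀ e, Commute e H.z → Commute e r → ∃ x b c, L.ι (rE x b c) = e := fun e h1 h2 => by
    obtain ⟨E, hE⟩ := L.cz e h1
    subst hE
    obtain ⟨x, b, c, rfl⟩ := cent_r_shape (L.comm_z.1 h1) (L.inj (by rw [map_mul, map_mul]; exact h2.eq))
    exact ⟨x, b, c, rfl⟩
  by_cases hk5 : k = 5
  · subst hk5
    -- `z` is generated by the bad elements of `(z, M)`
    have hT : ∀ x : ZMod 3, rE x 0 1 = qE ![0, 0, x] 1 0 := by decide +kernel
    have hbad : ∀ x : ZMod 3, ¬ IsConj H.z (L.ι (rE x 0 1)) := fun x hx => hu (hx.trans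
      (L.ι_conj (hT x ▸ conj_rep_u ⟨rfl, rfl⟩ (Or.inl one_ne_zero))).symm)
    have hcr : ∀ x : ZMod 3, rE x 0 1 * rep 5 = rep 5 * rE x 0 1 ∧ rE x 0 1 * zS = zS * rE x 0 1 ∧ rE x 0 1 ≠ 1 := by
      decide +kernel
    have hzgen : (rE 0 0 1)⁻¹ * rE 1 0 1 = zS := by
      rw [inv_mul_eq_iff_eq_mul]
      exact Stab_ext (by decide +kernel)
    have hzh : h⁻¹ * zS * h ∈ zpowers zS := by
      have h1 : Commute (h⁻¹ * zS * h) (rep 5) := by
        have := hMz.eq
        rw [← hkM] at this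
        show _ = _
        calc h⁻¹ * zS * h * rep 5 = h⁻¹ * (zS * (h * rep 5 * h⁻¹)) * h := by group
          _ = _ := by rw [← this]; group
      obtain ⟨v, hv⟩ : ∃ v, h⁻¹ * zS * h = vS v := ⟨_, vS_conj _ h⟩
      rw [hv] at h1 ⊢
      obtain ⟨x, b, c, hx⟩ := cent_r_shape (vS_comm v _) h1
      obtain ⟨e1, e2⟩ := el_inj hx
      rw [e1]
      have : ∀ x : ZMod 3, vS ![0, 0, x] = zS ^ x.val := by decide +kernel
      rw [this]; exact pow_mem (mem_zpowers _) _
    have hmemB : H.z ∈ closure (Bad H.z z') := by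
      have hconjh : ∀ x, L.ι (h * rE x 0 1 * h⁻¹) ∈ Bad H.z z' := by
        intro x
        obtain ⟨c1, c2, c3⟩ := hcr x
        refine ⟨L.comm_z.2 ?_, ?_, ?_, ?_, fun hx => hbad x (hx.trans (L.ι_conj (isConj_iff.2 ⟨h, rfl⟩)).symm)⟩
        · obtain ⟨i, hi⟩ := mem_zpowers_iff.1 hzh
          have h' : Commute (rE x 0 1) (h⁻¹ * zS * h) := hi ▸ (show Commute (rE x 0 1) zS from c2).zpow_right i
          show _ = _
          calc h * rE x 0 1 * h⁻¹ * zS = h * (rE x 0 1 * (h⁻¹ * zS * h)) * h⁻¹ := by group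
            _ = _ := by rw [h'.eq]; group
        · rw [← hM]
          refine Commute.map ?_ L.ι
          rw [← hkM]
          show _ = _
          calc h * rE x 0 1 * h⁻¹ * (h * rep 5 * h⁻¹) = h * (rE x 0 1 * rep 5) * h⁻¹ := by group
            _ = _ := by rw [c1]; group
        · rw [Ne, map_eq_one_iff L.ι L.inj, conj_eq_one_iff]; exact c3
        · rw [← map_pow, conj_pow, rE_pow_three, mul_one, mul_inv_cancel, map_one]
      have h0 := mul_mem (inv_mem (subset_closure (hconjh 0))) (subset_closure (hconjh 1))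
      rw [← map_inv, ← map_mul, show (h * rE 0 0 1 * h⁻¹)⁻¹ * (h * rE 1 0 1 * h⁻¹) = h * zS * h⁻¹ by
        rw [← hzgen]; group] at h0
      obtain ⟨i, hi⟩ := mem_zpowers_iff.1 hzh
      have h1 : zS = (h * zS * h⁻¹) ^ i := by rw [conj_zpow, hi]; group
      have e : H.z = L.ι (h * zS * h⁻¹) ^ i := by rw [← map_zpow, ← h1, L.z_eq]
      have h2 := zpow_mem h0 i
      rwa [← e] at h2
    -- transport by `g`
    have hr : r ∈ closure (Bad H.z r) := by
      have himg : (Bad H.z z').image (MulAut.conj g) ⊆ Bad H.z r := by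
        rintro _ ⟨e, ⟨h1, h2, h3, h4, h5⟩, rfl⟩
        refine ⟨?_, ?_, fun he => h3 ((MulEquiv.map_eq_one_iff _).1 he),
          by rw [← map_pow, h4, map_one], fun he => h5 (he.trans (isConj_iff.2 ⟨g, rfl⟩ : IsConj e _).symm)⟩
        · have := h2.map (MulAut.conj g).toMonoidHom
          simpa [hz', mul_assoc] using this
        · have := h1.map (MulAut.conj g).toMonoidHom
          rw [show (MulAut.conj g).toMonoidHom H.z = r from hg] at this
          exact this
      have h1 := mem_map_of_mem (MulAut.conj g).toMonoidHom hmemB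
      rw [MonoidHom.map_closure, show (MulAut.conj g).toMonoidHom H.z = r from hg] at h1
      exact closure_mono himg h1
    have hsub : closure (Bad H.z r) ≤ (Q0.map L.ι) := by
      refine (closure_le _).2 ?_
      rintro e ⟨h1, h2, h3, h4, h5⟩
      obtain ⟨x, b, c, rfl⟩ := hshape e h1 h2
      by_cases hb : b = 0
      · subst hb
        refine mem_map_of_mem _ ⟨![0, 0, x], c, 0, ?_⟩
        exact congrArg (el _) (Subtype.ext rfl)
      · refine absurd ?_ h5
        obtain ⟨j, h', hj⟩ := exists_class (M := rE x b c) (by rw [pow_three, ← mul_assoc, rE_cube])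
          fun e => h3 (by rw [e, map_one])
        have : j = 5 := by
          by_contra hne
          exact rE_regular x b c hb ((sqz_conj hj).1 ((sqz_rep j).2 hne))
        subst this
        exact hc.trans (L.ι_conj (isConj_iff.2 ⟨h', hj⟩))
    obtain ⟨M', ⟨v, a, b, hM'⟩, he⟩ := hsub hr
    have hl : low (qE v a b) = low (rep 5) := by rw [hM', L.inj he]
    rw [qE, low_el] at hl
    have h12 : (cA a b).1 0 1 = (low (rep 5)).1 0 1 := by rw [hl]
    exact absurd h12 (by simp [cA]; decide)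
  · -- `z'` lies in `V`, which then sits in `C(z) ∩ C(r)`
    have hk0 : k = 0 := by
      have : k = 0 ∨ k = 1 ∨ (k = 2 ∨ k = 3 ∨ k = 4) := by omega
      rcases this with e | e | e
      exacts [e, absurd (e ▸ hzM) hu, absurd hzM (L.not_conj_mid k e)]
    subst hk0
    have hrep0 : rep 0 = zS := Stab_ext (by decide +kernel)
    rw [hrep0] at hkM
    obtain ⟨vm, hvm⟩ : ∃ v, M = vS v := by
      have := vS_conj ![0, 0, 1] h⁻¹
      rw [inv_inv] at this
      exact ⟨_, hkM.symm.trans this⟩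
    have hmap : ∀ v, ∃ x b c, L.ι (rE x b c) = g * L.ι (vS v) * g⁻¹ := by
      intro v
      refine hshape _ ?_ ?_
      · have h1 : Commute (L.ι (vS v)) z' := by rw [← hM, hvm]; exact (vS_comm v vm).map L.ι
        have := h1.map (MulAut.conj g).toMonoidHom
        simpa [hz', mul_assoc] using this
      · have h1 : Commute (L.ι (vS v)) H.z := L.comm_z.2 (vS_comm v _)
        have := h1.map (MulAut.conj g).toMonoidHom
        rw [show (MulAut.conj g).toMonoidHom H.z = r from hg] at this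
        exact this
    choose fx fb fc hf using hmap
    have hinj : Function.Injective fun v => (fx v, fb v, fc v) := fun v w e => by
      simp only [Prod.mk.injEq] at e
      have := hf v
      rw [e.1, e.2.1, e.2.2, hf w] at this
      exact (el_inj (L.inj (mul_left_cancel (mul_right_cancel this)))).1.symm
    obtain ⟨v, hv⟩ := ((Fintype.bijective_iff_injective_and_card _).2 ⟨hinj, by simp⟩).2 ((0 : ZMod 3), (0 : ZMod 3), (1 : ZMod 3))
    simp only [Prod.mk.injEq] at hv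
    have he := hf v
    rw [hv.1, hv.2.1, hv.2.2] at he
    have hv0 : v ≠ 0 := by
      intro e
      rw [e, vS_zero, map_one, mul_one, mul_inv_cancel, map_eq_one_iff L.ι L.inj] at he
      exact absurd he (by decide +kernel)
    obtain ⟨M0, hM0⟩ := vS_trans hv0
    have hz0 : IsConj H.z (L.ι (rE 0 0 1)) := by
      rw [← L.z_eq, he]
      exact (L.ι_conj (isConj_iff.2 ⟨M0, hM0⟩)).trans (isConj_iff.2 ⟨g, rfl⟩)
    have hT : rE 0 0 1 = qE ![0, 0, 0] 1 0 := by decide +kernel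
    exact hu (hz0.trans (L.ι_conj (hT ▸ conj_rep_u ⟨rfl, rfl⟩ (Or.inl one_ne_zero))).symm)

/-- Without conjugates of `z` in the second plane, `z` is isolated in the normaliser of `V`. -/
theorem exists_emb_one (hu : ¬ IsConj H.z (L.ι (rep 1))) :
    ∃ E : Emb G, E.ι = L.ι ∧ E.R = L.ι.range := by
  refine ⟨⟨L.ι, L.inj, L.ι.range, le_rfl, fun g hg => L.cz g (L.z_eq ▸ hg), fun g hg => ?_⟩, rfl, rfl⟩
  obtain ⟨M, hM⟩ := hg
  rw [L.z_eq] at hM
  have hM3 : M ^ 3 = 1 := L.inj (by rw [map_pow, hM, conj_pow, H.z_cube, mul_one, mul_inv_cancel, map_one])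
  have hM1 : M ≠ 1 := fun e => H.z_ne (by rw [e, map_one] at hM; exact conj_eq_one_iff.1 hM.symm)
  obtain ⟨k, h, hk⟩ := exists_class hM3 hM1
  have hc : IsConj H.z (L.ι (rep k)) :=
    (isConj_iff.2 ⟨g, hM.symm⟩).trans (L.ι_conj (isConj_iff.2 ⟨h, hk⟩)).symm
  have hk0 : k = 0 := by
    have : k = 0 ∨ k = 1 ∨ (k = 2 ∨ k = 3 ∨ k = 4) ∨ k = 5 := by omega
    rcases this with e | e | e | e
    exacts [e, absurd (e ▸ hc) hu, absurd hc (L.not_conj_mid k e), absurd (e ▸ hc) (L.not_conj_reg hu)]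
  subst hk0
  rw [show rep 0 = zS from Stab_ext (by decide +kernel)] at hk
  have hcomm : Commute ((L.ι h)⁻¹ * g) H.z := by
    show _ = _
    have : L.ι M = L.ι h * H.z * (L.ι h)⁻¹ := by rw [← hk, map_mul, map_mul, map_inv, L.z_eq]
    calc (L.ι h)⁻¹ * g * H.z = (L.ι h)⁻¹ * (g * H.z * g⁻¹) * g := by group
      _ = _ := by rw [← hM, this]; group
  have := mul_mem (⟨h, rfl⟩ : L.ι h ∈ L.ι.range) (L.cz _ hcomm)
  rwa [mul_inv_cancel_left] at this

end Loc

end Cfsg.Agent.Spor.L43Three
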