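import Cfsg.Agent.Lib.Spor.L43Three.Emb

/-!
The automorphism of the stabiliser negating the first row.
-/

set_option autoImplicit false
set_option linter.unusedSectionVars false

namespace Cfsg.Agent.Spor.L43Three

open Subgroup Matrix

universe u

/-- The sign change of the first row. -/
def twist : Stab →* Stab :=
  MonoidHom.mk' (fun M => el (-topRow M.1.1) (low M)) fun M N => by
    obtain ⟨v, A, rfl⟩ := el_surj M
    obtain ⟨w, B, rfl⟩ := el_surj N
    have hl : ∀ x X, low (el x X) = X := fun x X => Subtype.ext (lowBlock_aff x X.1)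
    simp only [el_mul, hl, el_val, topRow_aff, neg_add, Matrix.neg_vecMul]

theorem twist_el (v : Fin 3 → ZMod 3) (A : SL33) : twist (el v A) = el (-v) A := by
  show el (-topRow (el v A).1.1) (low (el v A)) = _
  rw [el_val, topRow_aff, show low (el v A) = A from Subtype.ext (lowBlock_aff v A.1)]

theorem twist_twist (M : Stab) : twist (twist M) = M := by
  obtain ⟨v, A, rfl⟩ := el_surj M
  rw [twist_el, twist_el, neg_neg]

theorem twist_z : twist zS = zS⁻¹ := (twist_el _ _).trans (vS_neg _)

namespace Emb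

variable {G : Type u} [Group G] [Finite G] (E : Emb G)

/-- The embedding composed with the sign change. -/
def twisted : Emb G where
  ι := E.ι.comp twist
  inj := fun M N h => by rw [← twist_twist M, ← twist_twist N, E.inj h]
  R := E.R
  le := by rintro _ ⟨M, rfl⟩; exact E.le ⟨_, rfl⟩
  cz := fun g hg => by
    have e : E.ι (twist zS) = (E.ι zS)⁻¹ := by rw [twist_z, map_inv]
    rw [MonoidHom.comp_apply, e] at hg
    obtain ⟨M, hM⟩ := E.cz g (inv_inv (E.ι zS) ▸ hg.inv_right)
    exact ⟨twist M, by rw [MonoidHom.comp_apply, twist_twist, hM]⟩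
  iso := fun g hg => by
    have e : E.ι (twist zS) = (E.ι zS)⁻¹ := by rw [twist_z, map_inv]
    rw [MonoidHom.comp_apply, e] at hg
    refine E.iso g ?_
    have h := inv_mem hg
    rwa [show (g * (E.ι zS)⁻¹ * g⁻¹)⁻¹ = g * E.ι zS * g⁻¹ by group] at h

theorem twisted_range : E.twisted.ι.range = E.ι.range := by
  refine le_antisymm ?_ ?_
  · rintro _ ⟨M, rfl⟩; exact ⟨_, rfl⟩
  · rintro _ ⟨M, rfl⟩; exact ⟨twist M, congrArg E.ι (twist_twist M)⟩

end Emb

end Cfsg.Agent.Spor.L43Three
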