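import Cfsg.Agent.Lib.Spor.L43Three.Classes
import Cfsg.Agent.Lib.Spor.L43Three.Trans
import Cfsg.Agent.Lib.Fus.M23U.Three.Transport

/-!
The point stabiliser of `PSL(4, 3)` is a maximal subgroup with three-core of order `27` and quotient `SL(3, 3)`.
-/

set_option autoImplicit false
set_option linter.unusedSectionVars false
set_option maxRecDepth 10000

namespace Cfsg.Agent.Spor.L43Three

open Subgroup Matrix

universe u

/-- The lower block as a homomorphism. -/
def lowHom : Stab →* SL33 := MonoidHom.mk' low low_mul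

theorem lowHom_surj : Function.Surjective lowHom := fun A => ⟨el 0 A, low_el 0 A⟩

theorem card_ker_lowHom : Nat.card lowHom.ker = 27 := by
  rw [← Nat.card_congr (Equiv.ofBijective (fun v => (⟨vS v, (low_el v 1 : low (el v 1) = 1)⟩ : lowHom.ker))
    ⟨fun v w h => (el_inj (congrArg Subtype.val h)).1, fun M => ⟨topRow M.1.1.1, Subtype.ext (by
      show el _ 1 = M.1
      rw [show (1 : SL33) = low M.1 from (MonoidHom.mem_ker.1 M.2).symm, el_parts])⟩⟩),
    Nat.card_fun, Nat.card_zmod, Nat.card_eq_fintype_card, Fintype.card_fin]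
  norm_num

/-- The reversal of the lower block. -/
def wRev : Stab := mk4 !![1, 0, 0, 0; 0, 0, 0, 1; 0, 0, 2, 0; 0, 1, 0, 0]

theorem wRev_mul : ∀ p : Fin 729,
    ((List.finRange 4).all fun i => (List.finRange 4).all fun j =>
      decide (i < j) || mul4 (mul4 wRev.1.1 (uMat p)) wRev.1.1 i j == if i = j then 1 else 0) = true →
    lowBlock (uMat p) = 1 := by
  decide +kernel

theorem wRev_sq : wRev * wRev = 1 := Stab_ext (by decide +kernel)

theorem pCore_Stab : Cfsg.pCore 3 Stab = lowHom.ker := by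
  haveI : Fact (Nat.Prime 3) := ⟨Nat.prime_three⟩
  refine le_antisymm (fun M hM => ?_) (Grp.le_pCore inferInstance
    (IsPGroup.of_card (n := 3) (by rw [card_ker_lowHom]; norm_num)))
  have hS : ¬ 3 ∣ U4.index := by
    have := U4.card_mul_index
    rw [card_U4, card_Stab] at this
    rw [show U4.index = 208 by omega]
    norm_num
  let S : Sylow 3 Stab := (IsPGroup.of_card (p := 3) (n := 6) (G := U4) (by rw [card_U4]; norm_num)).toSylow hS
  have hle : Cfsg.pCore 3 Stab ≤ U4 := Grp.pCore_le_sylow S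
  obtain ⟨p, hp⟩ := uMat_surj (hle hM)
  have hM' : wRev * M * wRev⁻¹ ∈ U4 := hle ((Grp.pCore_isNormal).conj_mem M hM wRev)
  rw [inv_eq_of_mul_eq_one_right wRev_sq] at hM'
  have h := wRev_mul p (by
    simp only [List.all_eq_true, Bool.or_eq_true, decide_eq_true_eq, beq_iff_eq]
    intro i _ j _
    rcases lt_or_ge i j with hij | hij
    · exact Or.inl hij
    · right
      rw [mul4_eq, mul4_eq, hp, ← Stab_mul_val, ← Stab_mul_val]
      exact hM' i j hij)
  refine MonoidHom.mem_ker.2 (Subtype.ext ?_)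
  show lowBlock M.1.1 = (1 : M3)
  rw [← hp]
  exact h

/-- Vectors with nonzero tail are images of one of them. -/
theorem reach_vec : ∀ v : Fin 4 → ZMod 3, ¬ (v 1 = 0 ∧ v 2 = 0 ∧ v 3 = 0) →
    (toRow ![v 1, v 2, v 3]).transpose.det = 1 ∧
      aff ![0, 0, v 0] (toRow ![v 1, v 2, v 3]).transpose *ᵥ ![0, 0, 0, 1] = v := by
  decide +kernel

/-- The representatives of the centre. -/
theorem center_SL44 {A : SL44} : A ∈ center SL44 ↔ ∃ r : ZMod 3, r ^ 4 = 1 ∧ Matrix.scalar (Fin 4) r = A.1 := by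
  rw [Matrix.SpecialLinearGroup.mem_center_iff, Fintype.card_fin]

/-- The stabiliser in the projective group. -/
def PStab : Subgroup (Matrix.ProjectiveSpecialLinearGroup (Fin 4) (ZMod 3)) :=
  Stab.map (QuotientGroup.mk' (center SL44))

theorem PStab_inj : Function.Injective ((QuotientGroup.mk' (center SL44)).comp Stab.subtype) := by
  refine (injective_iff_map_eq_one _).2 fun M hM => ?_
  obtain ⟨r, -, hr⟩ := center_SL44.1 ((QuotientGroup.eq_one_iff M.1).1 hM)
  have h00 := congrFun (congrFun hr 0) 0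
  rw [show M.1.1 0 0 = 1 from M.2 0] at h00
  simp at h00
  refine Stab_ext ?_
  rw [← hr, h00, map_one]; rfl

/-- The isomorphism onto the stabiliser in the projective group. -/
noncomputable def PStab_equiv : Stab ≃* PStab :=
  (MonoidHom.ofInjective PStab_inj).trans (MulEquiv.subgroupCongr (by
    rw [MonoidHom.range_comp, Subgroup.range_subtype]; rfl))

theorem card_pCore_PStab : Nat.card (Cfsg.pCore 3 PStab) = 27 := by
  rw [← Fus.M23U.Three.map_pCore PStab_equiv 3, card_map_of_injective PStab_equiv.injective, pCore_Stab,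
    card_ker_lowHom]

/-- The negative of the identity. -/
def negS : SL44 := ⟨-1, by decide +kernel⟩

theorem negS_center : negS ∈ center SL44 := center_SL44.2 ⟨2, by decide, by decide +kernel⟩

theorem mem_comap_PStab {g : SL44} (h : ∀ i : Fin 4, i ≠ 0 → g.1 i 0 = 0) :
    (g : Matrix.ProjectiveSpecialLinearGroup (Fin 4) (ZMod 3)) ∈ PStab := by
  have hd : g.1 0 0 ≠ 0 := by
    intro h0
    have := g.2
    rw [Matrix.det_eq_zero_of_column_eq_zero 0 (fun i => by rcases eq_or_ne i 0 with rfl | hi; exacts [h0, h i hi])] at this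
    exact zero_ne_one this
  have hc : g.1 0 0 = 1 ∨ g.1 0 0 = 2 := by
    have : ∀ x : ZMod 3, x ≠ 0 → x = 1 ∨ x = 2 := by decide
    exact this _ hd
  rcases hc with hc | hc
  · exact ⟨g, fun i => by rcases eq_or_ne i 0 with rfl | hi; exacts [hc, by rw [h i hi, if_neg hi]], rfl⟩
  · refine ⟨g * negS, fun i => ?_, ?_⟩
    · show (g.1 * (-1 : M4)) i 0 = _
      rw [mul_neg, mul_one, Matrix.neg_apply]
      rcases eq_or_ne i 0 with rfl | hi
      · rw [hc]; decide
      · rw [h i hi, if_neg hi, neg_zero]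
    · rw [map_mul, show QuotientGroup.mk' (center SL44) negS = 1 from (QuotientGroup.eq_one_iff _).2 negS_center, mul_one]
      rfl

theorem PStab_coatom : IsCoatom PStab := by
  classical
  refine ⟨fun htop => ?_, fun H hH => ?_⟩
  · let g : SL44 := ⟨!![0, 2, 0, 0; 1, 0, 0, 0; 0, 0, 1, 0; 0, 0, 0, 1], by decide +kernel⟩
    obtain ⟨M, hM, he⟩ := (htop.symm ▸ mem_top _ : (g : Matrix.ProjectiveSpecialLinearGroup (Fin 4) (ZMod 3)) ∈ PStab)
    obtain ⟨r, -, hr⟩ := center_SL44.1 (QuotientGroup.eq.1 he)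
    have h2 : M.1 * Matrix.scalar (Fin 4) r = g.1 := by
      rw [hr]; exact congrArg (fun A : SL44 => A.1) (mul_inv_cancel_left M g)
    have h3 := congrFun (congrFun h2 1) 0
    simp [Matrix.scalar_apply, Matrix.mul_diagonal, g, hM 1] at h3
  · obtain ⟨x, hx, hxP⟩ := SetLike.exists_of_lt hH
    obtain ⟨g, rfl⟩ := QuotientGroup.mk'_surjective (center SL44) x
    have htail : ∀ k : SL44, (k : Matrix.ProjectiveSpecialLinearGroup (Fin 4) (ZMod 3)) ∉ PStab →
        ¬ (k.1 1 0 = 0 ∧ k.1 2 0 = 0 ∧ k.1 3 0 = 0) := fun k hk hh => hk (mem_comap_PStab fun i hi => by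
      fin_cases i
      · exact absurd rfl hi
      · exact hh.1
      · exact hh.2.1
      · exact hh.2.2)
    have hmv : ∀ k : SL44, (k : Matrix.ProjectiveSpecialLinearGroup (Fin 4) (ZMod 3)) ∉ PStab →
        ∃ M ∈ Stab, (M : SL44).1 *ᵥ ![0, 0, 0, 1] = fun i => k.1 i 0 := by
      intro k hk
      obtain ⟨hd, hv⟩ := reach_vec (fun i => k.1 i 0) (htail k hk)
      exact ⟨(el ![0, 0, k.1 0 0] ⟨_, hd⟩).1, (el _ _).2, hv⟩
    rw [eq_top_iff]
    intro y _
    obtain ⟨k, rfl⟩ := QuotientGroup.mk'_surjective (center SL44) y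
    by_cases hk : (k : Matrix.ProjectiveSpecialLinearGroup (Fin 4) (ZMod 3)) ∈ PStab
    · exact hH.le hk
    obtain ⟨A, hA, hAv⟩ := hmv g hxP
    obtain ⟨B, hB, hBv⟩ := hmv k hk
    set l := B * A⁻¹
    have hlS : l ∈ Stab := mul_mem hB (inv_mem hA)
    have hcol : ∀ i, (l * g).1 i 0 = k.1 i 0 := fun i => by
      have h1 : (A⁻¹ : SL44).1 *ᵥ (fun j => g.1 j 0) = ![0, 0, 0, 1] := by
        rw [← hAv, Matrix.mulVec_mulVec, show (A⁻¹ : SL44).1 * A.1 = 1 from congrArg (fun X : SL44 => X.1) (inv_mul_cancel A),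
          Matrix.one_mulVec]
      have h2 : B.1 *ᵥ ((A⁻¹ : SL44).1 *ᵥ fun j => g.1 j 0) = fun j => k.1 j 0 := by rw [h1, hBv]
      have h3 := congrFun h2 i
      rw [Matrix.mulVec_mulVec] at h3
      exact h3
    have hS : (l * g)⁻¹ * k ∈ Stab := fun i => by
      have h1 := congrFun (congrFun (congrArg (fun X : SL44 => X.1) (inv_mul_cancel (l * g))) i) 0
      show (((l * g)⁻¹).1 * k.1) i 0 = _
      rw [Matrix.mul_apply]
      change (((l * g)⁻¹).1 * (l * g).1) i 0 = (1 : M4) i 0 at h1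
      rw [Matrix.mul_apply, Matrix.one_apply] at h1
      rw [← h1]
      exact Finset.sum_congr rfl fun j _ => by rw [hcol]
    have h := mul_mem (mul_mem (hH.le (mem_map_of_mem (QuotientGroup.mk' (center SL44)) hlS)) hx)
      (hH.le (mem_map_of_mem (QuotientGroup.mk' (center SL44)) hS))
    rw [← map_mul, ← map_mul, mul_inv_cancel_left] at h
    exact h

theorem exists_parabolic {G : Type u} [Group G] (ι : Stab →* G) (hinj : Function.Injective ι) (htop : ι.range = ⊤) :
    ∃ (P : Subgroup (Matrix.ProjectiveSpecialLinearGroup (Fin 4) (ZMod 3))),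
      IsCoatom P ∧ Nat.card (Cfsg.pCore 3 P) = 27 ∧
      Nonempty (P ⧸ Cfsg.pCore 3 P ≃* Matrix.SpecialLinearGroup (Fin 3) (ZMod 3)) ∧ Nonempty (G ≃* P) := by
  refine ⟨PStab, PStab_coatom, card_pCore_PStab, ?_,
    ⟨(MulEquiv.ofBijective ι ⟨hinj, MonoidHom.range_eq_top.1 htop⟩).symm.trans PStab_equiv⟩⟩
  let f : PStab →* SL33 := lowHom.comp PStab_equiv.symm.toMonoidHom
  have hker : f.ker = Cfsg.pCore 3 PStab := by
    rw [← Fus.M23U.Three.map_pCore PStab_equiv 3, pCore_Stab]
    ext p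
    rw [MonoidHom.mem_ker]
    constructor
    · exact fun h => ⟨PStab_equiv.symm p, h, PStab_equiv.apply_symm_apply p⟩
    · rintro ⟨M, hM, rfl⟩
      show lowHom (PStab_equiv.symm (PStab_equiv M)) = 1
      rw [MulEquiv.symm_apply_apply]; exact hM
  exact ⟨(QuotientGroup.quotientMulEquivOfEq hker.symm).trans
    (QuotientGroup.quotientKerEquivOfSurjective f (lowHom_surj.comp PStab_equiv.symm.surjective))⟩

end Cfsg.Agent.Spor.L43Three
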