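import Mathlib
import Cfsg.Prelude.Def_Transfer
import Cfsg.Prelude.Def_Solvable
import Cfsg.Agent.Lib.Grp.Cores
import Cfsg.Agent.Lib.Spor.L43Three.Hyp
import Cfsg.Agent.Lib.Spor.L43Three.Chain

/-!
From the hypotheses of the three-local recognition of `PSL(4, 3)` to the data.
-/

set_option autoImplicit false
set_option maxHeartbeats 800000

namespace Cfsg.Agent.Spor.L43Three

open Subgroup
open scoped commutatorElement

universe u

variable {G : Type u} [Group G] [Finite G]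

/-- With two nontrivial chief factors there are exactly two, of order nine each. -/
theorem chain_shape {r : ℕ} (c : Fin (r + 1) → ℕ) (h0 : c 0 = 3) (hr : c (Fin.last r) = 243)
    (h3 : ∀ i : Fin r, 3 * c i.castSucc ≤ c i.succ) {i j : Fin r} (hij : i ≠ j)
    (hi : 9 * c i.castSucc ≤ c i.succ) (hj : 9 * c j.castSucc ≤ c j.succ) :
    r = 2 ∧ ∀ l : Fin r, c l.succ = 9 * c l.castSucc := by
  have key : ∀ m : Fin (r + 1),
      3 * (3 ^ (m : ℕ) * (3 ^ (Finset.univ.filter fun l : Fin r => (l = i ∨ l = j) ∧ (l : ℕ) < m).card)) ≤ c m := by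
    intro m
    induction m using Fin.induction with
    | zero => simp [h0]
    | succ l ih =>
      have hsub : (Finset.univ.filter fun l' : Fin r => (l' = i ∨ l' = j) ∧ (l' : ℕ) < (l.succ : Fin (r+1))) ⊆
          insert l (Finset.univ.filter fun l' : Fin r => (l' = i ∨ l' = j) ∧ (l' : ℕ) < (l.castSucc : Fin (r+1))) := by
        intro x hx
        simp only [Finset.mem_filter, Finset.mem_univ, true_and, Fin.val_succ] at hx
        simp only [Finset.mem_insert, Finset.mem_filter, Finset.mem_univ, true_and, Fin.val_castSucc]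
        by_cases hxl : x = l
        · exact Or.inl hxl
        · exact Or.inr ⟨hx.1, by have := Fin.val_ne_of_ne hxl; omega⟩
      by_cases hl : l = i ∨ l = j
      · have hcard := (Finset.card_le_card hsub).trans (Finset.card_insert_le _ _)
        have h9 : 9 * c l.castSucc ≤ c l.succ := by rcases hl with rfl | rfl <;> assumption
        refine le_trans ?_ h9
        simp only [Fin.val_succ, Fin.val_castSucc] at ih hcard ⊢
        calc 3 * (3 ^ ((l : ℕ) + 1) * 3 ^ _)
            ≤ 3 * (3 ^ ((l : ℕ) + 1) * 3 ^ ((Finset.univ.filter fun l' : Fin r =>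
              (l' = i ∨ l' = j) ∧ (l' : ℕ) < (l : ℕ)).card + 1)) := by
              gcongr; norm_num
          _ = 9 * (3 * (3 ^ (l : ℕ) * 3 ^ (Finset.univ.filter fun l' : Fin r =>
              (l' = i ∨ l' = j) ∧ (l' : ℕ) < (l : ℕ)).card)) := by ring
          _ ≤ _ := Nat.mul_le_mul_left _ ih
      · have hcard : (Finset.univ.filter fun l' : Fin r => (l' = i ∨ l' = j) ∧ (l' : ℕ) < (l.succ : Fin (r+1))) ⊆
            Finset.univ.filter fun l' : Fin r => (l' = i ∨ l' = j) ∧ (l' : ℕ) < (l.castSucc : Fin (r+1)) := by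
          intro x hx
          simp only [Finset.mem_filter, Finset.mem_univ, true_and, Fin.val_succ] at hx
          simp only [Finset.mem_filter, Finset.mem_univ, true_and, Fin.val_castSucc]
          refine ⟨hx.1, ?_⟩
          have : x ≠ l := fun e => hl (e ▸ hx.1)
          have := Fin.val_ne_of_ne this
          omega
        refine le_trans ?_ (h3 l)
        simp only [Fin.val_succ, Fin.val_castSucc] at ih hcard ⊢
        calc 3 * (3 ^ ((l : ℕ) + 1) * 3 ^ _)
            ≤ 3 * (3 ^ ((l : ℕ) + 1) * 3 ^ (Finset.univ.filter fun l' : Fin r =>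
              (l' = i ∨ l' = j) ∧ (l' : ℕ) < (l : ℕ)).card) := by
              gcongr; norm_num
          _ = 3 * (3 * (3 ^ (l : ℕ) * 3 ^ (Finset.univ.filter fun l' : Fin r =>
              (l' = i ∨ l' = j) ∧ (l' : ℕ) < (l : ℕ)).card)) := by ring
          _ ≤ _ := Nat.mul_le_mul_left _ ih
  have hlast := key (Fin.last r)
  rw [hr] at hlast
  have hcard2 : (Finset.univ.filter fun l : Fin r => (l = i ∨ l = j) ∧ (l : ℕ) < (Fin.last r : Fin (r+1))).card = 2 := by
    rw [show (Finset.univ.filter fun l : Fin r => (l = i ∨ l = j) ∧ (l : ℕ) < (Fin.last r : Fin (r+1))) = {i, j} by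
      ext x; simp [x.isLt]]
    exact Finset.card_pair hij
  rw [hcard2] at hlast
  have hr2 : r ≤ 2 := by
    have : 3 ^ r ≤ 3 ^ 2 := by norm_num at hlast ⊢; omega
    exact (Nat.pow_le_pow_iff_right (by norm_num)).1 this
  have hr2' : r = 2 := by
    have := Fin.val_ne_of_ne hij
    have := i.isLt
    have := j.isLt
    omega
  subst hr2'
  refine ⟨rfl, ?_⟩
  have h9 : ∀ l : Fin 2, 9 * c l.castSucc ≤ c l.succ := by
    intro l
    have : l = i ∨ l = j := by
      have := Fin.val_ne_of_ne hij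
      have := i.isLt; have := j.isLt; have := l.isLt
      rcases Nat.lt_or_ge (l : ℕ) 1 with h | h <;> rcases Nat.lt_or_ge (i : ℕ) 1 with h' | h' <;>
        first | exact Or.inl (Fin.ext (by omega)) | exact Or.inr (Fin.ext (by omega))
    rcases this with rfl | rfl <;> assumption
  have a := h9 0
  have b := h9 1
  simp only [Fin.castSucc_zero, Fin.succ_zero_eq_one] at a
  rw [h0] at a
  have hc2 : c (Fin.succ 1 : Fin 3) = 243 := hr
  have hm : c ((1 : Fin 2).castSucc) = c 1 := rfl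
  rw [hc2, hm] at b
  intro l
  fin_cases l
  · show c 1 = 9 * c 0
    rw [h0]; omega
  · show c (Fin.succ 1 : Fin 3) = 9 * c 1
    rw [hc2]; omega

/-- The data from the hypotheses of the statement. -/
theorem exists_hyp (S : Sylow 3 G) (Z : Subgroup G) (hZ : Z = (S : Subgroup G) ⊓ centralizer ((S : Subgroup G) : Set G))
    (C : Subgroup G) (hCZ : C = centralizer (Z : Set G))
    (Q : Subgroup G) (hQ : Q = (Cfsg.pCore 3 C).map C.subtype)
    (hQex : Cfsg.IsExtraspecial 3 Q) (hQcard : Nat.card Q = 3 ^ 5) (hQexp : ∀ a ∈ Q, a ^ 3 = 1)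
    (hCQ : centralizer (Q : Set G) ≤ Q)
    (hZQ : ∃ x : G, Z.map (MulAut.conj x).toMonoidHom ≤ Q ∧ Z.map (MulAut.conj x).toMonoidHom ≠ Z)
    [(Cfsg.pCore 3 C).Normal]
    (K : Subgroup G) (hK : K = ((Cfsg.pResidual 2 (C ⧸ Cfsg.pCore 3 C)).comap (QuotientGroup.mk' (Cfsg.pCore 3 C))).map C.subtype)
    (r : ℕ) (A : Fin (r + 1) → Subgroup G) (hA0 : A 0 = Z) (hAr : A (Fin.last r) = Q)
    (hmono : ∀ i : Fin r, A i.castSucc < A i.succ)
    (hinv : ∀ i : Fin (r + 1), ∀ k ∈ K, ∀ a ∈ A i, k * a * k⁻¹ ∈ A i)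
    (hmax : ∀ i : Fin r, ∀ B : Subgroup G, A i.castSucc < B → B < A i.succ → ∃ k ∈ K, ∃ b ∈ B, k * b * k⁻¹ ∉ B)
    (e : C ⧸ Cfsg.pCore 3 C ≃* SL23)
    (htwo : ∃ i j : Fin r, i ≠ j ∧ (∃ k ∈ K, ∃ a ∈ A i.succ, k * a * k⁻¹ * a⁻¹ ∉ A i.castSucc) ∧ (∃ k ∈ K, ∃ a ∈ A j.succ, k * a * k⁻¹ * a⁻¹ ∉ A j.castSucc) ∧
      ∀ l : Fin r, (∃ k ∈ K, ∃ a ∈ A l.succ, k * a * k⁻¹ * a⁻¹ ∉ A l.castSucc) → l = i ∨ l = j) :
    Nonempty (Hyp G) := by
  haveI : Fact (Nat.Prime 3) := ⟨Nat.prime_three⟩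
  have hQC : Q ≤ C := hQ.le.trans (map_subtype_le _)
  have hQcore : ∀ c : C, (c : G) ∈ Q ↔ c ∈ Cfsg.pCore 3 C := fun c => by
    rw [hQ]
    exact ⟨fun ⟨w, hw, hwe⟩ => by rwa [← Subtype.ext hwe], fun h => ⟨c, h, rfl⟩⟩
  have hnQ : ∀ c ∈ C, ∀ q ∈ Q, c * q * c⁻¹ ∈ Q := fun c hc q hq =>
    (hQcore ⟨_, mul_mem (mul_mem hc (hQC hq)) (inv_mem hc)⟩).2
      (Subgroup.Normal.conj_mem inferInstance _ ((hQcore ⟨q, hQC hq⟩).1 hq) ⟨c, hc⟩)
  let π0 : C →* SL23 := e.toMonoidHom.comp (QuotientGroup.mk' (Cfsg.pCore 3 C))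
  have hπ0 : Function.Surjective π0 := e.surjective.comp (QuotientGroup.mk'_surjective _)
  have hker0 : ∀ c : C, π0 c = 1 ↔ (c : G) ∈ Q := fun c => by
    rw [hQcore, ← QuotientGroup.eq_one_iff]
    exact e.map_eq_one_iff
  have hCcard : Nat.card C = 5832 := by
    have h := Subgroup.card_mul_index (Cfsg.pCore 3 C)
    rw [Subgroup.index_eq_card, Nat.card_congr e.toEquiv, card_SL23] at h
    have hc : Nat.card (Cfsg.pCore 3 C) = 243 := by
      rw [show (243 : ℕ) = 3 ^ 5 by norm_num, ← hQcard, hQ,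
        Nat.card_congr (Subgroup.equivMapOfInjective _ _ C.subtype_injective).toEquiv]
    rw [hc] at h; omega
  have hQp : IsPGroup 3 Q := IsPGroup.of_card hQcard
  have hSC : (S : Subgroup G) ≤ C := fun s hs => by
    rw [hCZ]
    exact mem_centralizer_iff.2 fun w hw => by
      rw [hZ] at hw
      exact (mem_centralizer_iff.1 hw.2 s hs).symm
  have hQS : Q ≤ S := by
    have hn : (S : Subgroup G) ≤ normalizer (Q : Set G) := fun s hs =>
      mem_normalizer_fintype fun q hq => hnQ s (hSC hs) q hq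
    exact le_sup_right.trans (S.3 (S.2.to_sup_of_normal_right' hQp hn) le_sup_left).le
  have hScard : Nat.card S = 729 := by
    obtain ⟨v, hv⟩ := IsPGroup.iff_card.1 S.2
    have hd : Nat.card S ∣ 5832 := hCcard ▸ card_dvd_of_le hSC
    rw [hv] at hd ⊢
    have h1 : v ≤ 6 := by
      by_contra h
      exact absurd ((pow_dvd_pow 3 (by omega : 7 ≤ v)).trans hd) (by norm_num)
    obtain ⟨P⟩ := (inferInstance : Nonempty (Sylow 3 C))
    have hP : Nat.card P = 729 := by
      rw [P.card_eq_multiplicity, hCcard, show (5832 : ℕ) = 8 * 3 ^ 6 by norm_num,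
        Nat.factorization_mul (by norm_num) (by norm_num), Finsupp.add_apply, Nat.factorization_pow,
        Finsupp.smul_apply, Nat.prime_three.factorization_self,
        Nat.factorization_eq_zero_of_not_dvd (by norm_num)]
      norm_num
    have h2 : 3 ^ 6 ∣ 3 ^ v := by
      rw [← hv, show (3 : ℕ) ^ 6 = Nat.card ((P : Subgroup C).map C.subtype) by
        rw [Nat.card_congr (Subgroup.equivMapOfInjective _ _ C.subtype_injective).symm.toEquiv, hP]; norm_num]
      obtain ⟨P', hP'⟩ := (P.2.map C.subtype).exists_le_sylow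
      have := card_dvd_of_le hP'
      rwa [P'.card_eq_multiplicity, ← S.card_eq_multiplicity] at this
    have h2' := (Nat.pow_dvd_pow_iff_le_right (by norm_num)).1 h2
    rw [show v = 6 by omega]; norm_num
  -- the centre
  obtain ⟨⟨-, -, hcom⟩, hcen⟩ := hQex
  have hcenQ : Nat.card ((center ↥Q).map Q.subtype) = 3 := by
    rw [Nat.card_congr (Subgroup.equivMapOfInjective _ _ Q.subtype_injective).symm.toEquiv, hcen]
  have hZle : Z ≤ (center ↥Q).map Q.subtype := fun w hw => by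
    rw [hZ] at hw
    have hwQ : w ∈ Q := hCQ (mem_centralizer_iff.2 fun q hq => mem_centralizer_iff.1 hw.2 q (hQS hq))
    exact ⟨⟨w, hwQ⟩, mem_center_iff.2 fun q => Subtype.ext (mem_centralizer_iff.1 hw.2 q (hQS q.2)), rfl⟩
  have hZne : Z ≠ ⊥ := by
    haveI : Nontrivial S := by
      rw [← Finite.one_lt_card_iff_nontrivial, hScard]; norm_num
    haveI := S.2.center_nontrivial
    obtain ⟨w, hw⟩ := exists_ne (1 : center S)
    intro hbot
    refine hw (Subtype.ext (Subtype.ext ?_))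
    have : ((w : S) : G) ∈ Z := by
      rw [hZ]
      exact ⟨(w : S).2, mem_centralizer_iff.2 fun s hs => congrArg Subtype.val (mem_center_iff.1 w.2 ⟨s, hs⟩)⟩
    rwa [hbot, mem_bot] at this
  have hZcard : Nat.card Z = 3 := by
    have hd : Nat.card Z ∣ 3 := hcenQ ▸ card_dvd_of_le hZle
    rcases (Nat.dvd_prime Nat.prime_three).1 hd with h | h
    · exact absurd (eq_bot_of_card_eq Z h) hZne
    · exact h
  have hZeq : Z = (center ↥Q).map Q.subtype := eq_of_le_of_card_ge hZle (by rw [hcenQ, hZcard])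
  obtain ⟨z, hzZ, hz1⟩ := (bot_or_exists_ne_one Z).resolve_left hZne
  have hzo : orderOf z = 3 := by
    have : orderOf z ∣ 3 := hZcard ▸ Subgroup.orderOf_dvd_natCard Z hzZ
    rcases (Nat.dvd_prime Nat.prime_three).1 this with h | h
    · exact absurd (orderOf_eq_one_iff.1 h) hz1
    · exact h
  have hZz : Z = zpowers z :=
    (eq_of_le_of_card_ge (zpowers_le.2 hzZ) (by rw [Nat.card_zpowers, hzo, hZcard])).symm
  have hZQ' : Z ≤ Q := hZeq.le.trans (map_subtype_le _)
  have hcomZ : ∀ a ∈ Q, ∀ b ∈ Q, a * b * a⁻¹ * b⁻¹ ∈ Z := fun a ha b hb => by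
    rw [hZeq]
    refine ⟨⁅(⟨a, ha⟩ : Q), ⟨b, hb⟩⁆, ?_, by simp [commutatorElement_def]⟩
    rw [← hcom, _root_.commutator_def]
    exact commutator_mem_commutator (mem_top _) (mem_top _)
  -- `K = C`
  have hKC : K = C := by
    have htop : Cfsg.pResidual 2 (C ⧸ Cfsg.pCore 3 C) = ⊤ := by
      have := eq_top_of_cube_mem (H := (Cfsg.pResidual 2 (C ⧸ Cfsg.pCore 3 C)).map e.toMonoidHom) fun a ha => by
        refine ⟨e.symm a, subset_closure ?_, e.apply_symm_apply a⟩
        show Nat.Coprime (orderOf (e.symm a)) 2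
        rw [MulEquiv.orderOf_eq]
        exact Nat.Coprime.coprime_dvd_left (orderOf_dvd_of_pow_eq_one ha) (by norm_num)
      exact Subgroup.map_injective e.injective (this.trans (Subgroup.map_top_of_surjective _ e.surjective).symm)
    rw [hK, htop, comap_top, ← MonoidHom.range_eq_map, range_subtype]
  subst hKC
  have hAmono : Monotone A := Fin.monotone_iff_le_succ.2 fun i => (hmono i).le
  have hAQ : ∀ i, A i ≤ Q := fun i => hAr ▸ hAmono (Fin.le_last i)
  have hZA : ∀ i, Z ≤ A i := fun i => hA0 ▸ hAmono (Fin.zero_le i)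
  have hfac : ∀ l : Fin r, (∃ k ∈ K, ∃ a ∈ A l.succ, k * a * k⁻¹ * a⁻¹ ∉ A l.castSucc) →
      9 * Nat.card (A l.castSucc) ≤ Nat.card (A l.succ) ∧
      (Nat.card (A l.succ) = 9 * Nat.card (A l.castSucc) →
        ∀ c : K, π0 c = negOne → ∀ a ∈ A l.succ, (c : G) * a * (c : G)⁻¹ * a ∈ A l.castSucc) :=
    fun l hl => factor_facts π0 hπ0 (hmono l) (hQp.to_le (hAQ _)) (fun a ha => hQexp a (hAQ _ ha))
      (fun a ha b hb => hZA _ (hcomZ a (hAQ _ ha) b (hAQ _ hb)))
      (fun c hc a ha => hZA _ (hcomZ c ((hker0 c).1 hc) a (hAQ _ ha)))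
      (fun c a ha => hinv _ c c.2 a ha) (fun c a ha => hinv _ c c.2 a ha)
      (fun X h1 h2 => by obtain ⟨k, hk, b, hb, h⟩ := hmax l X h1 h2; exact ⟨⟨k, hk⟩, b, hb, h⟩)
      (by obtain ⟨k, hk, a, ha, h⟩ := hl; exact ⟨⟨k, hk⟩, a, ha, h⟩)
  obtain ⟨i, j, hij, hi, hj, honly⟩ := htwo
  have h3 : ∀ l : Fin r, 3 * Nat.card (A l.castSucc) ≤ Nat.card (A l.succ) := fun l => by
    obtain ⟨a, ha⟩ := IsPGroup.iff_card.1 (hQp.to_le (hAQ l.castSucc))
    obtain ⟨b, hb⟩ := IsPGroup.iff_card.1 (hQp.to_le (hAQ l.succ))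
    have hlt : Nat.card (A l.castSucc) < Nat.card (A l.succ) := by
      by_contra hh
      exact (hmono l).ne (eq_of_le_of_card_ge (hmono l).le (by omega))
    rw [ha, hb] at hlt ⊢
    rw [← pow_succ']
    exact Nat.pow_le_pow_right (by norm_num) ((Nat.pow_lt_pow_iff_right (by norm_num)).1 hlt)
  obtain ⟨hr2, hcard⟩ := chain_shape (fun l => Nat.card (A l)) (by rw [hA0, hZcard])
    (by rw [hAr, hQcard]; norm_num) h3 hij (hfac i hi).1 (hfac j hj).1
  subst hr2
  have hall : ∀ l : Fin 2, ∃ k ∈ K, ∃ a ∈ A l.succ, k * a * k⁻¹ * a⁻¹ ∉ A l.castSucc := fun l => by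
    have : l = i ∨ l = j := by
      have := Fin.val_ne_of_ne hij
      have := i.isLt; have := j.isLt; have := l.isLt
      rcases Nat.lt_or_ge (l : ℕ) 1 with h | h <;> rcases Nat.lt_or_ge (i : ℕ) 1 with h' | h' <;>
        first | exact Or.inl (Fin.ext (by omega)) | exact Or.inr (Fin.ext (by omega))
    rcases this with rfl | rfl <;> assumption
  have hinvQ : ∀ c : K, π0 c = negOne → ∀ q ∈ Q, (c : G) * q * (c : G)⁻¹ * q ∈ zpowers z := by
    intro c hc q hq
    have f1 := (hfac 1 (hall 1)).2 (hcard 1) c hc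
    have f0 := (hfac 0 (hall 0)).2 (hcard 0) c hc
    set w := (c : G) * q * (c : G)⁻¹ * q with hw
    have hw1 : w ∈ A 1 := f1 q (by
      have : A (Fin.succ (1 : Fin 2)) = Q := hAr
      rw [this]; exact hq)
    have hcc : ∀ a ∈ Q, (c : G) * ((c : G) * a * (c : G)⁻¹) * (c : G)⁻¹ * a⁻¹ ∈ Z := fun a ha => by
      have h2 : ((c * c : K) : G) ∈ Q := (hker0 _).1 (by rw [map_mul, hc, negOne_mul_self])
      have := hcomZ _ h2 a ha
      simpa [mul_assoc] using this
    have hwQ : w ∈ Q := hAQ 1 hw1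
    have hw2 : (c : G) * w * (c : G)⁻¹ * w ∈ Z := by
      rw [← hA0]
      exact f0 w hw1
    -- `c` fixes `w` modulo the centre
    have hw3 : (c : G) * w * (c : G)⁻¹ * w⁻¹ ∈ Z := by
      have hcq := hnQ c c.2 q hq
      have e1 := hcc q hq
      have e2 := hcomZ q hq ((c : G) * q * (c : G)⁻¹) hcq
      have hc2 : (c : G) * w * (c : G)⁻¹ * w⁻¹ =
          ((c : G) * ((c : G) * q * (c : G)⁻¹) * (c : G)⁻¹ * q⁻¹) *
            (q * ((c : G) * q * (c : G)⁻¹) * q⁻¹ * ((c : G) * q * (c : G)⁻¹)⁻¹) := by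
        rw [hw]; group
      rw [hc2]; exact mul_mem e1 e2
    have hsq : w * w ∈ Z := by
      have h5 : w⁻¹ * ((c : G) * w * (c : G)⁻¹ * w⁻¹)⁻¹ * ((c : G) * w * (c : G)⁻¹ * w) * w = w * w * 1 := by group
      have hcen : ∀ x ∈ Z, w⁻¹ * x * w = x := fun x hx => by
        rw [hZeq] at hx
        obtain ⟨x', hx', rfl⟩ := hx
        have := congrArg Subtype.val (mem_center_iff.1 hx' ⟨w, hwQ⟩)
        simp only [Subgroup.coe_mul] at this
        simp [mul_assoc, ← this]
      have := hcen _ (mul_mem (inv_mem hw3) hw2)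
      rw [mul_one] at h5
      rw [← h5, mul_assoc w⁻¹]
      rw [this]
      exact mul_mem (inv_mem hw3) hw2
    rw [← hZz]
    have e : w * w * (w * w) = w := by
      rw [show w * w * (w * w) = w ^ 3 * w by simp [pow_three, mul_assoc], hQexp w hwQ, one_mul]
    exact e ▸ mul_mem hsq hsq
  obtain ⟨x, hxle, hxne⟩ := hZQ
  have hCc : K = centralizer ({z} : Set G) := by
    rw [hCZ, hZz]
    ext g
    simp only [mem_centralizer_singleton_iff, mem_centralizer_iff, SetLike.mem_coe]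
    constructor
    · intro h w hw
      rw [Set.mem_singleton_iff] at hw
      exact hw ▸ h z (mem_zpowers z)
    · intro h w hw
      obtain ⟨m, rfl⟩ := mem_zpowers_iff.1 hw
      exact ((show Commute g z from (h z rfl).symm).zpow_right m).eq.symm
  subst hCc
  refine ⟨{ z := z, Q := Q, π := π0, z_order := hzo, z_Q := hZQ' hzZ,
            Q_card := by rw [hQcard]; norm_num, Q_cube := hQexp,
            z_cen := fun a ha => ?_, Q_comm := fun a ha b hb => hZz ▸ hcomZ a ha b hb,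
            Q_cen := fun a ha h => ?_, cent_Q := fun g hg => hCQ (mem_centralizer_iff.2 fun q hq => (hg q hq).eq.symm),
            π_surj := hπ0, π_ker := hker0, sylow := fun P => ?_, inv_mod := hinvQ, g0 := x,
            y_Q := hxle ⟨z, hzZ, by simp⟩, y_not := fun h => ?_ }⟩
  · obtain ⟨w, hw, hwe⟩ := hZle hzZ
    have := congrArg Subtype.val (mem_center_iff.1 hw ⟨a, ha⟩)
    rw [← hwe]
    exact this.symm
  · rw [← hZz, hZeq]
    exact ⟨⟨a, ha⟩, mem_center_iff.2 fun b => Subtype.ext (h b b.2).eq.symm, rfl⟩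
  · rw [P.card_eq_multiplicity, ← S.card_eq_multiplicity, hScard]
  · refine hxne (eq_of_le_of_card_ge ?_ (by rw [card_map_of_injective (MulAut.conj x).injective]))
    rintro _ ⟨w, hw, rfl⟩
    rw [hZz] at hw ⊢
    obtain ⟨m, rfl⟩ := mem_zpowers_iff.1 hw
    rw [map_zpow]
    exact zpow_mem (by simpa using h) m

end Cfsg.Agent.Spor.L43Three
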